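import Mathlib.Algebra.Field.Basic
import Mathlib.Algebra.Module.End
import Mathlib.Algebra.Group.End
import Mathlib.Algebra.CharP.Two
import Mathlib.GroupTheory.QuotientGroup.Basic
import Mathlib.GroupTheory.Index
import Mathlib.FieldTheory.Finite.Basic
import Mathlib.LinearAlgebra.Dimension.Constructions
import Mathlib.Data.Fintype.EquivFin
import Mathlib.Tactic.Abel

/-!
The module of the open side: a group of operators with the root elements, the Weyl element and the torus of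
`SL(2, F)` on an elementary abelian group on which the root group is quadratic with the same fixed points as
each of its non-trivial elements, is the natural module modulo the common fixed points.

No presentation and no multiplier is used: the torus element is defined by the Bruhat relation.
-/

set_option autoImplicit false
set_option linter.unusedSectionVars false

namespace Cfsg.Agent.ABRec

universe u v

variable {V : Type u} [AddCommGroup V] {F : Type v} [Field F]

/-- The operators: `rt x` for the root element, `w` for the Weyl element, `Z` the fixed points of the root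
group. -/
structure ModData (V : Type u) [AddCommGroup V] (F : Type v) [Field F] where
  rt : F → (V →+ V)
  w : V →+ V
  Z : AddSubgroup V
  two : ∀ v : V, v + v = 0
  rt_zero : ∀ v, rt 0 v = v
  rt_add : ∀ x y v, rt (x + y) v = rt x (rt y v)
  ww : ∀ v, w (w v) = v
  rt_fix : ∀ x, ∀ z ∈ Z, rt x z = z
  rt_quad : ∀ x v, rt x v + v ∈ Z
  rt_free : ∀ x, x ≠ 0 → ∀ v, rt x v = v → v ∈ Z

namespace ModData

variable (D : ModData V F)

/-- The torus element, defined by the Bruhat relation `w u(x) w = u(1/x) w h(x) u(1/x)`. -/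
def h (x : F) : V →+ V :=
  D.w.comp ((D.rt x⁻¹).comp (D.w.comp ((D.rt x).comp (D.w.comp (D.rt x⁻¹)))))

theorem h_apply (x : F) (v : V) : D.h x v = D.w (D.rt x⁻¹ (D.w (D.rt x (D.w (D.rt x⁻¹ v))))) := rfl

/-- What the torus must satisfy; all hold in a central extension of odd order of `PSL(2, F)`. -/
structure IsTorus : Prop where
  mapsZ : ∀ x, x ≠ 0 → ∀ z ∈ D.Z, D.h x z ∈ D.Z
  comm : ∀ x y, x ≠ 0 → y ≠ 0 → ∀ v, D.h x (D.h y v) = D.h y (D.h x v)
  conj : ∀ t x, t ≠ 0 → ∀ v, D.h t (D.rt x v) = D.rt (t * t * x) (D.h t v)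
  one_w : ∀ v, D.h 1 (D.w v) = D.w (D.h 1 v)
  one_odd : ∃ k : ℕ, Odd k ∧ ∀ v, (D.h 1)^[k] v = v

/-- The common fixed points. -/
def C : AddSubgroup V := D.Z ⊓ D.Z.comap D.w

theorem mem_C {v : V} : v ∈ D.C ↔ v ∈ D.Z ∧ D.w v ∈ D.Z := Iff.rfl

theorem w_mem_C {v : V} (hv : v ∈ D.C) : D.w v ∈ D.C :=
  ⟨hv.2, by show D.w (D.w v) ∈ D.Z; rw [D.ww]; exact hv.1⟩

theorem rt_C {v : V} (hv : v ∈ D.C) (x : F) : D.rt x v = v := D.rt_fix x v hv.1

theorem mem_Z_iff {v : V} : v ∈ D.Z ↔ ∀ x, D.rt x v = v :=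
  ⟨fun hv x => D.rt_fix x v hv, fun hv => D.rt_free 1 one_ne_zero v (hv 1)⟩

variable {D}

theorem IsTorus.h_one_C (_hT : D.IsTorus) {c : V} (hc : c ∈ D.C) : D.h 1 c = D.w c := by
  rw [h_apply, inv_one, D.rt_fix 1 c hc.1, D.rt_fix 1 _ hc.2, D.ww, D.rt_fix 1 c hc.1]

/-- The common fixed points are fixed by the Weyl element. -/
theorem IsTorus.w_C (hT : D.IsTorus) {c : V} (hc : c ∈ D.C) : D.w c = c := by
  obtain ⟨k, ⟨m, rfl⟩, hid⟩ := hT.one_odd
  have h2 : ∀ n, (D.h 1)^[2 * n] c = c := by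
    intro n
    induction n with
    | zero => rfl
    | succ n ih =>
      rw [Nat.mul_succ, Function.iterate_add_apply]
      show (D.h 1)^[2 * n] (D.h 1 (D.h 1 c)) = c
      rw [hT.h_one_C hc, hT.h_one_C (D.w_mem_C hc), D.ww, ih]
  have h := hid c
  rw [show 2 * m + 1 = (2 * m).succ from rfl, Function.iterate_succ_apply', h2, hT.h_one_C hc] at h
  exact h

/-- `z ↦ [w z, u(x)]`. -/
def pre (D : ModData V F) (x : F) (z : V) : V := D.rt x (D.w z) + D.w z

theorem pre_mem (x : F) (z : V) : D.pre x z ∈ D.Z := D.rt_quad x (D.w z)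

theorem rt_w (x : F) (z : V) : D.rt x (D.w z) = D.pre x z + D.w z := by
  rw [pre, add_assoc, D.two, add_zero]

theorem pre_add (x y : F) (z : V) : D.pre (x + y) z = D.pre x z + D.pre y z := by
  rw [pre, D.rt_add, D.rt_w y, map_add, D.rt_fix x _ (pre_mem y z), D.rt_w x,
    show D.pre y z + (D.pre x z + D.w z) + D.w z = D.pre x z + D.pre y z + (D.w z + D.w z) by abel,
    D.two, add_zero]

theorem eq_sum_mem {a b : V} (ha : a ∈ D.Z) (hb : b ∈ D.Z) (h : a + D.w b ∈ D.C) : a ∈ D.C ∧ b ∈ D.C := by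
  have hwb : D.w b ∈ D.Z := by
    have h' := D.Z.add_mem ha h.1
    rwa [← add_assoc, D.two, zero_add] at h'
  have hbC : b ∈ D.C := ⟨hb, hwb⟩
  refine ⟨?_, hbC⟩
  have h' := D.C.add_mem h (D.w_mem_C hbC)
  rwa [add_assoc, D.two, add_zero] at h'

theorem pre_C (hT : D.IsTorus) {c : V} (hc : c ∈ D.C) (x : F) : D.pre x c = 0 := by
  rw [pre, hT.w_C hc, D.rt_C hc, D.two]

theorem h_C (hT : D.IsTorus) {c : V} (hc : c ∈ D.C) (x : F) : D.h x c = c := by
  rw [h_apply, D.rt_C hc, hT.w_C hc, D.rt_C hc, hT.w_C hc, D.rt_C hc, hT.w_C hc]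

/-- The relation on a fixed point of the root group, modulo the common fixed points. -/
theorem IsTorus.key (hT : D.IsTorus) {x : F} (hx : x ≠ 0) {z : V} (hz : z ∈ D.Z) :
    D.h x z + D.pre x z ∈ D.C ∧ z + D.pre x⁻¹ (D.pre x z) ∈ D.C := by
  set y := D.pre x z with hy
  set a := z + D.pre x⁻¹ y with ha
  have e : D.h x z = y + D.w a := by
    rw [h_apply, D.rt_fix _ z hz, D.rt_w x z, map_add, D.ww, map_add, D.rt_w x⁻¹, D.rt_fix _ z hz,
      show D.pre x⁻¹ y + D.w y + z = D.w y + a by rw [ha]; abel, map_add, D.ww]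
  have haZ : a ∈ D.Z := D.Z.add_mem hz (pre_mem _ _)
  have hwa : D.w a ∈ D.Z := by
    have h' := D.Z.add_mem (hT.mapsZ x hx z hz) (pre_mem x z)
    rwa [e, show y + D.w a + y = y + y + D.w a by abel, D.two, zero_add] at h'
  refine ⟨?_, ⟨haZ, hwa⟩⟩
  rw [e, show y + D.w a + y = y + y + D.w a by abel, D.two, zero_add]
  exact D.w_mem_C ⟨haZ, hwa⟩

/-- The torus on the image of the fixed points under the Weyl element. -/
theorem IsTorus.h_w (hT : D.IsTorus) {t : F} (ht : t ≠ 0) {z : V} (hz : z ∈ D.Z) :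
    ∃ c ∈ D.C, D.h t (D.w z) = c + D.w (D.pre t⁻¹ z) := by
  set y := D.pre t⁻¹ z with hy
  have hyZ : y ∈ D.Z := pre_mem _ _
  have hc : z + D.pre t y ∈ D.C := by
    have h := (hT.key (inv_ne_zero ht) hz).2
    rwa [inv_inv] at h
  refine ⟨z + D.pre t y, hc, ?_⟩
  rw [h_apply, D.rt_w t⁻¹ z, map_add, D.ww, map_add, D.rt_w t y, D.rt_fix t z hz,
    show D.pre t y + D.w y + z = z + D.pre t y + D.w y by abel, map_add, D.ww, hT.w_C hc, map_add,
    D.rt_C hc, D.rt_fix _ y hyZ, map_add, hT.w_C hc]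

/-! ### The fixed points modulo the common ones -/

variable (D)

/-- The fixed points of the root group modulo the common fixed points. -/
abbrev Zbar : Type u := ↥D.Z ⧸ D.C.addSubgroupOf D.Z

/-- The class in `Zbar`. -/
def cls (z : V) (hz : z ∈ D.Z) : D.Zbar := QuotientAddGroup.mk ⟨z, hz⟩

variable {D}

theorem cls_eq {a b : V} (ha : a ∈ D.Z) (hb : b ∈ D.Z) : D.cls a ha = D.cls b hb ↔ a + b ∈ D.C := by
  rw [cls, cls, QuotientAddGroup.eq, AddSubgroup.mem_addSubgroupOf]
  show -a + b ∈ D.C ↔ _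
  rw [neg_eq_of_add_eq_zero_left (D.two a)]

variable (D)

/-- `pre x` as a map of the fixed points. -/
def preHom (x : F) : ↥D.Z →+ ↥D.Z where
  toFun z := ⟨D.pre x (z : V), pre_mem (D := D) x (z : V)⟩
  map_zero' := Subtype.ext (by simp [pre])
  map_add' a b := Subtype.ext (by
    simp only [pre, AddSubgroup.coe_add, map_add]
    abel)

variable {D}

/-- The scalar action. -/
def act (hT : D.IsTorus) (x : F) : D.Zbar →+ D.Zbar :=
  QuotientAddGroup.map _ _ (D.preHom x) fun z hz => by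
    show D.pre x (z : V) ∈ D.C
    rw [pre_C hT (c := (z : V)) hz]
    exact D.C.zero_mem

theorem act_mk (hT : D.IsTorus) (x : F) {z : V} (hz : z ∈ D.Z) :
    act hT x (D.cls z hz) = D.cls (D.pre x z) (pre_mem x z) := rfl

theorem ind {P : D.Zbar → Prop} (h : ∀ z (hz : z ∈ D.Z), P (D.cls z hz)) (q : D.Zbar) : P q := by
  obtain ⟨⟨z, hz⟩, rfl⟩ := QuotientAddGroup.mk_surjective q
  exact h z hz

theorem act_h (hT : D.IsTorus) {x : F} (hx : x ≠ 0) {z : V} (hz : z ∈ D.Z) :
    act hT x (D.cls z hz) = D.cls (D.h x z) (hT.mapsZ x hx z hz) := by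
  rw [act_mk, cls_eq, add_comm]
  exact (hT.key hx hz).1

theorem act_add (hT : D.IsTorus) (x y : F) (q : D.Zbar) : act hT (x + y) q = act hT x q + act hT y q := by
  induction q using ind with
  | h z hz =>
    rw [act_mk, act_mk, act_mk]
    exact congrArg QuotientAddGroup.mk (Subtype.ext (pre_add x y z) : (⟨D.pre (x + y) z, pre_mem _ _⟩ : ↥D.Z) = ⟨D.pre x z, pre_mem _ _⟩ + ⟨D.pre y z, pre_mem _ _⟩)

theorem act_zero (hT : D.IsTorus) (q : D.Zbar) : act hT 0 q = 0 := by
  have h := act_add hT 0 0 q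
  rw [add_zero] at h
  exact left_eq_add.1 h

theorem act_inv (hT : D.IsTorus) {x : F} (hx : x ≠ 0) (q : D.Zbar) : act hT x⁻¹ (act hT x q) = q := by
  induction q using ind with
  | h z hz =>
    rw [act_mk, act_mk, cls_eq, add_comm]
    exact (hT.key hx hz).2

theorem act_one (hT : D.IsTorus) (q : D.Zbar) : act hT 1 q = q := by
  have h2 : ∀ q, act hT 1 (act hT 1 q) = q := fun q => by
    have h := act_inv hT (one_ne_zero : (1 : F) ≠ 0) q
    rwa [inv_one] at h
  induction q using ind with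
  | h z hz =>
    obtain ⟨k, ⟨m, rfl⟩, hid⟩ := hT.one_odd
    have hmem : ∀ n, (D.h 1)^[n] z ∈ D.Z := by
      intro n
      induction n with
      | zero => exact hz
      | succ n ih => rw [Function.iterate_succ_apply']; exact hT.mapsZ 1 one_ne_zero _ ih
    have step : ∀ n, D.cls _ (hmem n) = (act hT 1)^[n] (D.cls z hz) := by
      intro n
      induction n with
      | zero => rfl
      | succ n ih =>
        rw [Function.iterate_succ_apply' (f := act hT 1), ← ih, act_h hT one_ne_zero]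
        rw [cls_eq]
        rw [Function.iterate_succ_apply' (f := D.h 1), D.two]
        exact D.C.zero_mem
    have e : ∀ n, (act hT 1)^[2 * n] (D.cls z hz) = D.cls z hz := by
      intro n
      induction n with
      | zero => rfl
      | succ n ih => rw [Nat.mul_succ, Function.iterate_add_apply]; exact (congrArg _ (h2 _)).trans ih
    have h := step (2 * m + 1)
    rw [show 2 * m + 1 = (2 * m).succ from rfl, Function.iterate_succ_apply' (f := act hT 1), e] at h
    rw [← h]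
    exact congrArg QuotientAddGroup.mk (Subtype.ext (hid z))

theorem act_comm (hT : D.IsTorus) (x y : F) (q : D.Zbar) :
    act hT x (act hT y q) = act hT y (act hT x q) := by
  rcases eq_or_ne x 0 with rfl | hx
  · rw [act_zero, act_zero, map_zero]
  rcases eq_or_ne y 0 with rfl | hy
  · rw [act_zero, act_zero, map_zero]
  induction q using ind with
  | h z hz =>
    rw [act_h hT hy hz, act_h hT hx (hT.mapsZ y hy z hz), act_h hT hx hz, act_h hT hy (hT.mapsZ x hx z hz)]
    exact congrArg QuotientAddGroup.mk (Subtype.ext (hT.comm x y hx hy z))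

/-- Conjugation of the root group by the torus, read on the fixed points. -/
theorem act_conj (hT : D.IsTorus) {t : F} (ht : t ≠ 0) (x : F) (q : D.Zbar) :
    act hT (t * t * x) q = act hT t (act hT x (act hT t q)) := by
  have main : ∀ z, ∀ hz : z ∈ D.Z,
      act hT t (act hT x (D.cls z hz)) = act hT (t * t * x) (act hT t⁻¹ (D.cls z hz)) := by
    intro z hz
    obtain ⟨c, hc, he⟩ := hT.h_w ht hz
    have h := hT.conj t x ht (D.w z)
    rw [D.rt_w x z, map_add, he, map_add, D.rt_C hc, D.rt_w] at h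
    have h' : D.h t (D.pre x z) = D.pre (t * t * x) (D.pre t⁻¹ z) := by
      refine add_right_cancel (b := c + D.w (D.pre t⁻¹ z)) ?_
      rw [h]
      abel
    rw [act_mk, act_h hT ht (pre_mem x z), act_mk, act_mk]
    exact congrArg QuotientAddGroup.mk (Subtype.ext h')
  induction q using ind with
  | h z hz =>
    rw [act_mk hT t hz, main _ (pre_mem t z), ← act_mk hT t hz, act_inv hT ht]

variable [Finite F] [CharP F 2]

theorem exists_sq (s : F) : ∃ t : F, s = t * t :=
  haveI : Fintype F := Fintype.ofFinite F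
  FiniteField.isSquare_of_char_two (ringChar.eq F 2) s

theorem act_mul (hT : D.IsTorus) (s x : F) (q : D.Zbar) : act hT (s * x) q = act hT s (act hT x q) := by
  obtain ⟨t, rfl⟩ := exists_sq s
  rcases eq_or_ne t 0 with rfl | ht
  · rw [mul_zero, zero_mul, act_zero, act_zero]
  have h1 : ∀ r, act hT (t * t) r = act hT t (act hT t r) := fun r => by
    have h := act_conj hT ht 1 r
    rwa [mul_one, act_one] at h
  rw [act_conj hT ht, h1, act_comm hT x t]

/-- The ring homomorphism of the field into the endomorphisms of the fixed points. -/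
def scalar (hT : D.IsTorus) : F →+* AddMonoid.End D.Zbar where
  toFun x := act hT x
  map_one' := AddMonoidHom.ext (act_one hT)
  map_mul' s x := AddMonoidHom.ext (act_mul hT s x)
  map_zero' := AddMonoidHom.ext (act_zero hT)
  map_add' x y := AddMonoidHom.ext (act_add hT x y)

variable [Finite V]

theorem mk_smul_injective (hT : D.IsTorus) {q : D.Zbar} (hq : q ≠ 0) :
    Function.Injective fun x : F => act hT x q := by
  intro x y hxy
  by_contra hne
  have h0 : act hT (x + y) q = 0 := by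
    rw [act_add, show act hT x q = act hT y q from hxy, ← act_add, CharTwo.add_self_eq_zero, act_zero]
  have hxy0 : x + y ≠ 0 := fun e => hne (CharTwo.add_eq_zero.1 e)
  exact hq (by rw [← act_inv hT hxy0 q, h0, map_zero])

variable (D)

/-- The Weyl element from the fixed points to the quotient by them. -/
def wBar : D.Zbar →+ V ⧸ D.Z :=
  QuotientAddGroup.lift _ ((QuotientAddGroup.mk' D.Z).comp (D.w.comp D.Z.subtype)) fun z hz =>
    (QuotientAddGroup.eq_zero_iff _).2 (D.w_mem_C hz).1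

theorem wBar_injective : Function.Injective D.wBar := by
  rw [injective_iff_map_eq_zero]
  intro q
  induction q using ind with
  | h z hz =>
    intro h
    exact (QuotientAddGroup.eq_zero_iff _).2 ⟨hz, (QuotientAddGroup.eq_zero_iff (D.w z)).1 h⟩

variable {D}

theorem exists_ne (hne : ¬ D.Z ≤ D.C) : ∃ z, ∃ hz : z ∈ D.Z, D.cls z hz ≠ 0 := by
  obtain ⟨z, hz, hzC⟩ := Set.not_subset.1 hne
  exact ⟨z, hz, fun h => hzC ((QuotientAddGroup.eq_zero_iff (N := D.C.addSubgroupOf D.Z) ⟨z, hz⟩).1 h)⟩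

/-- The quotient by the fixed points has at least the order of the field. -/
theorem card_le (hT : D.IsTorus) (hne : ¬ D.Z ≤ D.C) : Nat.card F ≤ Nat.card (V ⧸ D.Z) := by
  obtain ⟨z, hz, h0⟩ := exists_ne hne
  exact (Nat.card_le_card_of_injective _ (mk_smul_injective hT h0)).trans
    (Nat.card_le_card_of_injective _ D.wBar_injective)

/-- The natural module. -/
theorem natural (hT : D.IsTorus) (hne : ¬ D.Z ≤ D.C) (hle : Nat.card (V ⧸ D.Z) ≤ Nat.card F) :
    ∃ ι : V →+ F × F, Function.Surjective ι ∧ ι.ker = D.C ∧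
      (∀ v, v ∈ D.Z ↔ (ι v).2 = 0) ∧
      (∀ x v, ι (D.rt x v) = ((ι v).1 + x * (ι v).2, (ι v).2)) ∧
      (∀ v, ι (D.w v) = ((ι v).2, (ι v).1)) ∧
      (∀ t, t ≠ 0 → ∀ v, ι (D.h t v) = (t * (ι v).1, t⁻¹ * (ι v).2)) := by
  obtain ⟨z₀, hz₀, h0⟩ := exists_ne hne
  have hi := mk_smul_injective hT h0
  have hi' : Function.Injective fun x : F => D.wBar (act hT x (D.cls z₀ hz₀)) := D.wBar_injective.comp hi
  have hb := hi'.bijective_of_nat_card_le hle
  have hs : Function.Surjective fun x : F => act hT x (D.cls z₀ hz₀) := fun q => by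
    obtain ⟨x, hx⟩ := hb.2 (D.wBar q)
    exact ⟨x, D.wBar_injective hx⟩
  let iZ : D.Zbar →+ V ⧸ D.C := QuotientAddGroup.map _ _ D.Z.subtype fun z hz => hz
  let iW : D.Zbar →+ V ⧸ D.C := QuotientAddGroup.map _ _ (D.w.comp D.Z.subtype) fun z hz => D.w_mem_C hz
  let sm : F →+ D.Zbar := AddMonoidHom.mk' (fun x => act hT x (D.cls z₀ hz₀)) fun x y => act_add hT x y _
  let ψ : F × F →+ V ⧸ D.C := (iZ.comp sm).coprod (iW.comp sm)
  have hsm : ∀ c x : F, sm (c * x) = act hT c (sm x) := fun c x => act_mul hT c x (D.cls z₀ hz₀)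
  have hdec : ∀ v : V, ∃ a b : F, ∃ z₁, ∃ h₁ : z₁ ∈ D.Z, ∃ z₂, ∃ h₂ : z₂ ∈ D.Z,
      v = z₁ + D.w z₂ ∧ sm a = D.cls z₁ h₁ ∧ sm b = D.cls z₂ h₂ := by
    intro v
    obtain ⟨b, hb'⟩ := hb.2 (QuotientAddGroup.mk v)
    have hz2 : D.pre b z₀ ∈ D.Z := pre_mem _ _
    have hz1 : v + D.w (D.pre b z₀) ∈ D.Z := by
      have h := QuotientAddGroup.eq.1 (show (QuotientAddGroup.mk (D.w (D.pre b z₀)) : V ⧸ D.Z) =
        QuotientAddGroup.mk v from hb')
      rwa [neg_eq_of_add_eq_zero_left (D.two _), add_comm] at h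
    obtain ⟨a, ha⟩ := hs (D.cls _ hz1)
    exact ⟨a, b, _, hz1, _, hz2, by rw [add_assoc, D.two, add_zero], ha, rfl⟩
  have hψ : ∀ a b z₁ (h₁ : z₁ ∈ D.Z) z₂ (h₂ : z₂ ∈ D.Z), sm a = D.cls z₁ h₁ → sm b = D.cls z₂ h₂ →
      ψ (a, b) = QuotientAddGroup.mk (z₁ + D.w z₂) := by
    intro a b z₁ h₁ z₂ h₂ ha hb'
    show iZ (sm a) + iW (sm b) = _
    rw [ha, hb']
    rfl
  have hψi : Function.Injective ψ := by
    rw [injective_iff_map_eq_zero]
    rintro ⟨a, b⟩ hab
    obtain ⟨⟨z₁, h₁⟩, ha⟩ := QuotientAddGroup.mk_surjective (sm a)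
    obtain ⟨⟨z₂, h₂⟩, hb'⟩ := QuotientAddGroup.mk_surjective (sm b)
    rw [hψ a b z₁ h₁ z₂ h₂ ha.symm hb'.symm, QuotientAddGroup.eq_zero_iff] at hab
    obtain ⟨c₁, c₂⟩ := D.eq_sum_mem h₁ h₂ hab
    refine Prod.ext (hi (?_ : sm a = sm 0)) (hi (?_ : sm b = sm 0))
    · rw [map_zero, ← ha]; exact (QuotientAddGroup.eq_zero_iff _).2 c₁
    · rw [map_zero, ← hb']; exact (QuotientAddGroup.eq_zero_iff _).2 c₂
  have hψs : Function.Surjective ψ := fun q => by
    obtain ⟨v, rfl⟩ := QuotientAddGroup.mk_surjective q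
    obtain ⟨a, b, z₁, h₁, z₂, h₂, rfl, ha, hb'⟩ := hdec v
    exact ⟨(a, b), hψ a b z₁ h₁ z₂ h₂ ha hb'⟩
  let e := AddEquiv.ofBijective ψ ⟨hψi, hψs⟩
  let ι : V →+ F × F := e.symm.toAddMonoidHom.comp (QuotientAddGroup.mk' D.C)
  have hι : ∀ v p, ψ p = QuotientAddGroup.mk v → ι v = p := fun v p h => by
    show e.symm (QuotientAddGroup.mk v) = p
    rw [AddEquiv.symm_apply_eq]
    exact h.symm
  have hιψ : ∀ v, ψ (ι v) = QuotientAddGroup.mk v := fun v => e.apply_symm_apply _
  refine ⟨ι, fun p => ?_, ?_, fun v => ?_, fun x v => ?_, fun v => ?_, fun t ht v => ?_⟩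
  · obtain ⟨v, hv⟩ := QuotientAddGroup.mk_surjective (ψ p)
    exact ⟨v, hι v p hv.symm⟩
  · ext v
    rw [AddMonoidHom.mem_ker, ← QuotientAddGroup.eq_zero_iff]
    constructor
    · intro h; rw [← hιψ v, h, map_zero]
    · intro h; exact hι v 0 (by rw [h, map_zero])
  all_goals
    obtain ⟨a, b, z₁, h₁, z₂, h₂, rfl, ha, hb'⟩ := hdec v
    rw [hι _ (a, b) (hψ a b z₁ h₁ z₂ h₂ ha hb')]
  · constructor
    · intro h
      have hw : D.w z₂ ∈ D.Z := by
        have h' := D.Z.add_mem h₁ h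
        rwa [← add_assoc, D.two, zero_add] at h'
      refine hi (?_ : sm b = sm 0)
      rw [map_zero, hb']
      exact (QuotientAddGroup.eq_zero_iff _).2 ⟨h₂, hw⟩
    · intro h
      rw [show b = 0 from h, map_zero, eq_comm, cls, QuotientAddGroup.eq_zero_iff] at hb'
      exact D.Z.add_mem h₁ hb'.2
  · refine hι _ _ ?_
    rw [hψ (a + x * b) b (z₁ + D.pre x z₂) (D.Z.add_mem h₁ (pre_mem x z₂)) z₂ h₂ ?_ hb', map_add,
      D.rt_fix x z₁ h₁, D.rt_w x z₂, add_assoc]
    rw [map_add, ha, hsm, hb', act_mk]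
    rfl
  · refine hι _ _ ?_
    rw [hψ b a z₂ h₂ z₁ h₁ hb' ha, map_add, D.ww, add_comm]
  · refine hι _ _ ?_
    obtain ⟨c, hc, he⟩ := hT.h_w ht h₂
    rw [hψ (t * a) (t⁻¹ * b) (D.h t z₁) (hT.mapsZ t ht z₁ h₁) (D.pre t⁻¹ z₂) (pre_mem _ _) ?_ ?_,
      QuotientAddGroup.eq, map_add, he, neg_eq_of_add_eq_zero_left (D.two _),
      show D.h t z₁ + D.w (D.pre t⁻¹ z₂) + (D.h t z₁ + (c + D.w (D.pre t⁻¹ z₂))) =
        c + (D.h t z₁ + D.h t z₁) + (D.w (D.pre t⁻¹ z₂) + D.w (D.pre t⁻¹ z₂)) by abel,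
      D.two, D.two, add_zero, add_zero]
    · exact hc
    · rw [hsm, ha, act_h hT ht]
    · rw [hsm, hb', act_mk]

/-- Non-trivial torus elements have no fixed points outside the common ones. -/
theorem mem_C_of_h_fix (hT : D.IsTorus) (hne : ¬ D.Z ≤ D.C) (hle : Nat.card (V ⧸ D.Z) ≤ Nat.card F)
    {t : F} (ht : t ≠ 0) (ht1 : t ≠ 1) {v : V} (hv : D.h t v = v) : v ∈ D.C := by
  obtain ⟨ι, -, hker, -, -, -, hh⟩ := natural hT hne hle
  rw [← hker, AddMonoidHom.mem_ker]
  have h := hh t ht v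
  rw [hv] at h
  have h1 : (ι v).1 = t * (ι v).1 := congrArg Prod.fst h
  have h2 : (ι v).2 = t⁻¹ * (ι v).2 := congrArg Prod.snd h
  refine Prod.ext ?_ ?_
  · by_contra hz
    exact ht1 (mul_right_cancel₀ (show (ι v).1 ≠ 0 from hz) (by rw [one_mul]; exact h1.symm))
  · by_contra hz
    exact ht1 (inv_eq_one.1 (mul_right_cancel₀ (show (ι v).2 ≠ 0 from hz) (by rw [one_mul]; exact h2.symm)))

end ModData

end Cfsg.Agent.ABRec
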