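import Cfsg.Agent.Lib.ABRec.Cover
import Cfsg.Agent.Lib.ABRec.Module
import Mathlib.Algebra.Group.End

/-!
The open side as an action: a Sylow 2-subgroup that is quadratic on an elementary abelian group with the same
fixed points as each of its non-trivial elements, these fixed points not being invariant.
-/

set_option autoImplicit false
set_option linter.unusedSectionVars false
set_option linter.style.haveILetI false

namespace Cfsg.Agent.ABRec

open Subgroup

universe u v

variable {X : Type u} [Group X] [Finite X] {V : Type v} [AddCommGroup V]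

/-- An open side. -/
structure Act (φ : X →* AddMonoid.End V) (T : Subgroup X) (Z : AddSubgroup V) : Prop where
  two : ∀ v : V, v + v = 0
  inj : Function.Injective φ
  index : ¬ 2 ∣ T.index
  four : 4 ≤ Nat.card T
  fix : ∀ t ∈ T, ∀ z ∈ Z, φ t z = z
  quad : ∀ t ∈ T, ∀ v, φ t v + v ∈ Z
  free : ∀ t ∈ T, t ≠ 1 → ∀ v, φ t v = v → v ∈ Z
  open_ : ∃ x : X, ∃ z ∈ Z, φ x z ∉ Z

theorem φ_mul (φ : X →* AddMonoid.End V) (a b : X) (v : V) : φ (a * b) v = φ a (φ b v) := by
  rw [map_mul]; rfl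

theorem φ_one (φ : X →* AddMonoid.End V) (v : V) : φ 1 v = v := by
  rw [map_one]; rfl

theorem φ_inv_apply (φ : X →* AddMonoid.End V) (a : X) (v : V) : φ a⁻¹ (φ a v) = v := by
  rw [← φ_mul, inv_mul_cancel, φ_one]

/-- The elements of the closure of `T` fix it. -/
def fixClosure (φ : X →* AddMonoid.End V) (T : Subgroup X) : AddSubgroup V where
  carrier := {v | ∀ e ∈ normalClosure (T : Set X), φ e v = v}
  zero_mem' := fun e _ => map_zero _
  add_mem' := fun ha hb e he => by rw [map_add, ha e he, hb e he]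
  neg_mem' := fun ha e he => by rw [map_neg, ha e he]

theorem mem_fixClosure {φ : X →* AddMonoid.End V} {T : Subgroup X} {v : V} :
    v ∈ fixClosure φ T ↔ ∀ e ∈ normalClosure (T : Set X), φ e v = v := Iff.rfl

namespace Act

variable {φ : X →* AddMonoid.End V} {T : Subgroup X} {Z : AddSubgroup V} (h : Act φ T Z)
include h

theorem eq_of_forall {a b : X} (hab : ∀ v, φ a v = φ b v) : a = b :=
  h.inj (AddMonoidHom.ext hab)

theorem sq_apply {x : X} (h1 : ∀ z ∈ Z, φ x z = z) (h2 : ∀ v, φ x v + v ∈ Z) : x * x = 1 := by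
  refine h.eq_of_forall fun v => ?_
  rw [φ_mul, φ_one]
  have e : φ x v = (φ x v + v) + v := by rw [add_assoc, h.two, add_zero]
  have e2 : φ x (φ x v) = (φ x v + v) + φ x v := by
    conv_lhs => rw [e]
    rw [map_add, h1 _ (h2 v)]
  rw [e2, add_comm (φ x v) v, add_assoc, h.two, add_zero]

theorem sq {t : X} (ht : t ∈ T) : t * t = 1 := h.sq_apply (h.fix t ht) (h.quad t ht)

theorem isPGroup : IsPGroup 2 T := fun t => ⟨1, Subtype.ext (by simpa [pow_two] using h.sq t.2)⟩

theorem exists_ne : ∃ t ∈ T, t ≠ 1 := by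
  haveI : Nontrivial T := Finite.one_lt_card_iff_nontrivial.1 (lt_of_lt_of_le (by norm_num : 1 < 4) h.four)
  obtain ⟨⟨t, ht⟩, hne⟩ := _root_.exists_ne (1 : T)
  exact ⟨t, ht, fun e => hne (Subtype.ext e)⟩

/-- The stabiliser of the series is `T`. -/
theorem stab_le {x : X} (h1 : ∀ z ∈ Z, φ x z = z) (h2 : ∀ v, φ x v + v ∈ Z) : x ∈ T := by
  haveI : Fact (Nat.Prime 2) := ⟨Nat.prime_two⟩
  let K : Subgroup X :=
    { carrier := {x | (∀ z ∈ Z, φ x z = z) ∧ ∀ v, φ x v + v ∈ Z}
      one_mem' := ⟨fun z _ => φ_one φ z, fun v => by rw [φ_one, h.two]; exact Z.zero_mem⟩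
      mul_mem' := fun {a b} ha hb => ⟨fun z hz => by rw [φ_mul, hb.1 z hz, ha.1 z hz], fun v => by
        rw [φ_mul, show φ a (φ b v) + v = φ a (φ b v) + φ b v + (φ b v + v) by
          rw [add_assoc, ← add_assoc (φ b v), h.two, zero_add]]
        exact Z.add_mem (ha.2 _) (hb.2 v)⟩
      inv_mem' := fun {a} ha => by
        rw [Set.mem_ofPred_eq, inv_eq_of_mul_eq_one_right (h.sq_apply ha.1 ha.2)]; exact ha }
  have hK : IsPGroup 2 K := fun t => ⟨1, Subtype.ext (by simpa [pow_two] using h.sq_apply t.2.1 t.2.2)⟩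
  have hTK : T ≤ K := fun t ht => ⟨h.fix t ht, h.quad t ht⟩
  exact ((h.isPGroup.toSylow h.index).is_maximal' hK hTK).le (show x ∈ K from ⟨h1, h2⟩)

theorem tI : TI T where
  index := h.index
  sq _ ht := h.sq ht
  four := h.four
  not_normal hn := by
    obtain ⟨x, z, hz, hxz⟩ := h.open_
    obtain ⟨t, ht, hne⟩ := h.exists_ne
    refine hxz (h.free t ht hne _ ?_)
    have hc : x⁻¹ * t * x ∈ T := by simpa using hn.conj_mem t ht x⁻¹
    have e := congrArg (φ x) (h.fix _ hc z hz)
    rwa [← φ_mul, show x * (x⁻¹ * t * x) = t * x by group, φ_mul] at e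
  ti x t ht hne hxt := by
    have hfix : ∀ z ∈ Z, φ x⁻¹ z ∈ Z := fun z hz => h.free t ht hne _ (by
      have e := congrArg (φ x⁻¹) (h.fix _ hxt z hz)
      rwa [← φ_mul, show x⁻¹ * (x * t * x⁻¹) = t * x⁻¹ by group, φ_mul] at e)
    have hfix' : ∀ z ∈ Z, φ x z ∈ Z := fun z hz => h.free _ hxt (fun e => hne (by simpa using e)) _ (by
      rw [← φ_mul, show x * t * x⁻¹ * x = x * t by group, φ_mul, h.fix t ht z hz])
    have hconj : ∀ s ∈ T, x * s * x⁻¹ ∈ T := fun s hs => h.stab_le
      (fun z hz => by rw [φ_mul, φ_mul, h.fix s hs _ (hfix z hz), ← φ_mul, mul_inv_cancel, φ_one])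
      (fun v => by
        have e : φ x (φ x⁻¹ v) = v := by rw [← φ_mul, mul_inv_cancel, φ_one]
        rw [φ_mul, φ_mul]
        nth_rewrite 2 [← e]
        rw [← map_add]
        exact hfix' _ (h.quad s hs _))
    refine mem_normalizer_fintype (fun s hs => hconj s hs)

section Root

variable {F : Type} [Field F] (R : Root T F)

omit h in
theorem rt_zero : R.rt 0 = 1 := by
  have e := R.rt_add 0 0
  rw [add_zero] at e
  exact left_eq_mul.1 e

/-- The operators of a root datum. -/
def modData : ModData V F where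
  rt a := φ (R.rt a)
  w := φ R.w
  Z := Z
  two := h.two
  rt_zero v := by rw [rt_zero R]; exact φ_one φ v
  rt_add a b v := by rw [R.rt_add]; exact φ_mul φ _ _ v
  ww v := by show φ R.w (φ R.w v) = v; rw [← φ_mul, R.ww, φ_one]
  rt_fix a z hz := h.fix _ (R.rt_mem a) z hz
  rt_quad a v := h.quad _ (R.rt_mem a) v
  rt_free a ha v hv := h.free _ (R.rt_mem a) (fun e => ha (R.rt_inj (e.trans (rt_zero R).symm))) v hv

theorem modData_h (x : F) (v : V) :
    (h.modData R).h x v = φ (R.w * R.rt x⁻¹ * R.w * R.rt x * R.w * R.rt x⁻¹) v := by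
  simp only [φ_mul]
  rfl

theorem isTorus : (h.modData R).IsTorus where
  mapsZ x hx z hz := by
    refine (h.modData R).rt_free 1 one_ne_zero _ ?_
    rw [h.modData_h]
    show φ (R.rt 1) _ = _
    have e := R.conj x (x * x)⁻¹ hx
    rw [mul_inv_cancel₀ (mul_ne_zero hx hx)] at e
    rw [← φ_mul, ← e, φ_mul, h.fix _ (R.rt_mem _) z hz]
  comm x y hx hy v := by
    rw [h.modData_h, h.modData_h, h.modData_h, h.modData_h, ← φ_mul, ← φ_mul, (R.comm x y hx hy).eq]
  conj t x ht v := by
    show (h.modData R).h t (φ (R.rt x) v) = φ (R.rt (t * t * x)) _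
    rw [h.modData_h, h.modData_h, ← φ_mul, ← φ_mul, R.conj t x ht]
  one_w v := by
    show (h.modData R).h 1 (φ R.w v) = φ R.w _
    rw [h.modData_h, h.modData_h, ← φ_mul, ← φ_mul, inv_one, R.one_w.eq]
  one_odd := by
    obtain ⟨k, hk, hk1⟩ := R.odd 1 one_ne_zero
    refine ⟨k, hk, fun v => ?_⟩
    have e : ∀ n : ℕ, ((h.modData R).h 1)^[n] v =
        φ ((R.w * R.rt (1 : F)⁻¹ * R.w * R.rt 1 * R.w * R.rt (1 : F)⁻¹) ^ n) v := by
      intro n
      induction n with
      | zero => rw [pow_zero, φ_one]; rfl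
      | succ n ih =>
        rw [Function.iterate_succ_apply', ih, h.modData_h]
        simp only [← φ_mul, mul_assoc, pow_succ']
    rw [e k, hk1, φ_one]

theorem C_eq : (h.modData R).C = fixClosure φ T := by
  ext v
  constructor
  · intro hv
    rw [mem_fixClosure]
    intro e he
    rw [← R.closure_eq] at he
    induction he using closure_induction with
    | mem y hy =>
      rcases hy with hy | rfl
      · exact h.fix y hy v hv.1
      · exact (h.isTorus R).w_C hv
    | one => exact φ_one φ v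
    | mul a b _ _ ha hb => rw [φ_mul, hb, ha]
    | inv a _ ha => conv_lhs => rw [← ha, φ_inv_apply]
  · intro hv
    obtain ⟨t, ht, hne⟩ := h.exists_ne
    have hvZ : v ∈ Z := h.free t ht hne v (hv t (subset_normalClosure ht))
    refine ⟨hvZ, ?_⟩
    show φ R.w v ∈ Z
    rw [hv R.w (by rw [← R.closure_eq]; exact subset_closure (Or.inr rfl))]
    exact hvZ

theorem not_Z_le : ¬ Z ≤ (h.modData R).C := by
  intro hle
  obtain ⟨x, z, hz, hxz⟩ := h.open_
  refine hxz ?_
  have hzC : z ∈ fixClosure φ T := (h.C_eq R) ▸ hle hz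
  have hxC : φ x z ∈ fixClosure φ T := fun e he => by
    rw [← φ_mul, show e * x = x * (x⁻¹ * e * x) by group, φ_mul,
      hzC _ (by simpa using normalClosure_normal.conj_mem e he x⁻¹)]
  have hC : φ x z ∈ (h.modData R).C := (h.C_eq R).symm ▸ hxC
  exact hC.1

end Root

theorem fixClosure_le : fixClosure φ T ≤ Z := fun v hv => by
  obtain ⟨t, ht, hne⟩ := h.exists_ne
  exact h.free t ht hne v (hv t (subset_normalClosure ht))

variable [Finite V]

/-- The root group is not larger than the quotient by its fixed points. -/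
theorem card_le : Nat.card T ≤ Nat.card (V ⧸ Z) := by
  obtain ⟨F, i1, i2, i3, hF, ⟨R⟩⟩ := h.tI.exists_root
  have e := ModData.card_le (h.isTorus R) (h.not_Z_le R)
  rw [Nat.card_eq_fintype_card (α := F), hF] at e
  exact e

/-- If the quotient by the fixed points is not larger than the root group, the closure of the root group is
`SL(2, F)` on the natural module. -/
theorem natural (hle : Nat.card (V ⧸ Z) ≤ Nat.card T) :
    ∃ (F : Type) (_ : Field F) (_ : Fintype F) (_ : CharP F 2) (R : Root T F) (τ : Fˣ →* X) (ι : V →+ F × F),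
      Fintype.card F = Nat.card T ∧ Function.Surjective ι ∧ ι.ker = fixClosure φ T ∧
      (∀ v, v ∈ Z ↔ (ι v).2 = 0) ∧
      (∀ x v, ι (φ (R.rt x) v) = ((ι v).1 + x * (ι v).2, (ι v).2)) ∧
      (∀ v, ι (φ R.w v) = ((ι v).2, (ι v).1)) ∧
      (∀ t : Fˣ, τ t = R.w * R.rt (t : F)⁻¹ * R.w * R.rt (t : F) * R.w * R.rt (t : F)⁻¹) ∧
      (∀ (t : Fˣ) v, ι (φ (τ t) v) = ((t : F) * (ι v).1, (t : F)⁻¹ * (ι v).2)) := by
  obtain ⟨F, i1, i2, i3, hF, ⟨R⟩⟩ := h.tI.exists_root
  obtain ⟨ι, hs, hker, hZ, hrt, hw, hh⟩ := ModData.natural (h.isTorus R) (h.not_Z_le R) (by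
    rw [Nat.card_eq_fintype_card (α := F), hF]; exact hle)
  rw [h.C_eq R] at hker
  set H : F → X := fun x => R.w * R.rt x⁻¹ * R.w * R.rt x * R.w * R.rt x⁻¹ with hH
  have hmem : ∀ x, H x ∈ normalClosure (T : Set X) := fun x => by
    have hw' : R.w ∈ normalClosure (T : Set X) := R.closure_eq ▸ subset_closure (Or.inr rfl)
    have hr : ∀ a, R.rt a ∈ normalClosure (T : Set X) := fun a => subset_normalClosure (R.rt_mem a)
    simp only [hH]
    exact mul_mem (mul_mem (mul_mem (mul_mem (mul_mem hw' (hr _)) hw') (hr _)) hw') (hr _)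
  have hHι : ∀ x, x ≠ 0 → ∀ v, ι (φ (H x) v) = (x * (ι v).1, x⁻¹ * (ι v).2) := fun x hx v => by
    have e := hh x hx v
    rwa [h.modData_h] at e
  -- an element of odd order in the closure, trivial on the natural quotient, is trivial
  have hone : ∀ d ∈ normalClosure (T : Set X), (∃ k, Odd k ∧ d ^ k = 1) → (∀ v, ι (φ d v) = ι v) → d = 1 := by
    rintro d hd ⟨k, hk, hdk⟩ hdι
    refine h.eq_of_forall fun v => ?_
    have hdd : ∀ u, φ d u + u ∈ fixClosure φ T := fun u => by
      rw [← hker, AddMonoidHom.mem_ker, map_add, hdι, ← map_add, h.two, map_zero]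
    have h2 : φ (d ^ 2) v = v := by
      have e : φ d v = (φ d v + v) + v := by rw [add_assoc, h.two, add_zero]
      have e2 : φ d (φ d v) = (φ d v + v) + φ d v := by
        conv_lhs => rw [e]
        rw [map_add, hdd v d hd]
      rw [pow_two, φ_mul, e2, add_comm (φ d v) v, add_assoc, h.two, add_zero]
    have hpow : ∀ n, φ ((d ^ 2) ^ n) v = v := by
      intro n
      induction n with
      | zero => rw [pow_zero, φ_one]
      | succ n ih => rw [pow_succ, φ_mul, h2, ih]
    obtain ⟨m, rfl⟩ := hk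
    rw [φ_one, ← hpow m]
    rw [← φ_mul, ← pow_mul, ← pow_succ', hdk, φ_one, pow_mul, hpow m]
  have hmul : ∀ s t : Fˣ, H ((s * t : Fˣ) : F) = H s * H t := by
    intro s t
    rw [eq_comm, ← mul_inv_eq_one]
    refine hone _ (mul_mem (mul_mem (hmem _) (hmem _)) (inv_mem (hmem _))) ?_ fun v => ?_
    · obtain ⟨k, hk, hk1⟩ := R.odd s s.ne_zero
      obtain ⟨l, hl, hl1⟩ := R.odd t t.ne_zero
      obtain ⟨m, hm, hm1⟩ := R.odd ((s * t : Fˣ) : F) (s * t : Fˣ).ne_zero
      refine ⟨k * l * m, (hk.mul hl).mul hm, ?_⟩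
      have hc1 : Commute (H s) (H t) := R.comm _ _ s.ne_zero t.ne_zero
      have hc2 : Commute (H s * H t) (H ((s * t : Fˣ) : F))⁻¹ :=
        ((R.comm _ _ s.ne_zero (s * t : Fˣ).ne_zero).mul_left (R.comm _ _ t.ne_zero (s * t : Fˣ).ne_zero)).inv_right
      rw [hc2.mul_pow, hc1.mul_pow, show k * l * m = k * (l * m) by ring, pow_mul (H s), hk1, one_pow,
        show k * (l * m) = l * (k * m) by ring, pow_mul (H t), hl1, one_pow,
        show l * (k * m) = m * (k * l) by ring, inv_pow, pow_mul, hm1, one_pow, inv_one, mul_one, mul_one]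
    · have e := hHι _ (s * t : Fˣ).ne_zero (φ (H ((s * t : Fˣ) : F))⁻¹ v)
      rw [← φ_mul φ (H _), mul_inv_cancel, φ_one] at e
      rw [φ_mul, φ_mul, hHι _ s.ne_zero, hHι _ t.ne_zero, e]
      refine Prod.ext ?_ ?_
      · simp [mul_assoc]
      · simp only [Units.val_mul, mul_inv, mul_assoc]
  exact ⟨F, i1, i2, i3, R, MonoidHom.mk' (fun t : Fˣ => H t) hmul, ι, hF, hs, hker, hZ,
    fun x v => hrt x v, fun v => hw v, fun t => rfl, fun t v => hHι _ t.ne_zero v⟩

end Act

end Cfsg.Agent.ABRec
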