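import Cfsg.Agent.Lib.ABRec.CentFix
import Cfsg.Agent.Lib.Signalizer.SFT.Main
import Cfsg.Agent.Lib.Components.LocalBalance
import Cfsg.Agent.Lib.Involutions.StronglyEmbedded
import Cfsg.Agent.Lib.GoldStruct.Kind
import Cfsg.Agent.Lib.SEMain.Proof
import Cfsg.Agent.Lib.OddChar.OddTheorem

/-!
A simple group with Sylow 2-subgroup `A B`, both sides open: every involution centraliser has trivial odd core,
and the centraliser of a nontrivial `z ∈ A ⊓ B` lies in `N(A)` unless `z` is fixed by the open side of `B`.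
-/

set_option autoImplicit false
set_option linter.style.haveILetI false
set_option linter.unusedSectionVars false

namespace Cfsg.Agent.ABRec

open Subgroup Cfsg.Agent.GoldStruct

universe u

variable {G : Type u} [Group G] [Finite G]

/-- An open side: `C ≤ A ⊓ B` is fixed, the conjugates of `A ⊓ B` cover `A` and meet in `C`. -/
structure Lines (A B C : Subgroup G) : Prop where
  le : C ≤ A ⊓ B
  norm : normalizer (A : Set G) ≤ normalizer (C : Set G)
  fix : ∀ n ∈ normalizer (A : Set G), ∀ z ∈ A, z ∈ B → z ∉ C → n * z * n⁻¹ = z →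
    ∀ x ∈ A, x ∈ B → n * x * n⁻¹ ∈ B
  cov : ∀ a ∈ A, ∃ n ∈ normalizer (A : Set G), (∀ c ∈ C, Commute n c) ∧ n * a * n⁻¹ ∈ B
  pair : ∃ n₁ ∈ normalizer (A : Set G), ∃ n₂ ∈ normalizer (A : Set G),
    (∀ c ∈ C, Commute n₁ c) ∧ (∀ c ∈ C, Commute n₂ c) ∧
    (∀ a ∈ A, a ∈ B → n₁ * a * n₁⁻¹ ∈ B → a ∈ C) ∧ (∀ a ∈ A, a ∈ B → n₂ * a * n₂⁻¹ ∈ B → a ∈ C) ∧
    ∀ a ∈ A, ∃ u ∈ A, ∃ v ∈ A, u * v = a ∧ n₁ * u * n₁⁻¹ ∈ B ∧ n₂ * v * n₂⁻¹ ∈ B
  indep : ∃ b₁ ∈ B, ∃ b₂ ∈ B, b₁ ∉ A ∧ b₂ ∉ A ∧ b₁ * b₂ ∉ A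

/-- Both sides open. -/
structure CentData (S : Sylow 2 G) (A B CA CB : Subgroup G) : Prop where
  two : TwoEA S A B
  card : Nat.card A = Nat.card B
  nc : ∀ g : G, A.map (MulAut.conj g).toMonoidHom ≠ B
  gen : A ⊓ B ≤ closure {x | ∃ a ∈ A, ∃ b ∈ B, x = a * b * a⁻¹ * b⁻¹}
  four : 4 ≤ Nat.card ↥(A ⊓ B)
  disj : ∀ z ∈ CA, z ∈ CB → z = 1
  sideA : Lines A B CA
  sideB : Lines B A CB

/-- The subgroup generated by the odd cores of the centralisers of the elements of `Z`. -/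
noncomputable def centW (Z : Subgroup G) : Subgroup G :=
  ⨆ z : {z : G // z ∈ Z ∧ z ≠ 1}, Cfsg.centralizerPPrimeCore 2 (z : G)

theorem mem_centCore_conj (n a x : G) :
    n * x * n⁻¹ ∈ Cfsg.centralizerPPrimeCore 2 (n * a * n⁻¹) ↔ x ∈ Cfsg.centralizerPPrimeCore 2 a := by
  haveI : Fact (Nat.Prime 2) := ⟨Nat.prime_two⟩
  show MulAut.conj n x ∈ Cfsg.centralizerPPrimeCore 2 (MulAut.conj n a) ↔ _
  rw [← Components.centralizerPPrimeCore_map_equiv]
  exact Subgroup.mem_map_iff_mem (MulAut.conj n).injective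

theorem odd_centCore (a : G) : Odd (Nat.card (Cfsg.centralizerPPrimeCore 2 a)) := by
  haveI : Fact (Nat.Prime 2) := ⟨Nat.prime_two⟩
  exact Nat.coprime_two_right.1 (Components.centralizerPPrimeCore_props (p := 2) a).2.2

theorem centCore_normalised {a p : G} (h : p * a = a * p) :
    p ∈ normalizer ((Cfsg.centralizerPPrimeCore 2 a : Subgroup G) : Set G) := by
  haveI : Fact (Nat.Prime 2) := ⟨Nat.prime_two⟩
  refine (Components.centralizerPPrimeCore_props (p := 2) a).2.1 ?_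
  rw [zpowers_eq_closure, centralizer_closure]
  exact mem_centralizer_singleton_iff.2 h

theorem normalizer_to {M H : Subgroup G} (hM : H ≤ M) {k : M}
    (hk : k ∈ normalizer ((H.subgroupOf M : Subgroup M) : Set M)) : (k : G) ∈ normalizer (H : Set G) :=
  SEBrick.mem_normalizer_of fun x hx => (mem_normalizer_iff.1 hk ⟨x, hM hx⟩).1 hx

theorem normalizer_of {M H : Subgroup G} {k : M} (hk : (k : G) ∈ normalizer (H : Set G)) :
    k ∈ normalizer ((H.subgroupOf M : Subgroup M) : Set M) :=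
  SEBrick.mem_normalizer_of fun x hx => (mem_normalizer_iff.1 hk (x : G)).1 hx

variable {S : Sylow 2 G} {A B CA CB : Subgroup G}

namespace CentData

variable (h : CentData S A B CA CB)
include h

theorem symm : CentData S B A CB CA where
  two := h.two.symm
  card := h.card.symm
  nc := fun g e => h.nc g⁻¹ (by
    rw [← e]
    ext x
    constructor
    · rintro ⟨_, ⟨b, hb, rfl⟩, rfl⟩
      show g⁻¹ * (g * b * g⁻¹) * g⁻¹⁻¹ ∈ B
      rwa [show g⁻¹ * (g * b * g⁻¹) * g⁻¹⁻¹ = b by group]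
    · intro hx
      exact ⟨g * x * g⁻¹, ⟨x, hx, rfl⟩, show g⁻¹ * (g * x * g⁻¹) * g⁻¹⁻¹ = x by group⟩)
  gen := by
    rw [inf_comm]
    refine h.gen.trans ((Subgroup.closure_le _).2 ?_)
    rintro _ ⟨a, ha, b, hb, rfl⟩
    rw [SetLike.mem_coe, ← inv_mem_iff]
    exact subset_closure ⟨b, hb, a, ha, by group⟩
  four := by rw [inf_comm]; exact h.four
  disj := fun z hz hz' => h.disj z hz' hz
  sideA := h.sideB
  sideB := h.sideA

theorem sylow_le_cent {z : G} (hzA : z ∈ A) (hzB : z ∈ B) :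
    (S : Subgroup G) ≤ centralizer ({z} : Set G) :=
  fun _ hs => mem_centralizer_singleton_iff.2 (h.two.central_of_mem hzA hzB hs).eq

/-- `A` is strongly closed in the centraliser. -/
theorem sc_cent {z : G} (hzA : z ∈ A) (hzB : z ∈ B) (hz : z ∉ CB) :
    SC (S.subtype (h.sylow_le_cent hzA hzB)) (A.subgroupOf (centralizer ({z} : Set G))) := by
  have hle := h.sylow_le_cent hzA hzB
  have hA' := h.two.leA.trans hle
  have hB' := h.two.leB.trans hle
  refine sc_of_fix (h.two.restrict hle) ?_ (fun g e => h.nc (g : G) ?_) fun k hk x hxA hxB => ?_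
  · rw [Nat.card_congr (subgroupOfEquivOfLe hA').toEquiv, Nat.card_congr (subgroupOfEquivOfLe hB').toEquiv, h.card]
  · refine Subgroup.eq_of_le_of_card_ge ?_
      (by rw [card_map_of_injective (MulAut.conj (g : G)).injective, h.card])
    rintro _ ⟨a, ha, rfl⟩
    have hm : g * ⟨a, hA' ha⟩ * g⁻¹ ∈ B.subgroupOf (centralizer ({z} : Set G)) :=
      e ▸ ⟨⟨a, hA' ha⟩, ha, rfl⟩
    exact hm
  · refine h.sideB.fix (k : G) (normalizer_to hB' hk) z hzB hzA hz ?_ (x : G) hxB hxA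
    rw [mem_centralizer_singleton_iff.1 k.2, mul_inv_cancel_right]

/-- `A` is normal in the centraliser modulo the odd core. -/
theorem normal_cent (hg : GoldInputs.{u}) {z : G} (hzA : z ∈ A) (hzB : z ∈ B) (hz : z ∉ CB) :
    ((A.subgroupOf (centralizer ({z} : Set G))).map
      (QuotientGroup.mk' (Cfsg.pPrimeCore 2 ↥(centralizer ({z} : Set G))))).Normal := by
  have hle := h.sylow_le_cent hzA hzB
  obtain ⟨M, hM⟩ : ∃ M : Subgroup G, M = centralizer ({z} : Set G) := ⟨_, rfl⟩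
  have hT := h.two.restrict hle
  have hgen : A.subgroupOf (centralizer ({z} : Set G)) ⊓ B.subgroupOf (centralizer ({z} : Set G)) ≤
      closure {x | ∃ a ∈ A.subgroupOf (centralizer ({z} : Set G)), ∃ b ∈ B.subgroupOf (centralizer ({z} : Set G)),
        x = a * b * a⁻¹ * b⁻¹} := by
    rintro x ⟨hxA, hxB⟩
    have hsub : closure {x | ∃ a ∈ A, ∃ b ∈ B, x = a * b * a⁻¹ * b⁻¹} ≤
        (closure {x | ∃ a ∈ A.subgroupOf (centralizer ({z} : Set G)), ∃ b ∈ B.subgroupOf (centralizer ({z} : Set G)),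
          x = a * b * a⁻¹ * b⁻¹}).map (centralizer ({z} : Set G)).subtype := by
      rw [Subgroup.closure_le]
      rintro _ ⟨a, ha, b, hb, rfl⟩
      exact ⟨_, subset_closure ⟨⟨a, hle (h.two.leA ha)⟩, ha, ⟨b, hle (h.two.leB hb)⟩, hb, rfl⟩, rfl⟩
    obtain ⟨y, hy, e⟩ := hsub (h.gen ⟨hxA, hxB⟩)
    rwa [Subtype.ext e] at hy
  by_cases hzC : z ∈ CA
  · obtain ⟨n₁, hn₁, n₂, hn₂, hc₁, hc₂, h1, h2, hfill⟩ := h.sideA.pair
    have hmem : ∀ {n : G}, (∀ c ∈ CA, Commute n c) → n ∈ centralizer ({z} : Set G) := fun hn =>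
      mem_centralizer_singleton_iff.2 (hn z hzC).eq
    obtain ⟨b₁, hb₁, b₂, hb₂, e1, e2, e3⟩ := h.sideA.indep
    refine split_of_lines hT hg (h.sc_cent hzA hzB hz)
      ⟨⟨b₁, hle (h.two.leB hb₁)⟩, hb₁, ⟨b₂, hle (h.two.leB hb₂)⟩, hb₂, e1, e2, e3⟩ hgen ?_
      (D := CA.subgroupOf _) (fun x hx => h.sideA.le hx) ?_
      (n₁ := ⟨n₁, hmem hc₁⟩) (n₂ := ⟨n₂, hmem hc₂⟩) (normalizer_of hn₁) (normalizer_of hn₂)
      (fun a ha hb hc => h1 a ha hb hc) (fun a ha hb hc => h2 a ha hb hc) ?_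
    · intro a ha
      obtain ⟨n, hn, hnc, hnB⟩ := h.sideA.cov (a : G) ha
      exact ⟨⟨n, hmem hnc⟩, normalizer_of hn, hnB⟩
    · intro k hk
      exact normalizer_of (h.sideA.norm (normalizer_to (h.two.leA.trans hle) hk))
    · intro a ha
      obtain ⟨u, hu, v, hv, e, hu', hv'⟩ := hfill (a : G) ha
      exact ⟨⟨u, hle (h.two.leA hu)⟩, hu, ⟨v, hle (h.two.leA hv)⟩, hv, Subtype.ext e, hu', hv'⟩
  · exact split_of_two hT hg (h.sc_cent hzA hzB hz) (h.symm.sc_cent hzB hzA hzC) hgen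

theorem ne_one {z : G} (hz : z ∉ CB) : z ≠ 1 := fun e => hz (e ▸ one_mem CB)

theorem balance_mid (hg : GoldInputs.{u}) {a b : G} (ha : a ∈ A) (hbA : b ∈ A) (hbB : b ∈ B) (hb1 : b ≠ 1) :
    Cfsg.centralizerPPrimeCore 2 a ⊓ centralizer ({b} : Set G) ≤ Cfsg.centralizerPPrimeCore 2 b := by
  have hle := h.sylow_le_cent hbA hbB
  have hT := h.two.restrict hle
  obtain ⟨D, hD⟩ : ∃ D : Subgroup ↥(centralizer ({b} : Set G)),
      D = (Cfsg.centralizerPPrimeCore 2 a).subgroupOf (centralizer ({b} : Set G)) := ⟨_, rfl⟩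
  suffices key : D ≤ Cfsg.pPrimeCore 2 ↥(centralizer ({b} : Set G)) by
    rintro x ⟨hx, hxb⟩
    exact ⟨⟨x, hxb⟩, key (hD ▸ hx), rfl⟩
  have hDodd : Odd (Nat.card D) := hD ▸
    (odd_centCore a).of_dvd_nat (Subgroup.card_comap_dvd_of_injective _ _ (subtype_injective _))
  have hn : ∀ H : Subgroup G, (∀ p ∈ H, p * a = a * p) →
      H.subgroupOf (centralizer ({b} : Set G)) ≤ normalizer (D : Set _) := fun H hH p hp => by
    rw [hD]
    exact normalizer_of (centCore_normalised (hH _ hp))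
  have hnA := hn A fun p hp => h.two.commA hp ha
  by_cases hbC : b ∈ CB
  · have hbC' : b ∉ CA := fun e => hb1 (h.disj b e hbC)
    have hN := h.symm.normal_cent hg hbB hbA hbC'
    by_cases haB : a ∈ B
    · exact le_core_of_normal hT.symm hDodd (hn B fun p hp => h.two.commB hp haB) hN
    · refine le_core_of_fix hT hDodd hnA hN (a := ⟨a, hle (h.two.leA ha)⟩) ha haB fun d hd => ?_
      have hd' : (d : G) ∈ centralizer ({a} : Set G) := map_subtype_le _ (by rw [hD] at hd; exact hd)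
      exact Subtype.ext (mem_centralizer_singleton_iff.1 hd')
  · exact le_core_of_normal hT hDodd hnA (h.normal_cent hg hbA hbB hbC)

theorem balance (hg : GoldInputs.{u}) {a b : G} (ha : a ∈ A) (hb : b ∈ A) (hb1 : b ≠ 1) :
    Cfsg.centralizerPPrimeCore 2 a ⊓ centralizer ({b} : Set G) ≤ Cfsg.centralizerPPrimeCore 2 b := by
  obtain ⟨n, hn, -, hnB⟩ := h.sideA.cov b hb
  rintro x ⟨hx, hxb⟩
  have hxb' : x * b = b * x := mem_centralizer_singleton_iff.1 hxb
  refine (mem_centCore_conj n b x).1 (h.balance_mid hg (a := n * a * n⁻¹) (b := n * b * n⁻¹)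
    ((mem_normalizer_iff.1 hn a).1 ha) ((mem_normalizer_iff.1 hn b).1 hb) hnB ?_
    ⟨(mem_centCore_conj n a x).2 hx, mem_centralizer_singleton_iff.2 ?_⟩)
  · rwa [Ne, conj_eq_one_iff]
  · calc n * x * n⁻¹ * (n * b * n⁻¹) = n * (x * b) * n⁻¹ := by group
      _ = n * b * n⁻¹ * (n * x * n⁻¹) := by rw [hxb']; group

theorem ea : Cfsg.IsElementaryAbelian 2 A :=
  ⟨.of_setLike_mul_comm fun _ ha _ hb => h.two.commA ha hb, fun a ha => by rw [pow_two]; exact h.two.sqA a ha⟩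

theorem eight : 2 ^ 3 ≤ Nat.card A := by
  haveI : Fact (Nat.Prime 2) := ⟨Nat.prime_two⟩
  obtain ⟨k, hk⟩ := IsPGroup.iff_card.1 (S.2.to_le h.two.leA)
  have hlt : Nat.card ↥(A ⊓ B) < Nat.card A := by
    by_contra hc
    obtain ⟨a, ha, haB⟩ := h.two.exA
    exact haB ((Subgroup.eq_of_le_of_card_ge (inf_le_left : A ⊓ B ≤ A) (not_lt.1 hc)).symm ▸ ha : a ∈ A ⊓ B).2
  have h4 := h.four
  rw [hk] at hlt ⊢
  refine Nat.pow_le_pow_right two_pos ?_
  by_contra hc
  have : 2 ^ k ≤ 2 ^ 2 := Nat.pow_le_pow_right two_pos (by omega)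
  omega

theorem functor (hg : GoldInputs.{u}) :
    Cfsg.IsSolvableSignalizerFunctor 2 A (fun a => Cfsg.centralizerPPrimeCore 2 a) :=
  ⟨⟨fun a _ _ => map_subtype_le _,
    fun a _ _ hd => Nat.not_even_iff_odd.2 (odd_centCore a) (even_iff_two_dvd.2 hd),
    fun a ha _ b hb x hx => (mem_normalizer_iff.1 (centCore_normalised (h.two.commA hb ha)) x).1 hx,
    fun a ha _ b hb hb1 => h.balance hg ha hb hb1⟩,
    fun a _ _ => OddChar.oddSolvable _ (odd_centCore a)⟩

theorem closure_eq (hg : GoldInputs.{u}) :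
    centW A = centW (A ⊓ B) ∧ Odd (Nat.card (centW A)) ∧ Group.IsSolvable (centW A) := by
  haveI : Fact (Nat.Prime 2) := ⟨Nat.prime_two⟩
  obtain ⟨hmem, hinf⟩ := Signalizer.SFT.iSup_props h.ea h.eight (h.functor hg)
  refine ⟨le_antisymm ?_ ?_, Nat.not_even_iff_odd.1 fun he => hmem.2.1 he.two_dvd, hmem.1⟩
  · refine Signalizer.le_of_centralizer_le (p := 2) (Signalizer.ea_mono h.ea inf_le_left) h.four
      (inf_le_left.trans (Signalizer.family_normalizer hmem)) hmem.2.1 fun b hb hb1 => ?_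
    exact (hinf b hb.1 hb1).le.trans
      (le_iSup (fun z : {z : G // z ∈ A ⊓ B ∧ z ≠ 1} => Cfsg.centralizerPPrimeCore 2 (z : G)) ⟨b, hb, hb1⟩)
  · exact iSup_le fun z =>
      le_iSup (fun a : {a : G // a ∈ A ∧ a ≠ 1} => Cfsg.centralizerPPrimeCore 2 (a : G)) ⟨z, z.2.1.1, z.2.2⟩

theorem normalizer_le_closure (hg : GoldInputs.{u}) :
    normalizer (A : Set G) ≤ normalizer ((centW (A ⊓ B) : Subgroup G) : Set G) := by
  haveI : Fact (Nat.Prime 2) := ⟨Nat.prime_two⟩
  intro n hn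
  rw [← (h.closure_eq hg).1]
  refine SEBrick.mem_normalizer_of fun x hx => ?_
  have hle : centW A ≤ (centW A).comap (MulAut.conj n).toMonoidHom := by
    refine iSup_le ?_
    rintro ⟨b, hb, hb1⟩ y hy
    exact le_iSup (fun a : {a : G // a ∈ A ∧ a ≠ 1} => Cfsg.centralizerPPrimeCore 2 (a : G))
      ⟨n * b * n⁻¹, (mem_normalizer_iff.1 hn b).1 hb, fun e => hb1 (conj_eq_one_iff.1 e)⟩
      ((mem_centCore_conj n b y).2 hy)
  exact hle hx

theorem split_cent (hg : GoldInputs.{u}) {z g : G} (hzA : z ∈ A) (hzB : z ∈ B) (hz : z ∉ CB)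
    (hgz : g ∈ centralizer ({z} : Set G)) :
    ∃ o ∈ Cfsg.centralizerPPrimeCore 2 z, o * g ∈ normalizer (A : Set G) := by
  have hle := h.sylow_le_cent hzA hzB
  obtain ⟨o, ho, hog⟩ := split_of_normal (h.two.restrict hle) (h.normal_cent hg hzA hzB hz) ⟨g, hgz⟩
  exact ⟨o, ⟨o, ho, rfl⟩, normalizer_to (h.two.leA.trans hle) hog⟩

theorem cent_le_closure (hg : GoldInputs.{u}) {z : G} (hzA : z ∈ A) (hzB : z ∈ B) (hz1 : z ≠ 1) :
    centralizer ({z} : Set G) ≤ normalizer ((centW (A ⊓ B) : Subgroup G) : Set G) := by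
  intro g hgz
  have hW : Cfsg.centralizerPPrimeCore 2 z ≤ normalizer ((centW (A ⊓ B) : Subgroup G) : Set G) :=
    (le_iSup (fun z : {z : G // z ∈ A ⊓ B ∧ z ≠ 1} => Cfsg.centralizerPPrimeCore 2 (z : G))
      ⟨z, ⟨hzA, hzB⟩, hz1⟩).trans le_normalizer
  suffices key : ∃ o ∈ Cfsg.centralizerPPrimeCore 2 z,
      o * g ∈ normalizer ((centW (A ⊓ B) : Subgroup G) : Set G) by
    obtain ⟨o, ho, hog⟩ := key
    rw [show g = o⁻¹ * (o * g) by group]
    exact mul_mem (inv_mem (hW ho)) hog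
  by_cases hzC : z ∈ CB
  · obtain ⟨o, ho, hog⟩ := h.symm.split_cent hg hzB hzA (fun e => hz1 (h.disj z e hzC)) hgz
    refine ⟨o, ho, ?_⟩
    rw [inf_comm]
    exact h.symm.normalizer_le_closure hg hog
  · obtain ⟨o, ho, hog⟩ := h.split_cent hg hzA hzB hzC hgz
    exact ⟨o, ho, h.normalizer_le_closure hg hog⟩

theorem cent_le_closure_A (hg : GoldInputs.{u}) {a : G} (ha : a ∈ A) (ha1 : a ≠ 1) :
    centralizer ({a} : Set G) ≤ normalizer ((centW (A ⊓ B) : Subgroup G) : Set G) := by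
  intro g hga
  obtain ⟨n, hn, -, hnB⟩ := h.sideA.cov a ha
  have hga' : g * a = a * g := mem_centralizer_singleton_iff.1 hga
  have hm := h.cent_le_closure hg ((mem_normalizer_iff.1 hn a).1 ha) hnB
    (fun e => ha1 (conj_eq_one_iff.1 e)) (x := n * g * n⁻¹) (mem_centralizer_singleton_iff.2 (by
      calc n * g * n⁻¹ * (n * a * n⁻¹) = n * (g * a) * n⁻¹ := by group
        _ = n * a * n⁻¹ * (n * g * n⁻¹) := by rw [hga']; group))
  have hn' := h.normalizer_le_closure hg hn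
  rw [show g = n⁻¹ * (n * g * n⁻¹) * n by group]
  exact mul_mem (mul_mem (inv_mem hn') hm) hn'

/-- The normaliser of the Sylow subgroup normalises `A`. -/
theorem sylow_normalizer_le : normalizer ((S : Subgroup G) : Set G) ≤ normalizer (A : Set G) := fun n hn => by
  have hle : A.map (MulAut.conj n).toMonoidHom ≤ (S : Subgroup G) := by
    rintro _ ⟨a, ha, rfl⟩
    exact (mem_normalizer_iff.1 hn a).1 (h.two.leA ha)
  have hsq : ∀ x ∈ A.map (MulAut.conj n).toMonoidHom, x * x = 1 := by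
    rintro _ ⟨a, ha, rfl⟩
    rw [← map_mul, h.two.sqA a ha, map_one]
  rcases h.two.elem_le hle hsq with e | e
  · exact SEBrick.mem_normalizer_of fun a ha => e ⟨a, ha, rfl⟩
  · exact absurd (Subgroup.eq_of_le_of_card_ge e
      (by rw [card_map_of_injective (MulAut.conj n).injective, h.card])) (h.nc n)

/-- The odd cores of the centralisers generate the trivial group. -/
theorem closure_eq_bot [IsSimpleGroup G] (hg : GoldInputs.{u}) : centW (A ⊓ B) = ⊥ := by
  haveI : Fact (Nat.Prime 2) := ⟨Nat.prime_two⟩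
  obtain ⟨W, hW⟩ : ∃ W : Subgroup G, W = centW (A ⊓ B) := ⟨_, rfl⟩
  rw [← hW]
  obtain ⟨hWA, hodd, -⟩ := h.closure_eq hg
  rw [hWA, ← hW] at hodd
  obtain ⟨b, hb, hbA⟩ := h.two.exB
  have hb2 : orderOf b = 2 := orderOf_eq_prime (by rw [pow_two]; exact h.two.sqB b hb) fun e => hbA (e ▸ one_mem A)
  by_contra hne
  have hH : normalizer (W : Set G) ≠ ⊤ := fun htop => by
    rcases (normalizer_eq_top_iff.1 htop).eq_bot_or_eq_top with e | e
    · exact hne e
    · exact Nat.not_even_iff_odd.2 hodd (Invol.even_of_invol_mem hb2 (e ▸ mem_top b))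
  have hNA : normalizer (A : Set G) ≤ normalizer (W : Set G) := hW ▸ h.normalizer_le_closure hg
  have hSH : (S : Subgroup G) ≤ normalizer (W : Set G) := h.two.normalA.trans hNA
  have hs : ∀ s ∈ (S : Subgroup G), orderOf s = 2 → centralizer ({s} : Set G) ≤ normalizer (W : Set G) := by
    intro s hs hs2
    have hs1 : s ≠ 1 := fun e => by rw [e, orderOf_one] at hs2; omega
    rw [hW]
    rcases h.two.invol hs (by rw [← pow_two, ← hs2, pow_orderOf_eq_one]) with e | e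
    · exact h.cent_le_closure_A hg e hs1
    · rw [inf_comm]
      exact h.symm.cent_le_closure_A hg e hs1
  have hSE : Cfsg.IsStronglyEmbedded (normalizer (W : Set G)) := by
    refine Invol.se_of_centralizers hH (S.subtype hSH)
      (Invol.even_of_invol_mem hb2 (hSH (h.two.leB hb))) ?_ fun t ht ht2 => ?_
    · rw [Sylow.coe_subtype, map_subgroupOf_eq_of_le hSH]
      exact h.sylow_normalizer_le.trans hNA
    · have hp : IsPGroup 2 ((zpowers t).subgroupOf (normalizer (W : Set G))) :=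
        (IsPGroup.of_card (n := 1) (by rw [Nat.card_zpowers, ht2, pow_one])).comap_subtype
      obtain ⟨R, hR⟩ := hp.exists_le_sylow
      obtain ⟨c, hc⟩ := MulAction.exists_smul_eq (normalizer (W : Set G)) R (S.subtype hSH)
      have hts : (c : G) * t * (c : G)⁻¹ ∈ (S : Subgroup G) := by
        have hm : c * ⟨t, ht⟩ * c⁻¹ ∈ ((S.subtype hSH : Sylow 2 _) : Subgroup _) := by
          rw [← hc]; exact ⟨_, hR (mem_zpowers t), rfl⟩
        exact hm
      intro g hgt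
      have hgt' : g * t = t * g := mem_centralizer_singleton_iff.1 hgt
      have hm := hs _ hts (by rw [Invol.order_conj, ht2]) (x := (c : G) * g * (c : G)⁻¹)
        (mem_centralizer_singleton_iff.2 (by
          calc (c : G) * g * (c : G)⁻¹ * ((c : G) * t * (c : G)⁻¹) = (c : G) * (g * t) * (c : G)⁻¹ := by group
            _ = (c : G) * t * (c : G)⁻¹ * ((c : G) * g * (c : G)⁻¹) := by rw [hgt']; group))
      rw [show g = (c : G)⁻¹ * ((c : G) * g * (c : G)⁻¹) * c by group]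
      exact mul_mem (mul_mem (inv_mem c.2) hm) c.2
  obtain ⟨a, ha, haB⟩ := h.two.exA
  have haS := h.two.leA ha
  have hbS := h.two.leB hb
  have hnab : a * b ≠ b * a := fun e => (h.two.fix a ha b hb e).elim haB hbA
  have hbend : GoldStruct.Bend.{u, 0} (S : Subgroup G) → False := fun hB =>
    hnab (hB.central a haS (h.two.sqA a ha) b hbS)
  rcases SEMain.bender_of_simple SEMain.stmt hSE with
    ⟨F, _, _, ⟨n, -, hF⟩, ⟨e⟩⟩ | hSz | ⟨F, _, _, n, hn, hF, ⟨e⟩⟩
  · haveI : CharP F 2 := charP_of_card_eq_prime_pow hF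
    have hsq : ∀ x ∈ (S : Subgroup G), x * x = 1 := fun x hx => by
      obtain ⟨k, hk⟩ := S.2 ⟨x, hx⟩
      have hk' : x ^ 2 ^ k = 1 := congrArg Subtype.val hk
      refine e.injective ?_
      rw [map_mul, map_one]
      exact UType.psl_two_sq (e x) (k := k) (by rw [← map_pow, hk', map_one])
    exact hnab (elem_comm hsq haS hbS)
  · exact hbend (GoldStruct.bend_sz hSz S)
  · exact hbend (GoldStruct.bend_psu hn hF e S)

/-- The centralisers of the nontrivial elements of `A` have trivial odd core. -/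
theorem core_bot [IsSimpleGroup G] (hg : GoldInputs.{u}) {a : G} (ha : a ∈ A) (ha1 : a ≠ 1) :
    Cfsg.centralizerPPrimeCore 2 a = ⊥ := by
  refine le_bot_iff.1 (le_of_le_of_eq ?_ (h.closure_eq_bot hg))
  rw [← (h.closure_eq hg).1]
  exact le_iSup (fun a : {a : G // a ∈ A ∧ a ≠ 1} => Cfsg.centralizerPPrimeCore 2 (a : G)) ⟨a, ha, ha1⟩

/-- The centraliser of `z ∈ A ⊓ B` outside `CB` normalises `A`. -/
theorem cent_le [IsSimpleGroup G] (hg : GoldInputs.{u}) {z : G} (hzA : z ∈ A) (hzB : z ∈ B) (hz : z ∉ CB) :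
    centralizer ({z} : Set G) ≤ normalizer (A : Set G) := fun g hgz => by
  obtain ⟨o, ho, hog⟩ := h.split_cent hg hzA hzB hz hgz
  rw [h.core_bot hg hzA (fun e => hz (e ▸ one_mem CB)), mem_bot] at ho
  rwa [ho, one_mul] at hog

theorem normalizer_inf_le :
    normalizer (A : Set G) ⊓ normalizer (B : Set G) ≤ normalizer ((S : Subgroup G) : Set G) := fun n hn =>
  SEBrick.mem_normalizer_of fun s hs => by
    obtain ⟨a, ha, b, hb, rfl⟩ := h.two.prod s hs
    rw [show n * (a * b) * n⁻¹ = (n * a * n⁻¹) * (n * b * n⁻¹) by group]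
    exact mul_mem (h.two.leA ((mem_normalizer_iff.1 hn.1 a).1 ha)) (h.two.leB ((mem_normalizer_iff.1 hn.2 b).1 hb))

/-- The centraliser of `z ∈ A ⊓ B` outside `CA` and `CB` normalises `S`. -/
theorem cent_le_sylow_normalizer [IsSimpleGroup G] (hg : GoldInputs.{u}) {z : G} (hzA : z ∈ A) (hzB : z ∈ B)
    (hzC : z ∉ CA) (hzD : z ∉ CB) : centralizer ({z} : Set G) ≤ normalizer ((S : Subgroup G) : Set G) :=
  (le_inf (h.cent_le hg hzA hzB hzD) (h.symm.cent_le hg hzB hzA hzC)).trans h.normalizer_inf_le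

end CentData

end Cfsg.Agent.ABRec
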