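import Cfsg.Agent.Lib.GoldStruct.Main
import Cfsg.Agent.Lib.Solvable.Coprime
import Cfsg.Agent.Lib.ClosedAbelian.Basic
import Mathlib.GroupTheory.Transfer
import Mathlib.GroupTheory.SchurZassenhaus
import Mathlib.GroupTheory.NoncommPiCoprod
import Cfsg.Agent.Lib.Signalizer.Basic

/-!
A group with a Sylow 2-subgroup `A B` and no odd normal subgroup, in which `A` is strongly closed:
`A` is normal if `B` is strongly closed too, or if enough conjugates of `A ⊓ B` fill `A`.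
-/

set_option autoImplicit false
set_option linter.style.haveILetI false
set_option linter.unusedSectionVars false

namespace Cfsg.Agent.ABRec

open Subgroup Cfsg.Agent.GoldStruct
open scoped commutatorElement

universe u

/-- The inputs of the structural form of Goldschmidt's theorem. -/
structure GoldInputs : Prop where
  simple : GoldGroups.ClosedAbelianSimple.{u}
  walter : GoldGroups.WalterGood.{u}
  noField : GoldGroups.RJNoField.{u}

/-- A Sylow 2-subgroup `A B` with `A`, `B` elementary, normal in it, meeting in the centre. -/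
structure TwoEA {Y : Type u} [Group Y] (S : Sylow 2 Y) (A B : Subgroup Y) : Prop where
  leA : A ≤ (S : Subgroup Y)
  leB : B ≤ (S : Subgroup Y)
  sqA : ∀ a ∈ A, a * a = 1
  sqB : ∀ b ∈ B, b * b = 1
  prod : ∀ s ∈ (S : Subgroup Y), ∃ a ∈ A, ∃ b ∈ B, a * b = s
  fix : ∀ a ∈ A, ∀ b ∈ B, a * b = b * a → a ∈ B ∨ b ∈ A
  exA : ∃ a ∈ A, a ∉ B
  exB : ∃ b ∈ B, b ∉ A

section Tools

variable {Q : Type*} [Group Q]

/-- Conjugation changing elements by central amounts fixes commutators. -/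
theorem fix_commutator {L : Subgroup Q} {m : Q} (h : ∀ l ∈ L, ∀ l' ∈ L,
    (l⁻¹ * (m * l * m⁻¹)) * l' = l' * (l⁻¹ * (m * l * m⁻¹))) (hL : ∀ l ∈ L, m * l * m⁻¹ ∈ L) :
    ∀ c ∈ ⁅L, L⁆, m * c = c * m := by
  suffices hle : ⁅L, L⁆ ≤ centralizer ({m} : Set Q) from fun c hc =>
    (mem_centralizer_singleton_iff.1 (hle hc)).symm
  rw [commutator_le]
  intro a ha b hb
  rw [mem_centralizer_singleton_iff]
  suffices e : m * ⁅a, b⁆ * m⁻¹ = ⁅a, b⁆ from (mul_inv_eq_iff_eq_mul.1 e).symm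
  obtain ⟨z, hz⟩ : ∃ z, z = a⁻¹ * (m * a * m⁻¹) := ⟨_, rfl⟩
  obtain ⟨w, hw⟩ : ∃ w, w = b⁻¹ * (m * b * m⁻¹) := ⟨_, rfl⟩
  have hwL : w ∈ L := hw ▸ mul_mem (inv_mem hb) (hL b hb)
  have c1 : Commute z a := hz ▸ h a ha a ha
  have c2 : Commute z b := hz ▸ h a ha b hb
  have c3 : Commute z w := hz ▸ h a ha w hwL
  have c4 : Commute w a := hw ▸ h b hb a ha
  have c5 : Commute w b := hw ▸ h b hb b hb
  have e1 : m * a * m⁻¹ = a * z := by rw [hz]; group
  have e2 : m * b * m⁻¹ = b * w := by rw [hw]; group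
  have hcomm : a * z * (b * w) = a * b * (z * w) := by
    rw [mul_assoc, ← mul_assoc z, c2.eq, mul_assoc b, ← mul_assoc]
  have hcomm' : b * w * (a * z) = b * a * (z * w) := by
    rw [mul_assoc, ← mul_assoc w, c4.eq, mul_assoc a, ← mul_assoc, c3.eq]
  calc m * ⁅a, b⁆ * m⁻¹ = (m * a * m⁻¹) * (m * b * m⁻¹) * ((m * b * m⁻¹) * (m * a * m⁻¹))⁻¹ := by
        rw [commutatorElement_def]; group
    _ = a * b * (z * w) * (b * a * (z * w))⁻¹ := by rw [e1, e2, hcomm, hcomm']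
    _ = ⁅a, b⁆ := by rw [commutatorElement_def]; group

/-- A normal subgroup covering the product of simple groups modulo the centre. -/
theorem top_of_product {C : Type*} [Group C] (hperf : commutator C = ⊤) {ι : Type} [Fintype ι]
    {L : ι → Type*} [∀ i, Group (L i)] (hs : ∀ i, IsSimpleGroup (L i) ∧ ¬ IsMulCommutative (L i))
    (f : C →* ((i : ι) → L i)) (hf : Function.Surjective f) (hker : f.ker ≤ center C)
    (M : Subgroup C) [M.Normal]
    (hW : ∀ x ∈ ⁅centralizer (M : Set C), centralizer (M : Set C)⁆,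
      ∀ y ∈ ⁅centralizer (M : Set C), centralizer (M : Set C)⁆, x * y = y * x) : M = ⊤ := by
  classical
  haveI := fun i => (hs i).1
  have hMn : (M.map f).Normal := (inferInstance : M.Normal).map f hf
  have hall : ∀ i, ∀ x : L i, Pi.mulSingle i x ∈ M.map f := by
    intro i
    let j : L i →* ((i : ι) → L i) := MonoidHom.mulSingle L i
    haveI : ((M.map f).comap j).Normal := hMn.comap j
    rcases (inferInstance : ((M.map f).comap j).Normal).eq_bot_or_eq_top with h | h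
    swap
    · intro x
      have : x ∈ (M.map f).comap j := h ▸ mem_top x
      exact this
    exfalso
    obtain ⟨Lt, hLt⟩ : ∃ Lt : Subgroup C, Lt = j.range.comap f := ⟨_, rfl⟩
    have hjn : j.range.Normal := ⟨fun y hy g => by
      obtain ⟨x, rfl⟩ := hy
      refine ⟨g i * x * (g i)⁻¹, funext fun k => ?_⟩
      by_cases hk : k = i
      · subst hk; simp [j]
      · simp [j, hk]⟩
    have hcen : ∀ l ∈ Lt, ∀ m ∈ M, l⁻¹ * (m * l * m⁻¹) ∈ center C := by
      intro l hl m hm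
      refine hker (MonoidHom.mem_ker.2 ?_)
      have hlf : f l ∈ j.range := by rw [hLt] at hl; exact hl
      have h1 : f (l⁻¹ * (m * l * m⁻¹)) ∈ j.range := by
        rw [map_mul, map_inv, map_mul, map_mul, map_inv]
        exact mul_mem (inv_mem hlf) (hjn.conj_mem _ hlf _)
      have h2 : f (l⁻¹ * (m * l * m⁻¹)) ∈ M.map f :=
        mem_map_of_mem f (by
          rw [show l⁻¹ * (m * l * m⁻¹) = l⁻¹ * m * l * m⁻¹ by group]
          exact mul_mem ((inferInstance : M.Normal).conj_mem' m hm l) (inv_mem hm))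
      obtain ⟨x, hx⟩ := h1
      have hx' : x ∈ (M.map f).comap j := by rw [mem_comap, hx]; exact h2
      rw [h, mem_bot] at hx'
      rw [← hx, hx', map_one]
    have hW1 : ⁅Lt, Lt⁆ ≤ centralizer (M : Set C) := fun c hc => mem_centralizer_iff.2 fun m hm =>
      fix_commutator (L := Lt) (m := m)
        (fun l hl l' _ => ((mem_center_iff.1 (hcen l hl m hm)) l').symm)
        (fun l hl => by
          rw [hLt, mem_comap, map_mul, map_mul, map_inv]
          exact hjn.conj_mem _ (by rw [hLt] at hl; exact hl) _) c hc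
    have hperfL : commutator (L i) = ⊤ :=
      ((inferInstance : (commutator (L i)).Normal).eq_bot_or_eq_top).resolve_left fun e => (hs i).2
        ⟨⟨fun a b => commutatorElement_eq_one_iff_mul_comm.1 (mem_bot.1 (e ▸
          commutator_mem_commutator (mem_top a) (mem_top b)))⟩⟩
    have hj : ⁅j.range, j.range⁆ = j.range := by
      rw [MonoidHom.range_eq_map, ← map_commutator, ← _root_.commutator_def, hperfL]
    have himg : j.range ≤ ⁅centralizer (M : Set C), centralizer (M : Set C)⁆.map f := by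
      refine le_trans ?_ (map_mono (commutator_mono hW1 hW1))
      rw [map_commutator, map_commutator, hLt, map_comap_eq_self_of_surjective hf, hj, hj]
    refine (hs i).2 ⟨⟨fun a b => ?_⟩⟩
    obtain ⟨x, hx, ex⟩ := himg ⟨a, rfl⟩
    obtain ⟨y, hy, ey⟩ := himg ⟨b, rfl⟩
    refine Pi.mulSingle_injective i ?_
    show j (a * b) = j (b * a)
    rw [map_mul, map_mul, ← ex, ← ey, ← map_mul, ← map_mul, hW x hx y hy]
  have htop : M.map f = ⊤ := eq_top_iff.2 fun x _ =>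
    Subgroup.pi_mem_of_mulSingle_mem x fun i => hall i (x i)
  rw [eq_top_iff, ← hperf, _root_.commutator_def, commutator_le]
  intro a _ b _
  have hdec : ∀ a : C, ∃ m ∈ M, ∀ c : C, m⁻¹ * a * c = c * (m⁻¹ * a) := fun a => by
    obtain ⟨m, hm, e⟩ : f a ∈ M.map f := htop ▸ mem_top _
    exact ⟨m, hm, fun c => (mem_center_iff.1 (hker (MonoidHom.mem_ker.2
      (by rw [map_mul, map_inv, e, inv_mul_cancel]))) c).symm⟩
  obtain ⟨m, hm, hma⟩ := hdec a
  have hca : a = m * (m⁻¹ * a) := by group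
  have e : ⁅a, b⁆ = ⁅m, b⁆ := by
    rw [commutatorElement_def, commutatorElement_def,
      show a * b * a⁻¹ * b⁻¹ = m * (m⁻¹ * a * b) * (m⁻¹ * a)⁻¹ * m⁻¹ * b⁻¹ by group, hma]
    group
  rw [e, commutatorElement_def, show m * b * m⁻¹ * b⁻¹ = m * (b * m⁻¹ * b⁻¹) by group]
  exact mul_mem hm ((inferInstance : M.Normal).conj_mem _ (inv_mem hm) b)

/-- A central involution of an abelian Sylow 2-subgroup is no product of commutators. -/
theorem eq_one_of_central_commutator [Finite Q] (P : Sylow 2 Q) (hc : IsMulCommutative (P : Subgroup Q))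
    {z : Q} (hzP : z ∈ (P : Subgroup Q)) (hz2 : z * z = 1) (hz : z ∈ center Q) (hzc : z ∈ commutator Q) :
    z = 1 := by
  haveI : Fact (Nat.Prime 2) := ⟨Nat.prime_two⟩
  letI : CommGroup (P : Subgroup Q) :=
    { (inferInstance : Group (P : Subgroup Q)) with mul_comm := fun a b => hc.is_comm.comm a b }
  haveI : (P : Subgroup Q).FiniteIndex := inferInstance
  let φ : (P : Subgroup Q) →* (P : Subgroup Q) := MonoidHom.id _
  have h1 : MonoidHom.transfer φ z = 1 := MonoidHom.mem_ker.1 (Abelianization.commutator_subset_ker _ hzc)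
  have key : ∀ (k : ℕ) (g₀ : Q), g₀⁻¹ * z ^ k * g₀ ∈ (P : Subgroup Q) → g₀⁻¹ * z ^ k * g₀ = z ^ k :=
    fun k g₀ _ => by rw [mul_assoc, ← mem_center_iff.1 (pow_mem hz k) g₀, inv_mul_cancel_left]
  rw [MonoidHom.transfer_eq_pow φ z key] at h1
  have h2 : z ^ (P : Subgroup Q).index = 1 := congrArg Subtype.val h1
  obtain ⟨k, hk⟩ : Odd (P : Subgroup Q).index := Nat.not_even_iff_odd.1 fun h =>
    P.not_dvd_index (even_iff_two_dvd.1 h)
  rwa [hk, pow_succ, pow_mul, pow_two, hz2, one_pow, one_mul] at h2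

variable {Y : Type u} [Group Y] [Finite Y]

/-- The odd core of a normal subgroup is trivial. -/
theorem core_bot_normal (hO : ∀ N : Subgroup Y, N.Normal → Odd (Nat.card N) → N = ⊥) {K : Subgroup Y}
    (hK : K.Normal) (N : Subgroup K) (hN : N.Normal) (hodd : Odd (Nat.card N)) : N = ⊥ := by
  haveI := hK
  haveI := PBasic.pPrimeCore_characteristic 2 K
  have h1 : (Cfsg.pPrimeCore 2 K).map K.subtype = ⊥ := hO _ inferInstance (by
    rw [card_map_of_injective K.subtype_injective]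
    exact Nat.coprime_two_right.1 (PBasic.pPrimeCore_coprime 2 K))
  rw [map_eq_bot_iff_of_injective _ K.subtype_injective] at h1
  exact le_bot_iff.1 (h1 ▸ PBasic.le_pPrimeCore hN (Nat.coprime_two_right.2 hodd))

/-- A normal subgroup with central Sylow 2-subgroup is a 2-group. -/
theorem le_sylow_of_central (hO : ∀ N : Subgroup Y, N.Normal → Odd (Nat.card N) → N = ⊥) (S : Sylow 2 Y)
    {N : Subgroup Y} (hN : N.Normal) (hc : ∀ x ∈ N, x ∈ (S : Subgroup Y) → ∀ y ∈ N, x * y = y * x) :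
    N ≤ (S : Subgroup Y) := by
  haveI : Fact (Nat.Prime 2) := ⟨Nat.prime_two⟩
  obtain ⟨R, hR⟩ := GoldStruct.sylow_inf S hN
  have hRc : ∀ x ∈ (R : Subgroup N), x ∈ center N := fun x hx => by
    rw [hR] at hx
    exact mem_center_iff.2 fun y => Subtype.ext (hc x x.2 (mem_subgroupOf.1 hx).1 y y.2).symm
  haveI hRn : (R : Subgroup N).Normal := ⟨fun x hx g => by
    rw [mem_center_iff.1 (hRc x hx) g, mul_inv_cancel_right]; exact hx⟩
  obtain ⟨H, hH⟩ := exists_right_complement'_of_coprime (N := (R : Subgroup N)) R.card_coprime_index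
  have hHn : H.Normal := ⟨fun h hh g => by
    obtain ⟨⟨⟨r, hr⟩, ⟨h', hh'⟩⟩, e⟩ := hH.2 g
    have e' : r * h' = g := e
    rw [← e', show r * h' * h * (r * h')⁻¹ = r * (h' * h * h'⁻¹) * r⁻¹ by group,
      ← mem_center_iff.1 (hRc r hr) (h' * h * h'⁻¹), mul_inv_cancel_right]
    exact mul_mem (mul_mem hh' hh) (inv_mem hh')⟩
  have hodd : Odd (Nat.card H) := by
    rw [← hH.symm.index_eq_card]
    exact Nat.not_even_iff_odd.1 fun h => R.not_dvd_index (even_iff_two_dvd.1 h)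
  have hb := core_bot_normal hO hN H hHn hodd
  intro x hx
  obtain ⟨⟨⟨r, hr⟩, ⟨h', hh'⟩⟩, e⟩ := hH.2 ⟨x, hx⟩
  have e' : r * h' = ⟨x, hx⟩ := e
  rw [SetLike.mem_coe, hb, mem_bot] at hh'
  rw [hh', mul_one] at e'
  rw [hR] at hr
  have hm := (mem_subgroupOf.1 hr).1
  rw [(congrArg Subtype.val e' : (r : Y) = x)] at hm
  exact hm

end Tools

variable {Y : Type u} [Group Y] [Finite Y] {S : Sylow 2 Y} {A B : Subgroup Y}

/-- The structure of the normal closure of a strongly closed abelian subgroup. -/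
theorem closure_data (hg : GoldInputs.{u}) (hO : ∀ N : Subgroup Y, N.Normal → Odd (Nat.card N) → N = ⊥)
    (h : SC S A) : (∀ x ∈ (S : Subgroup Y), x ∈ normalClosure (A : Set Y) → x * x = 1 → x ∈ A) ∧
      ∃ R C : Subgroup Y, R.Normal ∧ C.Normal ∧ R ≤ A ∧ C ≤ normalClosure (A : Set Y) ∧
        (∀ x ∈ normalClosure (A : Set Y), ∃ r ∈ R, ∃ c ∈ C, r * c = x) ∧
        (∀ M : Subgroup Y, M.Normal → M ≤ C →
          (∀ x ∈ ⁅C ⊓ centralizer (M : Set Y), C ⊓ centralizer (M : Set Y)⁆,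
            ∀ y ∈ ⁅C ⊓ centralizer (M : Set Y), C ⊓ centralizer (M : Set Y)⁆, x * y = y * x) → C ≤ M) ∧
        ∀ c ∈ C, ∀ hc : c ∈ normalClosure (A : Set Y), (⟨c, hc⟩ : normalClosure (A : Set Y)) ∈
          commutator (normalClosure (A : Set Y)) := by
  haveI : Fact (Nat.Prime 2) := ⟨Nat.prime_two⟩
  obtain ⟨K, hK⟩ : ∃ K : Subgroup Y, K = normalClosure (A : Set Y) := ⟨_, rfl⟩
  rw [← hK]
  haveI hKn : K.Normal := hK ▸ normalClosure_normal
  have hAK : A ≤ K := hK ▸ fun a ha => subset_normalClosure ha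
  obtain ⟨P, hP⟩ := GoldStruct.sylow_inf S hKn
  have hsc : SC P (A.subgroupOf K) := by
    refine ⟨fun a ha b hb => Subtype.ext (h.comm a ha b hb), ?_, fun a ha g hg => ?_⟩
    · rw [hP]
      exact fun a ha => ⟨h.le ha, a.2⟩
    · rw [hP] at hg
      exact h.mem (a := (a : Y)) ha (g := (g : Y)) hg.1
  obtain ⟨c1, c2, c3, ι, hι, L, hLg, hL, ⟨e⟩⟩ := structure_of hg.simple hg.walter hg.noField
    (core_bot_normal hO hKn) hsc (normalClosure_eq_top h K hK)
  refine ⟨fun x hxS hxK hx2 => ?_, (Cfsg.pCore 2 K).map K.subtype, (commutator K).map K.subtype,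
    ?_, inferInstance, ?_, map_subtype_le _, ?_, ?_, ?_⟩
  · have hxP : (⟨x, hxK⟩ : K) ∈ (P : Subgroup K) := by rw [hP]; exact ⟨hxS, hxK⟩
    have hm : (⟨x, hxK⟩ : K) ∈ A.subgroupOf K := c3 ▸ mem_sup_right
      (subset_closure ⟨hxP, by rw [pow_two]; exact Subtype.ext hx2⟩)
    exact hm
  · haveI := LEBasic.pCore_characteristic (p := 2) (G := K)
    infer_instance
  · rintro _ ⟨r, hr, rfl⟩
    have hm : r ∈ A.subgroupOf K := c3 ▸ mem_sup_left hr
    exact hm
  · intro x hx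
    haveI := LEBasic.pCore_characteristic (p := 2) (G := K)
    obtain ⟨r, hr, c, hc, e'⟩ := mem_sup_of_normal_left.1 (c1 ▸ mem_top (⟨x, hx⟩ : K) :
      (⟨x, hx⟩ : K) ∈ Cfsg.pCore 2 K ⊔ commutator K)
    exact ⟨r, ⟨r, hr, rfl⟩, c, ⟨c, hc, rfl⟩, congrArg Subtype.val e'⟩
  · intro M hMn hMC hW
    let ψ : ↥(commutator K) →* Y := K.subtype.comp (commutator K).subtype
    haveI : (M.comap ψ).Normal := hMn.comap ψ
    have hperf : commutator ↥(commutator K) = ⊤ := by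
      refine eq_top_iff.2 fun x _ => ?_
      have hle : commutator K ≤ ⁅commutator K, commutator K⁆ := by
        rw [_root_.commutator_def, commutator_le]
        haveI := LEBasic.pCore_characteristic (p := 2) (G := K)
        intro a _ b _
        obtain ⟨r, hr, c, hc, rfl⟩ := mem_sup_of_normal_left.1 (c1 ▸ mem_top a :
          a ∈ Cfsg.pCore 2 K ⊔ commutator K)
        obtain ⟨r', hr', c', hc', rfl⟩ := mem_sup_of_normal_left.1 (c1 ▸ mem_top b :
          b ∈ Cfsg.pCore 2 K ⊔ commutator K)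
        have z : ∀ g, g * r = r * g := mem_center_iff.1 (c2 hr)
        have z' : ∀ g, g * r' = r' * g := mem_center_iff.1 (c2 hr')
        have e' : ⁅r * c, r' * c'⁆ = ⁅c, c'⁆ := by
          rw [commutatorElement_def, commutatorElement_def,
            show r * c * (r' * c') * (r * c)⁻¹ * (r' * c')⁻¹ =
              r * (c * r') * c' * c⁻¹ * r⁻¹ * c'⁻¹ * r'⁻¹ by group, z' c,
            show r * (r' * c) * c' * c⁻¹ * r⁻¹ * c'⁻¹ * r'⁻¹ =
              (r * r') * (c * c' * c⁻¹) * r⁻¹ * c'⁻¹ * r'⁻¹ by group, z' r,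
            show r' * r * (c * c' * c⁻¹) * r⁻¹ = r' * (r * (c * c' * c⁻¹)) * r⁻¹ by group, ← z,
            show r' * (c * c' * c⁻¹ * r) * r⁻¹ * c'⁻¹ * r'⁻¹ = r' * (c * c' * c⁻¹ * c'⁻¹) * r'⁻¹ by group,
            ← z', mul_inv_cancel_right]
        rw [e']
        exact commutator_mem_commutator hc hc'
      have hx : (x : K) ∈ ⁅commutator K, commutator K⁆ := hle x.2
      rw [← map_subtype_commutator] at hx
      obtain ⟨y, hy, e'⟩ := hx
      rwa [← Subtype.ext (p := fun z => z ∈ commutator K) (a1 := y) (a2 := x) e']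
    let g : ↥(commutator K) →* ((i : ι) → L i) := e.toMonoidHom.comp (QuotientGroup.mk' _)
    have hgs : Function.Surjective g := e.surjective.comp (QuotientGroup.mk'_surjective _)
    have hgk : g.ker ≤ center ↥(commutator K) := fun x hx =>
      (QuotientGroup.eq_one_iff x).1 (e.map_eq_one_iff.1 (MonoidHom.mem_ker.1 hx))
    have hWm : ∀ x ∈ centralizer ((M.comap ψ : Subgroup _) : Set ↥(commutator K)),
        ψ x ∈ (commutator K).map K.subtype ⊓ centralizer (M : Set Y) := fun x hx =>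
      ⟨⟨(x : K), x.2, rfl⟩, mem_centralizer_iff.2 fun m hm => by
        obtain ⟨k, hk, rfl⟩ := hMC hm
        have e' := mem_centralizer_iff.1 hx ⟨k, hk⟩ hm
        exact congrArg ψ e'⟩
    have hmem : ∀ x ∈ ⁅centralizer ((M.comap ψ : Subgroup _) : Set ↥(commutator K)),
        centralizer ((M.comap ψ : Subgroup _) : Set ↥(commutator K))⁆,
        ψ x ∈ ⁅(commutator K).map K.subtype ⊓ centralizer (M : Set Y),
          (commutator K).map K.subtype ⊓ centralizer (M : Set Y)⁆ := fun x hx => by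
      have h' := mem_map_of_mem ψ hx
      rw [map_commutator] at h'
      exact commutator_mono (map_le_iff_le_comap.2 hWm) (map_le_iff_le_comap.2 hWm) h'
    have htop := top_of_product hperf (fun i => ⟨(hL i).1, (hL i).2.1⟩) g hgs hgk (M.comap ψ)
      fun x hx y hy => K.subtype_injective.comp (commutator K).subtype_injective (by
        show ψ (x * y) = ψ (y * x)
        rw [map_mul, map_mul, hW _ (hmem x hx) _ (hmem y hy)])
    rintro _ ⟨c, hc, rfl⟩
    have : (⟨c, hc⟩ : ↥(commutator K)) ∈ M.comap ψ := htop ▸ mem_top _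
    exact this
  · rintro _ ⟨c, hc, rfl⟩ hcK
    exact hc

/-- An element of the Sylow subgroup in the closure of `A` lies in `A`. -/
theorem mem_of_closure (hg : GoldInputs.{u}) (hO : ∀ N : Subgroup Y, N.Normal → Odd (Nat.card N) → N = ⊥)
    (hT : TwoEA S A B) (h : SC S A) {x : Y} (hxS : x ∈ (S : Subgroup Y))
    (hxK : x ∈ normalClosure (A : Set Y)) : x ∈ A := by
  obtain ⟨a, ha, b, hb, rfl⟩ := hT.prod x hxS
  have hbK : b ∈ normalClosure (A : Set Y) := by
    simpa [← mul_assoc] using mul_mem (inv_mem (subset_normalClosure ha : a ∈ normalClosure (A : Set Y))) hxK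
  exact mul_mem ha ((closure_data hg hO h).1 b (hT.leB hb) hbK (hT.sqB b hb))

/-- The interchange of the roles. -/
theorem TwoEA.symm (hT : TwoEA S A B) : TwoEA S B A where
  leA := hT.leB
  leB := hT.leA
  sqA := hT.sqB
  sqB := hT.sqA
  prod := fun s hs => by
    obtain ⟨a, ha, b, hb, e⟩ := hT.prod s⁻¹ (inv_mem hs)
    exact ⟨b⁻¹, inv_mem hb, a⁻¹, inv_mem ha, by rw [← mul_inv_rev, e, inv_inv]⟩
  fix := fun b hb a ha e => (hT.fix a ha b hb e.symm).symm
  exA := hT.exB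
  exB := hT.exA

/-- If `A` and `B` are strongly closed and `A ⊓ B = [A, B]`, then `A` is normal. -/
theorem normal_of_two (hg : GoldInputs.{u}) (hO : ∀ N : Subgroup Y, N.Normal → Odd (Nat.card N) → N = ⊥)
    (hT : TwoEA S A B) (hA : SC S A) (hB : SC S B)
    (hgen : A ⊓ B ≤ closure {x | ∃ a ∈ A, ∃ b ∈ B, x = a * b * a⁻¹ * b⁻¹}) : A.Normal := by
  obtain ⟨-, R, C, hR, hC, hRA, hCK, hdec, hfull, -⟩ := closure_data hg hO hA
  haveI hKA : (normalClosure (A : Set Y)).Normal := normalClosure_normal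
  haveI hKB : (normalClosure (B : Set Y)).Normal := normalClosure_normal
  obtain ⟨M, hM⟩ : ∃ M, M = C ⊓ normalClosure (B : Set Y) := ⟨_, rfl⟩
  haveI := hC; haveI := hR
  haveI hMn : M.Normal := hM ▸ inferInstance
  have hCM : C ≤ M := by
    refine hfull M hMn (hM ▸ inf_le_left) ?_
    obtain ⟨W, hW⟩ : ∃ W, W = C ⊓ centralizer (M : Set Y) := ⟨_, rfl⟩
    rw [← hW]
    haveI hWn : W.Normal := hW ▸ inferInstance
    have hfix : ∀ b ∈ B, ∀ c ∈ ⁅W, W⁆, b * c = c * b := fun b hb c hc => by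
      refine fix_commutator (L := W) (m := b) (fun l hl l' hl' => ?_) (fun l hl => hWn.conj_mem l hl b) c hc
      have hbK : b ∈ normalClosure (B : Set Y) := subset_normalClosure hb
      have hz : l⁻¹ * (b * l * b⁻¹) ∈ M := by
        rw [hM]
        refine ⟨(hW ▸ inf_le_left : W ≤ C) (mul_mem (inv_mem hl) (hWn.conj_mem l hl b)), ?_⟩
        show l⁻¹ * (b * l * b⁻¹) ∈ normalClosure (B : Set Y)
        rw [show l⁻¹ * (b * l * b⁻¹) = l⁻¹ * b * l * b⁻¹ by group]
        exact mul_mem (hKB.conj_mem' b hbK l) (inv_mem hbK)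
      exact mem_centralizer_iff.1 ((hW ▸ inf_le_right : W ≤ centralizer (M : Set Y)) hl') _ hz
    have hW2 : ⁅W, W⁆ ≤ (S : Subgroup Y) := by
      refine le_sylow_of_central hO S inferInstance fun x hx hxS y hy => ?_
      have hxW : x ∈ W := commutator_le_self W hx
      have hxA : x ∈ A := mem_of_closure hg hO hT hA hxS (hCK ((hW ▸ inf_le_left : W ≤ C) hxW))
      obtain ⟨b, hb, hbA⟩ := hT.exB
      have hxM : x ∈ M := by
        rw [hM]
        exact ⟨(hW ▸ inf_le_left : W ≤ C) hxW, subset_normalClosure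
          ((hT.fix x hxA b hb (hfix b hb x hx).symm).resolve_right hbA)⟩
      exact mem_centralizer_iff.1 ((hW ▸ inf_le_right : W ≤ centralizer (M : Set Y)) (commutator_le_self W hy)) x hxM
    intro x hx y hy
    have hA' : ∀ z ∈ ⁅W, W⁆, z ∈ A := fun z hz => mem_of_closure hg hO hT hA (hW2 hz)
      (hCK ((hW ▸ inf_le_left : W ≤ C) (commutator_le_self W hz)))
    exact hA.comm x (hA' x hx) y (hA' y hy)
  have hsplit : ∀ a ∈ A, ∃ r ∈ R, ∃ c ∈ A ⊓ B, r * c = a := by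
    intro a ha
    obtain ⟨r, hr, c, hc, e⟩ := hdec a (subset_normalClosure ha)
    have hcA : c ∈ A := by rw [show c = r⁻¹ * a by rw [← e]; group]; exact mul_mem (inv_mem (hRA hr)) ha
    refine ⟨r, hr, c, ⟨hcA, ?_⟩, e⟩
    have hm := hCM hc
    rw [hM] at hm
    exact mem_of_closure hg hO hT.symm hB (hT.leA hcA) hm.2
  have hZR : A ⊓ B ≤ R := by
    refine hgen.trans ((Subgroup.closure_le _).2 ?_)
    rintro _ ⟨a, ha, b, hb, rfl⟩
    obtain ⟨r, hr, c, hc, rfl⟩ := hsplit a ha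
    rw [show r * c * b * (r * c)⁻¹ * b⁻¹ = r * (c * b * c⁻¹ * b⁻¹) * (b * r⁻¹ * b⁻¹) by group,
      hB.comm c hc.2 b hb, mul_inv_cancel_right, mul_inv_cancel, mul_one]
    exact mul_mem hr (hR.conj_mem _ (inv_mem hr) b)
  have : A = R := le_antisymm (fun a ha => by
    obtain ⟨r, hr, c, hc, rfl⟩ := hsplit a ha
    exact mul_mem hr (hZR hc)) hRA
  exact this ▸ hR

/-- Under a coprime action of `B`, the normaliser of `A` in the closure of `A` stabilises `A ⊓ B`. -/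
theorem normalizer_closure_stab (hg : GoldInputs.{u})
    (hO : ∀ N : Subgroup Y, N.Normal → Odd (Nat.card N) → N = ⊥) (hT : TwoEA S A B) (h : SC S A)
    (hnc : ∃ b₁ ∈ B, ∃ b₂ ∈ B, b₁ ∉ A ∧ b₂ ∉ A ∧ b₁ * b₂ ∉ A) {k : Y} (hk : k ∈ normalizer (A : Set Y))
    (hkK : k ∈ normalClosure (A : Set Y)) {a : Y} (ha : a ∈ A) : k * a * k⁻¹ ∈ B ↔ a ∈ B := by
  haveI : Fact (Nat.Prime 2) := ⟨Nat.prime_two⟩
  haveI hKn : (normalClosure (A : Set Y)).Normal := normalClosure_normal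
  obtain ⟨Nz, hNz⟩ : ∃ Nz : Subgroup Y, Nz = normalizer (A : Set Y) := ⟨_, rfl⟩
  let φ : ↥(normalizer (A : Set Y)) →* MulAut A := A.normalizerMonoidHom
  have hφ : ∀ (n : ↥(normalizer (A : Set Y))) (x : A), ((φ n x : A) : Y) = (n : Y) * x * (n : Y)⁻¹ :=
    fun _ _ => rfl
  let H : Subgroup (MulAut A) := ((normalClosure (A : Set Y)).subgroupOf (normalizer (A : Set Y))).map φ
  let B' : Subgroup (MulAut A) := (B.subgroupOf (normalizer (A : Set Y))).map φ
  have hBN : B ≤ normalizer (A : Set Y) := hT.leB.trans h.sylow_le_normalizer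
  have hφone : ∀ b (hb : b ∈ B), φ ⟨b, hBN hb⟩ = 1 → b ∈ A := by
    intro b hb e
    obtain ⟨a₀, ha₀, ha₀B⟩ := hT.exA
    have e' : b * a₀ * b⁻¹ = a₀ := by
      rw [← hφ ⟨b, hBN hb⟩ ⟨a₀, ha₀⟩, e]; rfl
    exact (hT.fix a₀ ha₀ b hb (mul_inv_eq_iff_eq_mul.1 e').symm).resolve_left ha₀B
  have hodd : Odd (Nat.card H) := by
    refine Nat.not_even_iff_odd.1 fun hev => ?_
    obtain ⟨x, hx⟩ := exists_prime_orderOf_dvd_card' (G := H) 2 (even_iff_two_dvd.1 hev)
    have hx2 : orderOf (x : MulAut A) = 2 := by rw [Subgroup.orderOf_coe, hx]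
    obtain ⟨n, hn, en⟩ := x.2
    obtain ⟨w, v, hwv, hw, hv, hw2, hvo⟩ := ClosedAbelian.exists_parts n
    have hvφ : φ v = 1 := by
      refine orderOf_eq_one_iff.1 (Nat.eq_one_of_dvd_coprimes (Nat.coprime_two_left.2 hvo) ?_ (orderOf_map_dvd φ v))
      obtain ⟨i, rfl⟩ := mem_zpowers_iff.1 hv
      rw [map_zpow, en, ← hx2]
      exact orderOf_dvd_of_mem_zpowers (zpow_mem (mem_zpowers _) i)
    have hwK : (w : Y) ∈ normalClosure (A : Set Y) := by
      obtain ⟨i, rfl⟩ := mem_zpowers_iff.1 hw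
      rw [Subgroup.coe_zpow]
      exact zpow_mem hn i
    have hAw : A ⊔ zpowers (w : Y) ≤ normalizer (A : Set Y) :=
      sup_le le_normalizer (zpowers_le.2 w.2)
    obtain ⟨e, he⟩ := hw2
    have hwp : IsPGroup 2 (zpowers (w : Y)) := by
      obtain ⟨j, -, hj⟩ := (Nat.dvd_prime_pow Nat.prime_two).1
        (orderOf_dvd_of_pow_eq_one (congrArg Subtype.val he : (w : Y) ^ 2 ^ e = 1))
      exact IsPGroup.of_card (n := j) (by rw [Nat.card_zpowers, hj])
    have hp : IsPGroup 2 (A ⊔ zpowers (w : Y) : Subgroup Y) :=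
      h.isPGroup.to_sup_of_normal_left' hwp (zpowers_le.2 w.2)
    obtain ⟨Q, hQ⟩ := hp.exists_le_sylow
    obtain ⟨g, hgQ⟩ := MulAction.exists_smul_eq Y Q S
    have hin : ∀ x ∈ A ⊔ zpowers (w : Y), g * x * g⁻¹ ∈ A := fun x hx => by
      refine mem_of_closure hg hO hT h ?_ ?_
      · rw [← hgQ]; exact ⟨x, hQ hx, rfl⟩
      · exact hKn.conj_mem x ((sup_le (fun a ha => subset_normalClosure ha) (zpowers_le.2 hwK) :
          A ⊔ zpowers (w : Y) ≤ normalClosure (A : Set Y)) hx) g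
    have hwA : (w : Y) ∈ A := by
      have hle : (A ⊔ zpowers (w : Y)).map (MulAut.conj g).toMonoidHom ≤ A := by
        rintro _ ⟨x, hx, rfl⟩
        exact hin x hx
      have e' := eq_of_le_of_card_ge (le_sup_left : A ≤ A ⊔ zpowers (w : Y))
        (le_trans (le_of_eq (card_map_of_injective (MulAut.conj g).injective).symm) (card_le_of_le hle))
      exact le_of_eq e'.symm (mem_sup_right (mem_zpowers _))
    have hwφ : φ w = 1 := MulEquiv.ext fun y => Subtype.ext (by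
      rw [hφ, h.comm _ hwA _ y.2, mul_inv_cancel_right]; rfl)
    rw [← en, ← hwv, map_mul, hwφ, hvφ, one_mul, orderOf_one] at hx2
    exact absurd hx2 (by norm_num)
  have hB'c : IsMulCommutative B' := by
    refine ⟨⟨fun x y => Subtype.ext ?_⟩⟩
    obtain ⟨n, hn, en⟩ := x.2
    obtain ⟨m, hm, em⟩ := y.2
    show (x : MulAut A) * y = y * x
    rw [← en, ← em, ← map_mul, ← map_mul]
    have hc : ∀ p ∈ B, ∀ q ∈ B, p * q = q * p := fun p hp q hq => by
      have h1 := inv_eq_of_mul_eq_one_right (hT.sqB p hp)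
      have h2 := inv_eq_of_mul_eq_one_right (hT.sqB q hq)
      have h3 := inv_eq_of_mul_eq_one_right (hT.sqB _ (mul_mem hp hq))
      rw [mul_inv_rev, h1, h2] at h3
      exact h3.symm
    exact congrArg φ (Subtype.ext (hc _ hn _ hm))
  haveI := hB'c
  have hsq : ∀ x ∈ B', x * x = 1 := by
    rintro _ ⟨n, hn, rfl⟩
    rw [← map_mul, show n * n = 1 from Subtype.ext (hT.sqB _ hn), map_one]
  have hncyc : ¬ IsCyclic B' := by
    intro hcy
    obtain ⟨⟨γ, hγm⟩, hγ⟩ := hcy.exists_generator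
    obtain ⟨b₁, hb₁, b₂, hb₂, h1, h2, h12⟩ := hnc
    have hsame : ∀ b (hb : b ∈ B), b ∉ A → φ ⟨b, hBN hb⟩ = γ := fun b hb hbA => by
      obtain ⟨i, hi⟩ := mem_zpowers_iff.1 (hγ ⟨φ ⟨b, hBN hb⟩, ⟨⟨b, hBN hb⟩, hb, rfl⟩⟩)
      have hi' : γ ^ i = φ ⟨b, hBN hb⟩ := congrArg Subtype.val hi
      rcases Int.even_or_odd' i with ⟨j, rfl | rfl⟩
      · rw [zpow_mul, zpow_two, hsq γ hγm, one_zpow] at hi'
        exact absurd (hφone b hb hi'.symm) hbA
      · rw [zpow_add, zpow_mul, zpow_two, hsq γ hγm, one_zpow, one_mul, zpow_one] at hi'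
        exact hi'.symm
    have e3 : φ ⟨b₁ * b₂, hBN (mul_mem hb₁ hb₂)⟩ = γ * γ := by
      rw [show (⟨b₁ * b₂, hBN (mul_mem hb₁ hb₂)⟩ : ↥(normalizer (A : Set Y))) =
        ⟨b₁, hBN hb₁⟩ * ⟨b₂, hBN hb₂⟩ from rfl, map_mul, hsame b₁ hb₁ h1, hsame b₂ hb₂ h2]
    rw [hsq γ hγm] at e3
    exact h12 (hφone _ (mul_mem hb₁ hb₂) e3)
  have hBH : B' ≤ normalizer (H : Set (MulAut A)) := by
    haveI : ((normalClosure (A : Set Y)).subgroupOf (normalizer (A : Set Y))).Normal := inferInstance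
    refine (map_mono (le_top : B.subgroupOf (normalizer (A : Set Y)) ≤ ⊤)).trans ?_
    rw [← normalizer_eq_top ((normalClosure (A : Set Y)).subgroupOf (normalizer (A : Set Y)))]
    exact le_normalizer_map φ
  have hB'p : IsPGroup 2 B' := fun x => ⟨1, Subtype.ext (by
    show (x : MulAut A) ^ 2 ^ 1 = 1
    rw [pow_one, pow_two, hsq _ x.2])⟩
  obtain ⟨e, he⟩ := IsPGroup.iff_card.1 hB'p
  have hgen := CoprimeAct.generated_by_centralizers (K := H) hncyc hBH (by
    rw [he]; exact (Nat.coprime_two_left.2 hodd).pow_left e)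
  let St : Subgroup (MulAut A) :=
    { carrier := {α | ∀ x : A, ((α x : A) : Y) ∈ B ↔ (x : Y) ∈ B}
      one_mem' := fun x => Iff.rfl
      mul_mem' := fun {α β} hα hβ x => (hα (β x)).trans (hβ x)
      inv_mem' := fun {α} hα x => by
        have := hα (α⁻¹ x)
        rw [MulAut.apply_inv_self] at this
        exact this.symm }
  have hHSt : H ≤ St := by
    rw [← hgen]
    refine iSup₂_le fun β hβ => ?_
    rintro α ⟨-, hα⟩
    obtain ⟨hβB, hβ1⟩ := hβ
    obtain ⟨n, hn, rfl⟩ := hβB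
    have hnA : (n : Y) ∉ A := fun hn' => hβ1 (MulEquiv.ext fun y => Subtype.ext (by
      rw [hφ, h.comm _ hn' _ y.2, mul_inv_cancel_right]; rfl))
    have hfixed : ∀ x : A, (x : Y) ∈ B ↔ φ n x = x := by
      intro x
      constructor
      · intro hx
        have e1 := inv_eq_of_mul_eq_one_right (hT.sqB _ hn)
        have e2 := inv_eq_of_mul_eq_one_right (hT.sqB _ hx)
        have e3 := inv_eq_of_mul_eq_one_right (hT.sqB _ (mul_mem hn hx))
        rw [mul_inv_rev, e1, e2] at e3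
        exact Subtype.ext (by
          rw [hφ]
          exact mul_inv_eq_iff_eq_mul.2 e3.symm)
      · intro e
        have e' : (n : Y) * x * (n : Y)⁻¹ = x := by rw [← hφ, e]
        exact (hT.fix x x.2 n hn (mul_inv_eq_iff_eq_mul.1 e').symm).resolve_right hnA
    have hc := mem_centralizer_singleton_iff.1 hα
    intro x
    rw [hfixed, hfixed]
    have hx' : φ n (α x) = α (φ n x) := (DFunLike.congr_fun hc x).symm
    rw [hx']
    exact α.injective.eq_iff
  have hkH : φ ⟨k, hk⟩ ∈ H := ⟨⟨k, hk⟩, hkK, rfl⟩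
  have := hHSt hkH ⟨a, ha⟩
  rwa [hφ] at this

/-- The Sylow part of a product of two normal subgroups, for an abelian Sylow subgroup. -/
theorem inf_sup_le {Q : Type*} [Group Q] [Finite Q] (P : Sylow 2 Q) {M M' : Subgroup Q} (hM : M.Normal)
    (hM' : M'.Normal) : (M ⊔ M') ⊓ (P : Subgroup Q) ≤ (M ⊓ (P : Subgroup Q)) ⊔ (M' ⊓ (P : Subgroup Q)) := by
  haveI : Fact (Nat.Prime 2) := ⟨Nat.prime_two⟩
  haveI := hM; haveI := hM'
  rintro x ⟨hx, hxP⟩
  obtain ⟨f, hf⟩ : ∃ f : Q →* Q ⧸ M', f = QuotientGroup.mk' M' := ⟨_, rfl⟩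
  have hk : ∀ y, f y = 1 ↔ y ∈ M' := fun y => by rw [hf]; exact QuotientGroup.eq_one_iff y
  obtain ⟨R, hR⟩ := GoldStruct.sylow_inf P hM
  obtain ⟨g, hg⟩ : ∃ g : M →* (M.map f : Subgroup (Q ⧸ M')), g = f.subgroupMap M := ⟨_, rfl⟩
  have hgs : Function.Surjective g := hg ▸ f.subgroupMap_surjective M
  let T : Sylow 2 (M.map f : Subgroup (Q ⧸ M')) := R.mapSurjective hgs
  have hfx : f x ∈ M.map f := by
    obtain ⟨m, hm, m', hm', rfl⟩ := mem_sup_of_normal_left.1 hx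
    exact ⟨m, hm, by rw [map_mul, (hk m').2 hm', mul_one]⟩
  have hU : IsPGroup 2 (((P : Subgroup Q).map f).subgroupOf (M.map f)) := (P.2.map f).comap_subtype
  have hle : (T : Subgroup (M.map f : Subgroup (Q ⧸ M'))) ≤ ((P : Subgroup Q).map f).subgroupOf (M.map f) := by
    rintro _ ⟨r, hr, rfl⟩
    rw [mem_subgroupOf, hg]
    rw [hR] at hr
    exact ⟨r, (mem_subgroupOf.1 hr).1, rfl⟩
  have hxT : (⟨f x, hfx⟩ : (M.map f : Subgroup (Q ⧸ M'))) ∈ (T : Subgroup _) := by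
    rw [← T.is_maximal' hU hle]
    exact ⟨x, hxP, rfl⟩
  obtain ⟨r, hr, er⟩ := hxT
  rw [hR] at hr
  obtain ⟨hrP, hrM⟩ := (mem_subgroupOf.1 hr : (r : Q) ∈ (P : Subgroup Q) ⊓ M)
  have e : f r = f x := by
    have e' := congrArg Subtype.val er
    rw [hg] at e'
    exact e'
  rw [show x = (r : Q) * ((r : Q)⁻¹ * x) by group]
  have hp : (r : Q)⁻¹ * x ∈ (P : Subgroup Q) := mul_mem (inv_mem hrP) hxP
  exact mul_mem (mem_sup_left ⟨hrM, hrP⟩) (mem_sup_right ⟨(hk _).1 (by rw [map_mul, map_inv, e, inv_mul_cancel]), hp⟩)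

/-- If conjugates of `A ⊓ B` by `N(A)` fill `A` and meet it only in the normalised `D`, then `A` is
normal. -/
theorem normal_of_lines (hg : GoldInputs.{u}) (hO : ∀ N : Subgroup Y, N.Normal → Odd (Nat.card N) → N = ⊥)
    (hT : TwoEA S A B) (h : SC S A)
    (hnc : ∃ b₁ ∈ B, ∃ b₂ ∈ B, b₁ ∉ A ∧ b₂ ∉ A ∧ b₁ * b₂ ∉ A)
    (hgen : A ⊓ B ≤ closure {x | ∃ a ∈ A, ∃ b ∈ B, x = a * b * a⁻¹ * b⁻¹})
    (hcov : ∀ a ∈ A, ∃ n ∈ normalizer (A : Set Y), n * a * n⁻¹ ∈ B)
    {D : Subgroup Y} (hDZ : D ≤ A ⊓ B) (hD : normalizer (A : Set Y) ≤ normalizer (D : Set Y))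
    {n₁ n₂ : Y} (hn₁ : n₁ ∈ normalizer (A : Set Y)) (hn₂ : n₂ ∈ normalizer (A : Set Y))
    (h1 : ∀ a ∈ A, a ∈ B → n₁ * a * n₁⁻¹ ∈ B → a ∈ D) (h2 : ∀ a ∈ A, a ∈ B → n₂ * a * n₂⁻¹ ∈ B → a ∈ D)
    (hfill : ∀ a ∈ A, ∃ u ∈ A, ∃ v ∈ A, u * v = a ∧ n₁ * u * n₁⁻¹ ∈ B ∧ n₂ * v * n₂⁻¹ ∈ B) : A.Normal := by
  haveI : Fact (Nat.Prime 2) := ⟨Nat.prime_two⟩
  obtain ⟨-, R, C, hR, hC, hRA, hCK, hdec, -, hcomm⟩ := closure_data hg hO h
  haveI := hR; haveI := hC
  obtain ⟨K, hK⟩ : ∃ K : Subgroup Y, K = normalClosure (A : Set Y) := ⟨_, rfl⟩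
  haveI hKn : K.Normal := hK ▸ normalClosure_normal
  have hAK : A ≤ K := hK ▸ fun a ha => subset_normalClosure ha
  obtain ⟨P, hP⟩ := GoldStruct.sylow_inf S hKn
  have hPA : ∀ x : K, x ∈ (P : Subgroup K) ↔ (x : Y) ∈ A := fun x => by
    rw [hP]
    exact ⟨fun hx => mem_of_closure hg hO hT h (mem_subgroupOf.1 hx).1 (hK ▸ x.2),
      fun hx => ⟨h.le hx, x.2⟩⟩
  have hscA : SC P (A.subgroupOf K) := ⟨fun a ha b hb => Subtype.ext (h.comm a ha b hb),
    fun a ha => (hPA a).2 ha, fun a _ g hg' => (hPA _).1 hg'⟩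
  -- the lines are strongly closed in `K`
  let line : Y → Subgroup K := fun n => ((A ⊓ B).map (MulAut.conj n⁻¹).toMonoidHom).subgroupOf K
  have hline : ∀ {n : Y}, n ∈ normalizer (A : Set Y) → ∀ x : K,
      x ∈ line n ↔ (x : Y) ∈ A ∧ n * (x : Y) * n⁻¹ ∈ B := by
    intro n hn x
    constructor
    · rintro ⟨z, ⟨hzA, hzB⟩, e⟩
      have e' : n⁻¹ * z * n⁻¹⁻¹ = (x : Y) := e
      rw [← e', show n * (n⁻¹ * z * n⁻¹⁻¹) * n⁻¹ = z by group, inv_inv]
      refine ⟨?_, hzB⟩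
      have := (mem_normalizer_iff.1 (inv_mem hn) z).1 hzA
      rwa [inv_inv] at this
    · rintro ⟨hxA, hxB⟩
      refine ⟨n * (x : Y) * n⁻¹, ⟨(mem_normalizer_iff.1 hn _).1 hxA, hxB⟩, ?_⟩
      show n⁻¹ * (n * (x : Y) * n⁻¹) * n⁻¹⁻¹ = (x : Y)
      group
  have hscL : ∀ {n : Y}, n ∈ normalizer (A : Set Y) → SC P (line n) := by
    intro n hn
    refine ⟨fun a ha b hb => Subtype.ext (h.comm a ((hline hn a).1 ha).1 b ((hline hn b).1 hb).1),
      fun a ha => (hPA a).2 ((hline hn a).1 ha).1, fun z hz g hg' => ?_⟩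
    obtain ⟨hzA, hzB⟩ := (hline hn z).1 hz
    obtain ⟨m, hm, e⟩ := hscA.control (a := z) hzA hg'
    have hmA : (m : Y) ∈ normalizer (A : Set Y) := SEBrick.mem_normalizer_of fun x hx =>
      (mem_normalizer_iff.1 hm ⟨x, hAK hx⟩).1 hx
    rw [e]
    refine (hline hn _).2 ⟨(mem_normalizer_iff.1 hmA _).1 hzA, ?_⟩
    show n * ((m : Y) * z * (m : Y)⁻¹) * n⁻¹ ∈ B
    rw [show n * ((m : Y) * z * (m : Y)⁻¹) * n⁻¹ =
      (n * m * n⁻¹) * (n * z * n⁻¹) * (n * m * n⁻¹)⁻¹ by group]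
    refine (normalizer_closure_stab hg hO hT h hnc (mul_mem (mul_mem hn hmA) (inv_mem hn)) ?_
      ((mem_normalizer_iff.1 hn _).1 hzA)).2 hzB
    rw [← hK]
    exact hKn.conj_mem _ m.2 n
  have hone : ∀ {n : Y}, n ∈ normalizer (A : Set Y) → ∀ x ∈ normalClosure (line n : Set K),
      x ∈ (P : Subgroup K) → x ∈ line n := fun hn x hx hxP =>
    (closure_data hg (core_bot_normal hO hKn) (hscL hn)).1 x hxP hx
      (Subtype.ext (hT.sqA _ ((hPA x).1 hxP)))
  -- the three closures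
  obtain ⟨M₀, hM₀⟩ : ∃ M, M = normalClosure (line 1 : Set K) := ⟨_, rfl⟩
  obtain ⟨M₁, hM₁⟩ : ∃ M, M = normalClosure (line n₁ : Set K) := ⟨_, rfl⟩
  obtain ⟨M₂, hM₂⟩ : ∃ M, M = normalClosure (line n₂ : Set K) := ⟨_, rfl⟩
  haveI h₀n : M₀.Normal := hM₀ ▸ normalClosure_normal
  haveI h₁n : M₁.Normal := hM₁ ▸ normalClosure_normal
  haveI h₂n : M₂.Normal := hM₂ ▸ normalClosure_normal
  obtain ⟨N, hN⟩ : ∃ N, N = (M₀ ⊓ M₁) ⊔ (M₀ ⊓ M₂) := ⟨_, rfl⟩
  haveI hNn : N.Normal := hN ▸ inferInstance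
  have htop : M₁ ⊔ M₂ = ⊤ := by
    rw [eq_top_iff, ← normalClosure_eq_top h K hK]
    refine normalClosure_le_normal fun x hx => ?_
    obtain ⟨u, hu, v, hv, e, hu', hv'⟩ := hfill (x : Y) hx
    have ex : x = ⟨u, hAK hu⟩ * ⟨v, hAK hv⟩ := Subtype.ext e.symm
    rw [ex]
    exact mul_mem (mem_sup_left (hM₁ ▸ subset_normalClosure ((hline hn₁ _).2 ⟨hu, hu'⟩)))
      (mem_sup_right (hM₂ ▸ subset_normalClosure ((hline hn₂ _).2 ⟨hv, hv'⟩)))
  have hND : ∀ x ∈ N, x ∈ (P : Subgroup K) → (x : Y) ∈ D := by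
    intro x hx hxP
    have hpart : ∀ {n : Y}, n ∈ normalizer (A : Set Y) → (∀ a ∈ A, a ∈ B → n * a * n⁻¹ ∈ B → a ∈ D) →
        (M₀ ⊓ normalClosure (line n : Set K)) ⊓ (P : Subgroup K) ≤ D.subgroupOf K := by
      rintro n hn hd y ⟨⟨hy0, hy1⟩, hyP⟩
      rw [hM₀] at hy0
      obtain ⟨hyA, hyB⟩ := (hline (one_mem _) y).1 (hone (one_mem _) y hy0 hyP)
      exact hd _ hyA (by simpa using hyB) ((hline hn y).1 (hone hn y hy1 hyP)).2
    have := inf_sup_le P (M := M₀ ⊓ M₁) (M' := M₀ ⊓ M₂) inferInstance inferInstance ⟨hN ▸ hx, hxP⟩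
    have hle₁ : (M₀ ⊓ M₁) ⊓ (P : Subgroup K) ≤ D.subgroupOf K := by rw [hM₁]; exact hpart hn₁ h1
    have hle₂ : (M₀ ⊓ M₂) ⊓ (P : Subgroup K) ≤ D.subgroupOf K := by rw [hM₂]; exact hpart hn₂ h2
    exact mem_subgroupOf.1 ((sup_le hle₁ hle₂ : _ ≤ D.subgroupOf K) this)
  have hkey : ∀ p ∈ A, p ∈ B → p ∈ C → p ∈ D := by
    intro p hpA hpB hpC
    obtain ⟨z, hz⟩ : ∃ z : K, z = ⟨p, hAK hpA⟩ := ⟨_, rfl⟩
    obtain ⟨f, hf⟩ : ∃ f : K →* K ⧸ N, f = QuotientGroup.mk' N := ⟨_, rfl⟩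
    have hfs : Function.Surjective f := hf ▸ QuotientGroup.mk'_surjective N
    have hzM : z ∈ M₀ := hM₀ ▸ subset_normalClosure ((hline (one_mem _) z).2
      ⟨hz ▸ hpA, by rw [hz, one_mul, inv_one, mul_one]; exact hpB⟩)
    have hcen : ∀ g : K, f z * f g = f g * f z := by
      intro g
      have hle : M₁ ⊔ M₂ ≤ (centralizer ({f z} : Set (K ⧸ N))).comap f := by
        refine sup_le (fun y hy => ?_) (fun y hy => ?_) <;>
          refine mem_centralizer_singleton_iff.2 ?_ <;>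
          rw [← map_mul, ← map_mul, hf, QuotientGroup.mk'_apply, QuotientGroup.mk'_apply, QuotientGroup.eq, hN]
        · refine mem_sup_left ⟨?_, ?_⟩
          · show (y * z)⁻¹ * (z * y) ∈ M₀
            rw [show (y * z)⁻¹ * (z * y) = z⁻¹ * (y⁻¹ * z * y) by group]
            exact mul_mem (inv_mem hzM) (h₀n.conj_mem' z hzM y)
          · rw [show (y * z)⁻¹ * (z * y) = (z⁻¹ * y⁻¹ * z) * y by group]
            exact mul_mem (h₁n.conj_mem' _ (inv_mem hy) z) hy
        · refine mem_sup_right ⟨?_, ?_⟩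
          · show (y * z)⁻¹ * (z * y) ∈ M₀
            rw [show (y * z)⁻¹ * (z * y) = z⁻¹ * (y⁻¹ * z * y) by group]
            exact mul_mem (inv_mem hzM) (h₀n.conj_mem' z hzM y)
          · rw [show (y * z)⁻¹ * (z * y) = (z⁻¹ * y⁻¹ * z) * y by group]
            exact mul_mem (h₂n.conj_mem' _ (inv_mem hy) z) hy
      exact (mem_centralizer_singleton_iff.1 (hle (htop ▸ mem_top g))).symm
    have hfz : f z = 1 := by
      refine eq_one_of_central_commutator (P.mapSurjective hfs) ⟨⟨?_⟩⟩ ⟨z, (hPA z).2 (hz ▸ hpA), rfl⟩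
        (by rw [← map_mul, show z * z = 1 from Subtype.ext (hz ▸ hT.sqA p hpA), map_one])
        (mem_center_iff.2 fun y => by obtain ⟨g, rfl⟩ := hfs y; exact (hcen g).symm) ?_
      · rintro ⟨_, a, ha, rfl⟩ ⟨_, b, hb, rfl⟩
        exact Subtype.ext (by
          show f a * f b = f b * f a
          rw [← map_mul, ← map_mul]
          exact congrArg f (Subtype.ext (h.comm a ((hPA a).1 ha) b ((hPA b).1 hb))))
      · have hzc : z ∈ commutator K := by
          subst hK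
          rw [hz]
          exact hcomm p hpC _
        have := mem_map_of_mem f hzc
        rw [map_commutator_eq, MonoidHom.range_eq_top.2 hfs] at this
        exact this
    rw [hf] at hfz
    have := hND z ((QuotientGroup.eq_one_iff z).1 hfz) ((hPA z).2 (hz ▸ hpA))
    rwa [hz] at this
  have hsplit : ∀ a ∈ A, ∃ r ∈ R, ∃ c ∈ D, r * c = a := by
    intro a ha
    obtain ⟨r, hr, c, hc, e⟩ := hdec a (subset_normalClosure ha)
    have hcA : c ∈ A := by rw [show c = r⁻¹ * a by rw [← e]; group]; exact mul_mem (inv_mem (hRA hr)) ha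
    obtain ⟨n, hn, hnB⟩ := hcov c hcA
    have hm := hkey _ ((mem_normalizer_iff.1 hn _).1 hcA) hnB (hC.conj_mem c hc n)
    exact ⟨r, hr, c, (mem_normalizer_iff.1 (hD hn) c).2 hm, e⟩
  have hZR : A ⊓ B ≤ R := by
    refine hgen.trans ((Subgroup.closure_le _).2 ?_)
    rintro _ ⟨a, ha, b, hb, rfl⟩
    obtain ⟨r, hr, c, hc, rfl⟩ := hsplit a ha
    have hcb : c * b = b * c := by
      have e1 := inv_eq_of_mul_eq_one_right (hT.sqB _ (hDZ hc).2)
      have e2 := inv_eq_of_mul_eq_one_right (hT.sqB b hb)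
      have e3 := inv_eq_of_mul_eq_one_right (hT.sqB _ (mul_mem (hDZ hc).2 hb))
      rw [mul_inv_rev, e1, e2] at e3
      exact e3.symm
    rw [show r * c * b * (r * c)⁻¹ * b⁻¹ = r * (c * b * c⁻¹ * b⁻¹) * (b * r⁻¹ * b⁻¹) by group,
      hcb, mul_inv_cancel_right, mul_inv_cancel, mul_one]
    exact mul_mem hr (hR.conj_mem _ (inv_mem hr) b)
  have : A = R := le_antisymm (fun a ha => by
    obtain ⟨n, hn, hnB⟩ := hcov a ha
    have hm := hR.conj_mem' _ (hZR ⟨(mem_normalizer_iff.1 hn a).1 ha, hnB⟩) n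
    rwa [show n⁻¹ * (n * a * n⁻¹) * n = a by group] at hm) hRA
  exact this ▸ hR

end Cfsg.Agent.ABRec
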