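import Cfsg.Agent.Lib.ABRec.CentClosed
import Cfsg.Agent.Lib.Transfer.Basic
import Cfsg.Agent.Lib.SEBrick.Common
import Cfsg.Agent.Lib.SEBrick.Basic

/-!
Passing the normality of `A` from a centraliser modulo its odd core, fusion of involutions of `A` inside such
a centraliser, and the coprime lemma behind balance.
-/

set_option autoImplicit false
set_option linter.style.haveILetI false
set_option linter.unusedSectionVars false

namespace Cfsg.Agent.ABRec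

open Subgroup Cfsg.Agent.GoldStruct

universe u

variable {X : Type u} [Group X] [Finite X] {S : Sylow 2 X} {A B : Subgroup X}

theorem elem_comm (h : ∀ a ∈ A, a * a = 1) {p q : X} (hp : p ∈ A) (hq : q ∈ A) : p * q = q * p := by
  have h1 := inv_eq_of_mul_eq_one_right (h p hp)
  have h2 := inv_eq_of_mul_eq_one_right (h q hq)
  have h3 := inv_eq_of_mul_eq_one_right (h _ (mul_mem hp hq))
  rw [mul_inv_rev, h1, h2] at h3
  exact h3.symm

theorem TwoEA.commA (hT : TwoEA S A B) {p q : X} (hp : p ∈ A) (hq : q ∈ A) : p * q = q * p :=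
  elem_comm hT.sqA hp hq

theorem TwoEA.commB (hT : TwoEA S A B) {p q : X} (hp : p ∈ B) (hq : q ∈ B) : p * q = q * p :=
  elem_comm hT.sqB hp hq

/-- An involution of the Sylow subgroup lies in `A` or in `B`. -/
theorem TwoEA.invol (hT : TwoEA S A B) {x : X} (hx : x ∈ (S : Subgroup X)) (hx2 : x * x = 1) :
    x ∈ A ∨ x ∈ B := by
  obtain ⟨a, ha, b, hb, rfl⟩ := hT.prod x hx
  have hc : a * b = b * a := by
    have h1 := inv_eq_of_mul_eq_one_right hx2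
    rw [mul_inv_rev, inv_eq_of_mul_eq_one_right (hT.sqA a ha), inv_eq_of_mul_eq_one_right (hT.sqB b hb)] at h1
    exact h1.symm
  rcases hT.fix a ha b hb hc with h | h
  · exact Or.inr (mul_mem h hb)
  · exact Or.inl (mul_mem ha h)

/-- `A` is normalised by `B`. -/
theorem TwoEA.conjA (hT : TwoEA S A B) {a b : X} (ha : a ∈ A) (hb : b ∈ B) : b * a * b⁻¹ ∈ A := by
  have hS : b * a * b⁻¹ ∈ (S : Subgroup X) := mul_mem (mul_mem (hT.leB hb) (hT.leA ha)) (inv_mem (hT.leB hb))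
  rcases hT.invol hS (by
    rw [show b * a * b⁻¹ * (b * a * b⁻¹) = b * (a * a) * b⁻¹ by group, hT.sqA a ha, mul_one, mul_inv_cancel]) with h | h
  · exact h
  · have haB : a ∈ B := by
      rw [show a = b⁻¹ * (b * a * b⁻¹) * b by group]
      exact mul_mem (mul_mem (inv_mem hb) h) hb
    rw [hT.commB hb haB, mul_inv_cancel_right]; exact ha

theorem TwoEA.normalA (hT : TwoEA S A B) : (S : Subgroup X) ≤ normalizer (A : Set X) := fun s hs => by
  obtain ⟨a, ha, b, hb, rfl⟩ := hT.prod s hs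
  exact mul_mem (le_normalizer ha) (SEBrick.mem_normalizer_of fun x hx => hT.conjA hx hb)

/-- `S` restricted to a subgroup containing it. -/
theorem TwoEA.restrict (hT : TwoEA S A B) {M : Subgroup X} (hM : (S : Subgroup X) ≤ M) :
    TwoEA (S.subtype hM) (A.subgroupOf M) (B.subgroupOf M) where
  leA := fun _ ha => hT.leA ha
  leB := fun _ hb => hT.leB hb
  sqA := fun _ ha => Subtype.ext (hT.sqA _ ha)
  sqB := fun _ hb => Subtype.ext (hT.sqB _ hb)
  prod := fun s hs => by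
    obtain ⟨a, ha, b, hb, e⟩ := hT.prod (s : X) hs
    exact ⟨⟨a, hM (hT.leA ha)⟩, ha, ⟨b, hM (hT.leB hb)⟩, hb, Subtype.ext e⟩
  fix := fun a ha b hb e => hT.fix (a : X) ha (b : X) hb (congrArg Subtype.val e)
  exA := by
    obtain ⟨a, ha, h⟩ := hT.exA
    exact ⟨⟨a, hM (hT.leA ha)⟩, ha, h⟩
  exB := by
    obtain ⟨b, hb, h⟩ := hT.exB
    exact ⟨⟨b, hM (hT.leB hb)⟩, hb, h⟩

/-! ### Modulo the odd core -/

variable (hT : TwoEA S A B)
include hT

theorem mk_eq_one {x : X} (hx : x ∈ (S : Subgroup X))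
    (h : QuotientGroup.mk' (Cfsg.pPrimeCore 2 X) x = 1) : x = 1 := by
  haveI : Fact (Nat.Prime 2) := ⟨Nat.prime_two⟩
  obtain ⟨n, hn⟩ := IsPGroup.iff_card.1 S.2
  refine orderOf_eq_one_iff.1 (Nat.eq_one_of_dvd_coprimes ?_
    (Subgroup.orderOf_dvd_natCard _ ((QuotientGroup.eq_one_iff x).1 h)) (Subgroup.orderOf_dvd_natCard _ hx))
  rw [hn]
  exact (PBasic.pPrimeCore_coprime 2 X).pow_right n

theorem mk_mem_iff {x : X} (hx : x ∈ (S : Subgroup X)) {C : Subgroup X} (hC : C ≤ (S : Subgroup X)) :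
    QuotientGroup.mk' (Cfsg.pPrimeCore 2 X) x ∈ C.map (QuotientGroup.mk' (Cfsg.pPrimeCore 2 X)) ↔ x ∈ C := by
  refine ⟨fun ⟨c, hc, e⟩ => ?_, fun h => mem_map_of_mem _ h⟩
  have := mk_eq_one hT (x := c⁻¹ * x) (mul_mem (inv_mem (hC hc)) hx) (by
    rw [map_mul, map_inv, e, inv_mul_cancel])
  rwa [← inv_mul_eq_one.1 this]

/-- The image modulo the odd core. -/
theorem TwoEA.quot (hs : Function.Surjective (QuotientGroup.mk' (Cfsg.pPrimeCore 2 X))) :
    TwoEA (S.mapSurjective hs) (A.map (QuotientGroup.mk' (Cfsg.pPrimeCore 2 X)))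
      (B.map (QuotientGroup.mk' (Cfsg.pPrimeCore 2 X))) where
  leA := map_mono hT.leA
  leB := map_mono hT.leB
  sqA := by rintro _ ⟨a, ha, rfl⟩; rw [← map_mul, hT.sqA a ha, map_one]
  sqB := by rintro _ ⟨b, hb, rfl⟩; rw [← map_mul, hT.sqB b hb, map_one]
  prod := by
    rintro _ ⟨s, hs', rfl⟩
    obtain ⟨a, ha, b, hb, rfl⟩ := hT.prod s hs'
    exact ⟨_, ⟨a, ha, rfl⟩, _, ⟨b, hb, rfl⟩, (map_mul _ a b).symm⟩
  fix := by
    rintro _ ⟨a, ha, rfl⟩ _ ⟨b, hb, rfl⟩ e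
    have hab := hT.leA ha; have hbb := hT.leB hb
    have : (b * a)⁻¹ * (a * b) = 1 := mk_eq_one hT (mul_mem (inv_mem (mul_mem hbb hab)) (mul_mem hab hbb))
      (by rw [map_mul, map_inv, map_mul, map_mul, e, inv_mul_cancel])
    rcases hT.fix a ha b hb (inv_mul_eq_one.1 this).symm with h | h
    · exact Or.inl (mem_map_of_mem _ h)
    · exact Or.inr (mem_map_of_mem _ h)
  exA := by
    obtain ⟨a, ha, h⟩ := hT.exA
    exact ⟨_, mem_map_of_mem _ ha, fun h' => h ((mk_mem_iff hT (hT.leA ha) hT.leB).1 h')⟩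
  exB := by
    obtain ⟨b, hb, h⟩ := hT.exB
    exact ⟨_, mem_map_of_mem _ hb, fun h' => h ((mk_mem_iff hT (hT.leB hb) hT.leA).1 h')⟩

omit hT in
theorem quot_core (N : Subgroup (X ⧸ Cfsg.pPrimeCore 2 X)) (hN : N.Normal) (hodd : Odd (Nat.card N)) :
    N = ⊥ := by
  haveI : Fact (Nat.Prime 2) := ⟨Nat.prime_two⟩
  rw [eq_bot_iff, ← PBasic.pPrimeCore_quotient_pPrimeCore 2 X]
  exact PBasic.le_pPrimeCore hN (Nat.coprime_two_right.2 hodd)

theorem quot_gen (hgen : A ⊓ B ≤ closure {x | ∃ a ∈ A, ∃ b ∈ B, x = a * b * a⁻¹ * b⁻¹}) :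
    A.map (QuotientGroup.mk' (Cfsg.pPrimeCore 2 X)) ⊓ B.map (QuotientGroup.mk' (Cfsg.pPrimeCore 2 X)) ≤
      closure {x | ∃ a ∈ A.map (QuotientGroup.mk' (Cfsg.pPrimeCore 2 X)),
        ∃ b ∈ B.map (QuotientGroup.mk' (Cfsg.pPrimeCore 2 X)), x = a * b * a⁻¹ * b⁻¹} := by
  rintro _ ⟨⟨a, ha, rfl⟩, hB⟩
  have haB := (mk_mem_iff hT (hT.leA ha) hT.leB).1 hB
  have hle : A ⊓ B ≤ (closure {x | ∃ a ∈ A.map (QuotientGroup.mk' (Cfsg.pPrimeCore 2 X)),
        ∃ b ∈ B.map (QuotientGroup.mk' (Cfsg.pPrimeCore 2 X)), x = a * b * a⁻¹ * b⁻¹}).comap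
      (QuotientGroup.mk' (Cfsg.pPrimeCore 2 X)) := by
    refine hgen.trans ((Subgroup.closure_le _).2 ?_)
    rintro _ ⟨p, hp, q, hq, rfl⟩
    exact subset_closure ⟨_, mem_map_of_mem _ hp, _, mem_map_of_mem _ hq, by simp only [map_mul, map_inv]⟩
  exact hle ⟨ha, haB⟩

/-- An element normalising `A` modulo the odd core is the core times the normaliser of `A`. -/
theorem lift_normalizer (g : X)
    (hg : QuotientGroup.mk' (Cfsg.pPrimeCore 2 X) g ∈
      normalizer ((A.map (QuotientGroup.mk' (Cfsg.pPrimeCore 2 X)) : Subgroup _) : Set (X ⧸ Cfsg.pPrimeCore 2 X))) :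
    ∃ o ∈ Cfsg.pPrimeCore 2 X, o * g ∈ normalizer (A : Set X) := by
  haveI : Fact (Nat.Prime 2) := ⟨Nat.prime_two⟩
  obtain ⟨O, hO⟩ : ∃ O : Subgroup X, O = Cfsg.pPrimeCore 2 X := ⟨_, rfl⟩
  obtain ⟨f, hf⟩ : ∃ f : X →* X ⧸ Cfsg.pPrimeCore 2 X, f = QuotientGroup.mk' _ := ⟨_, rfl⟩
  rw [← hf] at hg
  have hs : Function.Surjective f := hf ▸ QuotientGroup.mk'_surjective _
  obtain ⟨M, hM⟩ : ∃ M : Subgroup X, M = (A.map f).comap f := ⟨_, rfl⟩
  have hAM : A ≤ M := hM ▸ le_comap_map _ _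
  have hcardA : Nat.card (A.map f) = Nat.card A := by
    refine (Nat.card_eq_of_bijective (f.subgroupMap A) ⟨?_, f.subgroupMap_surjective A⟩).symm
    refine (injective_iff_map_eq_one _).2 fun a ha => Subtype.ext ?_
    refine mk_eq_one hT (hT.leA a.2) ?_
    rw [← hf]; exact congrArg Subtype.val ha
  have hcardM : Nat.card M = Nat.card A * Nat.card O := by
    have h1 := M.card_mul_index
    rw [hM, index_comap_of_surjective _ hs, ← hM] at h1
    have h2 := (Cfsg.pPrimeCore 2 X).card_eq_card_quotient_mul_card_subgroup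
    rw [← (A.map f).card_mul_index, hcardA] at h2
    refine Nat.eq_of_mul_eq_mul_right (Nat.pos_of_ne_zero (index_ne_zero_of_finite (H := A.map f))) ?_
    rw [h1, h2, hO]; ring
  have hidx : ¬ 2 ∣ (A.subgroupOf M).index := by
    intro h
    have h1 := (A.subgroupOf M).card_mul_index
    rw [Nat.card_congr (subgroupOfEquivOfLe hAM).toEquiv, hcardM] at h1
    rw [Nat.eq_of_mul_eq_mul_left Nat.card_pos h1, hO] at h
    exact Nat.prime_two.coprime_iff_not_dvd.1 (PBasic.pPrimeCore_coprime 2 X).symm h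
  have hAp : IsPGroup 2 (A.subgroupOf M) := (S.2.to_le hT.leA).comap_subtype
  let R : Sylow 2 M := hAp.toSylow hidx
  have hin : ∀ x ∈ A, g * x * g⁻¹ ∈ M := fun x hx => by
    rw [hM, mem_comap, map_mul, map_mul, map_inv]
    exact (mem_normalizer_iff.1 hg _).1 (mem_map_of_mem f hx)
  let R' : Subgroup M := (A.map (MulAut.conj g).toMonoidHom).subgroupOf M
  have hp : IsPGroup 2 R' := ((S.2.to_le hT.leA).map _).comap_subtype
  obtain ⟨U, hU⟩ := hp.exists_le_sylow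
  obtain ⟨m, hm⟩ := MulAction.exists_smul_eq M U R
  have hc : ∀ x ∈ A, (m : X) * (g * x * g⁻¹) * (m : X)⁻¹ ∈ A := fun x hx => by
    have hxU : (⟨g * x * g⁻¹, hin x hx⟩ : M) ∈ (U : Subgroup M) := hU ⟨x, hx, rfl⟩
    have h1 : m * ⟨g * x * g⁻¹, hin x hx⟩ * m⁻¹ ∈ (R : Subgroup M) := by
      rw [← hm]; exact ⟨_, hxU, rfl⟩
    exact h1
  obtain ⟨a, ha, e⟩ : f (m : X) ∈ A.map f := by
    have := m.2
    simp only [hM, mem_comap] at this
    exact this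
  refine ⟨a⁻¹ * m, ?_, SEBrick.mem_normalizer_of fun x hx => ?_⟩
  · rw [hf] at e
    exact (QuotientGroup.eq).1 e
  rw [show a⁻¹ * (m : X) * g * x * (a⁻¹ * (m : X) * g)⁻¹ = a⁻¹ * ((m : X) * (g * x * g⁻¹) * (m : X)⁻¹) * a by group]
  exact mul_mem (mul_mem (inv_mem ha) (hc x hx)) ha

/-- If `A` is normal modulo the odd core, the group is the core times the normaliser of `A`. -/
theorem split_of_normal (hn : (A.map (QuotientGroup.mk' (Cfsg.pPrimeCore 2 X))).Normal) (g : X) :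
    ∃ o ∈ Cfsg.pPrimeCore 2 X, o * g ∈ normalizer (A : Set X) :=
  lift_normalizer hT g (by
    haveI := hn
    rw [normalizer_eq_top]
    exact mem_top _)

/-- Both strongly closed. -/
theorem split_of_two (hg : GoldInputs.{u}) (hA : SC S A) (hB : SC S B)
    (hgen : A ⊓ B ≤ closure {x | ∃ a ∈ A, ∃ b ∈ B, x = a * b * a⁻¹ * b⁻¹}) :
    (A.map (QuotientGroup.mk' (Cfsg.pPrimeCore 2 X))).Normal := by
  haveI : Fact (Nat.Prime 2) := ⟨Nat.prime_two⟩
  have hs := QuotientGroup.mk'_surjective (Cfsg.pPrimeCore 2 X)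
  exact normal_of_two hg quot_core (hT.quot hs) (hA.map _ hs) (hB.map _ hs) (quot_gen hT hgen)

/-- Conjugates filling `A`. -/
theorem split_of_lines (hg : GoldInputs.{u}) (hA : SC S A)
    (hnc : ∃ b₁ ∈ B, ∃ b₂ ∈ B, b₁ ∉ A ∧ b₂ ∉ A ∧ b₁ * b₂ ∉ A)
    (hgen : A ⊓ B ≤ closure {x | ∃ a ∈ A, ∃ b ∈ B, x = a * b * a⁻¹ * b⁻¹})
    (hcov : ∀ a ∈ A, ∃ n ∈ normalizer (A : Set X), n * a * n⁻¹ ∈ B)
    {D : Subgroup X} (hDZ : D ≤ A ⊓ B) (hD : normalizer (A : Set X) ≤ normalizer (D : Set X))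
    {n₁ n₂ : X} (hn₁ : n₁ ∈ normalizer (A : Set X)) (hn₂ : n₂ ∈ normalizer (A : Set X))
    (h1 : ∀ a ∈ A, a ∈ B → n₁ * a * n₁⁻¹ ∈ B → a ∈ D) (h2 : ∀ a ∈ A, a ∈ B → n₂ * a * n₂⁻¹ ∈ B → a ∈ D)
    (hfill : ∀ a ∈ A, ∃ u ∈ A, ∃ v ∈ A, u * v = a ∧ n₁ * u * n₁⁻¹ ∈ B ∧ n₂ * v * n₂⁻¹ ∈ B) :
    (A.map (QuotientGroup.mk' (Cfsg.pPrimeCore 2 X))).Normal := by
  haveI : Fact (Nat.Prime 2) := ⟨Nat.prime_two⟩
  obtain ⟨f, hf⟩ : ∃ f : X →* X ⧸ Cfsg.pPrimeCore 2 X, f = QuotientGroup.mk' _ := ⟨_, rfl⟩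
  rw [← hf]
  have hs : Function.Surjective f := hf ▸ QuotientGroup.mk'_surjective _
  have hnorm : ∀ n ∈ normalizer (A : Set X), f n ∈ normalizer ((A.map f : Subgroup _) : Set _) :=
    fun n hn => le_normalizer_map f ⟨n, hn, rfl⟩
  have hinB : ∀ x ∈ A, f x ∈ B.map f → x ∈ B := fun x hx h => by
    subst hf
    exact (mk_mem_iff hT (hT.leA hx) hT.leB).1 h
  have hT' : TwoEA (S.mapSurjective hs) (A.map f) (B.map f) := by subst hf; exact hT.quot hs
  refine normal_of_lines hg (by subst hf; exact quot_core) hT' (hA.map f hs) ?_ (by subst hf; exact quot_gen hT hgen)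
    ?_ (D := D.map f) (fun x hx => ?_) ?_ (hnorm n₁ hn₁) (hnorm n₂ hn₂) ?_ ?_ ?_
  · obtain ⟨b₁, hb₁, b₂, hb₂, e1, e2, e3⟩ := hnc
    subst hf
    refine ⟨_, mem_map_of_mem _ hb₁, _, mem_map_of_mem _ hb₂,
      fun h => e1 ((mk_mem_iff hT (hT.leB hb₁) hT.leA).1 h),
      fun h => e2 ((mk_mem_iff hT (hT.leB hb₂) hT.leA).1 h), fun h => e3 ?_⟩
    rw [← map_mul] at h
    exact (mk_mem_iff hT (hT.leB (mul_mem hb₁ hb₂)) hT.leA).1 h
  · rintro _ ⟨a, ha, rfl⟩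
    obtain ⟨n, hn, hB⟩ := hcov a ha
    exact ⟨f n, hnorm n hn, by rw [← map_inv, ← map_mul, ← map_mul]; exact mem_map_of_mem f hB⟩
  · obtain ⟨d, hd, rfl⟩ := hx
    exact ⟨mem_map_of_mem f (hDZ hd).1, mem_map_of_mem f (hDZ hd).2⟩
  · intro q hq
    obtain ⟨g, rfl⟩ := hs q
    subst hf
    obtain ⟨o, ho, hog⟩ := lift_normalizer hT g hq
    have e : QuotientGroup.mk' (Cfsg.pPrimeCore 2 X) g = QuotientGroup.mk' (Cfsg.pPrimeCore 2 X) (o * g) := by
      rw [map_mul, show QuotientGroup.mk' (Cfsg.pPrimeCore 2 X) o = 1 from (QuotientGroup.eq_one_iff o).2 ho, one_mul]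
    rw [e]
    exact le_normalizer_map _ ⟨o * g, hD hog, rfl⟩
  · rintro _ ⟨a, ha, rfl⟩ hB hn
    rw [← map_inv, ← map_mul, ← map_mul] at hn
    exact mem_map_of_mem f (h1 a ha (hinB a ha hB) (hinB _ ((mem_normalizer_iff.1 hn₁ a).1 ha) hn))
  · rintro _ ⟨a, ha, rfl⟩ hB hn
    rw [← map_inv, ← map_mul, ← map_mul] at hn
    exact mem_map_of_mem f (h2 a ha (hinB a ha hB) (hinB _ ((mem_normalizer_iff.1 hn₂ a).1 ha) hn))
  · rintro _ ⟨a, ha, rfl⟩
    obtain ⟨u, hu, v, hv, rfl, e1, e2⟩ := hfill a ha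
    exact ⟨f u, mem_map_of_mem f hu, f v, mem_map_of_mem f hv, (map_mul f u v).symm,
      by rw [← map_inv, ← map_mul, ← map_mul]; exact mem_map_of_mem f e1,
      by rw [← map_inv, ← map_mul, ← map_mul]; exact mem_map_of_mem f e2⟩

end Cfsg.Agent.ABRec
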