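import Cfsg.Agent.Lib.ABRec.CentCore

/-!
Inside one group with Sylow 2-subgroup `A B`: strong closure of `A`, and odd subgroups normalised by `A` when
`A` or `B` is normal modulo the odd core.
-/

set_option autoImplicit false
set_option linter.style.haveILetI false
set_option linter.unusedSectionVars false

namespace Cfsg.Agent.ABRec

open Subgroup Cfsg.Agent.GoldStruct

universe u

variable {X : Type u} [Group X] [Finite X] {S : Sylow 2 X} {A B D : Subgroup X}

/-- An element of odd order commutes with what its square commutes with. -/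
theorem commute_of_sq {d x : X} (hd : Odd (orderOf d)) (h : Commute (d * d) x) : Commute d x := by
  obtain ⟨k, hk⟩ := hd
  have e : (d * d) ^ (k + 1) = d := by
    rw [← pow_two, ← pow_mul, show 2 * (k + 1) = orderOf d + 1 by omega, pow_succ, pow_orderOf_eq_one, one_mul]
  exact e ▸ h.pow_left _

/-- An element of odd order trivial on `Z` and on `B` modulo `Z` centralises `B`. -/
theorem commute_of_series {B Z : Subgroup X} {d : X} (hd : Odd (orderOf d)) (hZ : ∀ z ∈ Z, Commute d z)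
    (hB : ∀ x ∈ B, d * x * d⁻¹ * x⁻¹ ∈ Z) (hsq : ∀ z ∈ Z, z * z = 1) {x : X} (hx : x ∈ B) :
    Commute d x := by
  refine commute_of_sq hd ?_
  obtain ⟨y, hy⟩ : ∃ y, y = d * x * d⁻¹ * x⁻¹ := ⟨_, rfl⟩
  have hyZ : y ∈ Z := hy ▸ hB x hx
  have e1 : d * x * d⁻¹ = y * x := by rw [hy]; group
  show d * d * x = x * (d * d)
  calc d * d * x = d * (d * x * d⁻¹) * d := by group
    _ = d * y * x * d := by rw [e1]; group
    _ = y * (d * x * d⁻¹) * (d * d) := by rw [(hZ y hyZ).eq]; group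
    _ = (y * y) * x * (d * d) := by rw [e1]; group
    _ = x * (d * d) := by rw [hsq y hyZ, one_mul]

theorem odd_order_of_mem (hD : Odd (Nat.card D)) {d : X} (hd : d ∈ D) : Odd (orderOf d) :=
  hD.of_dvd_nat (Subgroup.orderOf_dvd_natCard D hd)

/-- An element of the Sylow subgroup of odd order is trivial. -/
theorem eq_one_of_odd_mem {d : X} (hd : d ∈ (S : Subgroup X)) (ho : Odd (orderOf d)) : d = 1 := by
  obtain ⟨k, hk⟩ := S.2 ⟨d, hd⟩
  have hk' : d ^ 2 ^ k = 1 := congrArg Subtype.val hk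
  obtain ⟨j, -, hj⟩ := (Nat.dvd_prime_pow Nat.prime_two).1 (orderOf_dvd_of_pow_eq_one hk')
  rcases Nat.eq_zero_or_pos j with rfl | hp
  · exact orderOf_eq_one_iff.1 (by rw [hj, pow_zero])
  · exact absurd ho (Nat.not_odd_iff_even.2 (hj ▸ (Nat.even_pow.2 ⟨even_two, hp.ne'⟩)))

/-- `A ⊓ B` is central in `S`. -/
theorem TwoEA.central_of_mem (hT : TwoEA S A B) {z : X} (hzA : z ∈ A) (hzB : z ∈ B) {s : X}
    (hs : s ∈ (S : Subgroup X)) : Commute s z := by
  obtain ⟨a, ha, b, hb, rfl⟩ := hT.prod s hs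
  exact (show Commute a z from hT.commA ha hzA).mul_left (hT.commB hb hzB)

/-- An element of `A` outside `B` has centraliser `A` in `S`. -/
theorem TwoEA.mem_of_commute (hT : TwoEA S A B) {s a : X} (hs : s ∈ (S : Subgroup X)) (ha : a ∈ A)
    (haB : a ∉ B) (hc : Commute s a) : s ∈ A := by
  obtain ⟨p, hp, q, hq, rfl⟩ := hT.prod s hs
  have hq' : Commute q a := by
    have := (Commute.inv_left (show Commute p a from hT.commA hp ha)).mul_left hc
    rwa [inv_mul_cancel_left] at this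
  exact mul_mem hp ((hT.fix a ha q hq hq'.eq.symm).resolve_left haB)

/-- An elementary subgroup of `S` lies in `A` or in `B`. -/
theorem TwoEA.elem_le (hT : TwoEA S A B) {E : Subgroup X} (hE : E ≤ (S : Subgroup X))
    (hsq : ∀ x ∈ E, x * x = 1) : E ≤ A ∨ E ≤ B := by
  by_contra h
  rw [not_or, SetLike.le_def, SetLike.le_def] at h
  push Not at h
  obtain ⟨⟨u, hu, huA⟩, v, hv, hvB⟩ := h
  have huB := (hT.invol (hE hu) (hsq u hu)).resolve_left huA
  have hvA := (hT.invol (hE hv) (hsq v hv)).resolve_right hvB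
  rcases hT.invol (hE (mul_mem hu hv)) (hsq _ (mul_mem hu hv)) with h | h
  · exact huA (by rw [show u = u * v * v⁻¹ by group]; exact mul_mem h (inv_mem hvA))
  · exact hvB (by rw [show v = u⁻¹ * (u * v) by group]; exact mul_mem (inv_mem huB) h)

/-- `A` is strongly closed when the normaliser of `B` fixes `A ⊓ B`. -/
theorem sc_of_fix (hT : TwoEA S A B) (hcard : Nat.card A = Nat.card B)
    (hnc : ∀ g : X, A.map (MulAut.conj g).toMonoidHom ≠ B)
    (hfix : ∀ k ∈ normalizer (B : Set X), ∀ x ∈ A, x ∈ B → k * x * k⁻¹ ∈ A) : SC S A := by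
  haveI : Fact (Nat.Prime 2) := ⟨Nat.prime_two⟩
  refine ⟨fun p hp q hq => hT.commA hp hq, hT.leA, fun a ha g hg => ?_⟩
  rcases hT.invol hg (by
    rw [show g * a * g⁻¹ * (g * a * g⁻¹) = g * (a * a) * g⁻¹ by group, hT.sqA a ha, mul_one, mul_inv_cancel])
    with hy | hyB
  · exact hy
  by_contra hyA
  obtain ⟨y, hy⟩ : ∃ y, y = g * a * g⁻¹ := ⟨_, rfl⟩
  rw [← hy] at hyB hyA
  -- a 2-subgroup of the centraliser of `y` containing `B` is `B`
  have hkey : ∀ R : Subgroup X, IsPGroup 2 R → B ≤ R → (∀ r ∈ R, r * y = y * r) → R ≤ B := by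
    intro R hR hBR hRy
    obtain ⟨Q, hQ⟩ := hR.exists_le_sylow
    obtain ⟨k, hk⟩ := MulAction.exists_smul_eq X Q S
    have hkS : ∀ r ∈ R, k * r * k⁻¹ ∈ (S : Subgroup X) := fun r hr => by
      rw [← hk]; exact ⟨r, hQ hr, rfl⟩
    have hBle : B.map (MulAut.conj k).toMonoidHom ≤ (S : Subgroup X) := by
      rintro _ ⟨b, hb, rfl⟩
      exact hkS b (hBR hb)
    have hBsq : ∀ x ∈ B.map (MulAut.conj k).toMonoidHom, x * x = 1 := by
      rintro _ ⟨b, hb, rfl⟩
      rw [← map_mul, hT.sqB b hb, map_one]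
    have hcB : Nat.card (B.map (MulAut.conj k).toMonoidHom) = Nat.card B :=
      card_map_of_injective (MulAut.conj k).injective
    have hkB : k ∈ normalizer (B : Set X) := by
      rcases hT.elem_le hBle hBsq with h | h
      · refine absurd ?_ (hnc k⁻¹)
        rw [← Subgroup.eq_of_le_of_card_ge h (by omega)]
        ext x
        constructor
        · rintro ⟨_, ⟨b, hb, rfl⟩, rfl⟩
          show k⁻¹ * (k * b * k⁻¹) * k⁻¹⁻¹ ∈ B
          rwa [show k⁻¹ * (k * b * k⁻¹) * k⁻¹⁻¹ = b by group]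
        · intro hx
          exact ⟨k * x * k⁻¹, ⟨x, hx, rfl⟩, show k⁻¹ * (k * x * k⁻¹) * k⁻¹⁻¹ = x by group⟩
      · exact SEBrick.mem_normalizer_of fun b hb => h ⟨b, hb, rfl⟩
    have hy'A : k * y * k⁻¹ ∉ A := fun h => hyA (by
      rw [show y = k⁻¹ * (k * y * k⁻¹) * k⁻¹⁻¹ by group]
      exact hfix k⁻¹ (inv_mem hkB) _ h ((mem_normalizer_iff.1 hkB y).1 hyB))
    intro r hr
    have h : k * r * k⁻¹ ∈ B := hT.symm.mem_of_commute (hkS r hr) ((mem_normalizer_iff.1 hkB y).1 hyB)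
      hy'A (by
        show k * r * k⁻¹ * (k * y * k⁻¹) = k * y * k⁻¹ * (k * r * k⁻¹)
        rw [show k * r * k⁻¹ * (k * y * k⁻¹) = k * (r * y) * k⁻¹ by group, hRy r hr]
        group)
    exact (mem_normalizer_iff.1 hkB r).2 h
  -- the conjugate of `A` goes into a conjugate of `B`
  obtain ⟨K, hK⟩ : ∃ K : Subgroup X, K = centralizer {y} := ⟨_, rfl⟩
  have hmemK : ∀ r, r ∈ K ↔ r * y = y * r := fun r => by rw [hK, mem_centralizer_singleton_iff]
  have hAK : A.map (MulAut.conj g).toMonoidHom ≤ K := by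
    rintro _ ⟨p, hp, rfl⟩
    rw [hmemK, hy]
    show g * p * g⁻¹ * (g * a * g⁻¹) = g * a * g⁻¹ * (g * p * g⁻¹)
    rw [show g * p * g⁻¹ * (g * a * g⁻¹) = g * (p * a) * g⁻¹ by group, hT.commA hp ha]
    group
  have hBK : B ≤ K := fun b hb => (hmemK b).2 (hT.commB hb hyB)
  have hAp : IsPGroup 2 ((A.map (MulAut.conj g).toMonoidHom).subgroupOf K) :=
    ((S.2.to_le hT.leA).map _).comap_subtype
  have hBp : IsPGroup 2 (B.subgroupOf K) := (S.2.to_le hT.leB).comap_subtype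
  obtain ⟨R₁, hR₁⟩ := hBp.exists_le_sylow
  obtain ⟨R₀, hR₀⟩ := hAp.exists_le_sylow
  obtain ⟨c, hc⟩ := MulAction.exists_smul_eq K R₀ R₁
  have hle : (R₁ : Subgroup K).map K.subtype ≤ B := by
    refine hkey _ (R₁.2.map _) (fun b hb => ⟨⟨b, hBK hb⟩, hR₁ hb, rfl⟩) ?_
    rintro _ ⟨r, -, rfl⟩
    exact (hmemK _).1 r.2
  have hgc : A.map (MulAut.conj ((c : X) * g)).toMonoidHom ≤ B := by
    rintro _ ⟨p, hp, rfl⟩
    have hpK : g * p * g⁻¹ ∈ K := hAK ⟨p, hp, rfl⟩
    refine hle ⟨c * ⟨g * p * g⁻¹, hpK⟩ * c⁻¹, ?_, ?_⟩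
    · rw [← hc]; exact ⟨_, hR₀ ⟨p, hp, rfl⟩, rfl⟩
    · show (c : X) * (g * p * g⁻¹) * (c : X)⁻¹ = (c : X) * g * p * ((c : X) * g)⁻¹
      group
  exact hnc _ (Subgroup.eq_of_le_of_card_ge hgc
    (by rw [card_map_of_injective (MulAut.conj ((c : X) * g)).injective]; omega))

/-! ### Odd subgroups normalised by `A` -/

variable (hT : TwoEA S A B) (hD : Odd (Nat.card D)) (hn : A ≤ normalizer (D : Set X))
include hT hD hn

section Trivial

variable (hO : ∀ N : Subgroup X, N.Normal → Odd (Nat.card N) → N = ⊥)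
include hO

theorem cent_le_sylow (hA : A.Normal) : centralizer (A : Set X) ≤ (S : Subgroup X) := by
  refine le_sylow_of_central hO S inferInstance fun x hx hxS y hy => ?_
  obtain ⟨a, ha, haB⟩ := hT.exA
  exact mem_centralizer_iff.1 hy x (hT.mem_of_commute hxS ha haB (mem_centralizer_iff.1 hx a ha).symm)

/-- If `A` is normal, `D` is trivial. -/
theorem odd_bot_of_normal (hA : A.Normal) : D = ⊥ := by
  rw [eq_bot_iff]
  intro d hd
  have hc : d ∈ centralizer (A : Set X) := mem_centralizer_iff.2 fun a ha => by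
    have h1 : a * d * a⁻¹ * d⁻¹ ∈ D := mul_mem ((mem_normalizer_iff.1 (hn ha) d).1 hd) (inv_mem hd)
    have h2 : a * d * a⁻¹ * d⁻¹ ∈ A := by
      rw [show a * d * a⁻¹ * d⁻¹ = a * (d * a⁻¹ * d⁻¹) by group]
      exact mul_mem ha (hA.conj_mem _ (inv_mem ha) d)
    have e := eq_one_of_odd_mem (S := S) (hT.leA h2) (odd_order_of_mem hD h1)
    rwa [mul_inv_eq_one, mul_inv_eq_iff_eq_mul] at e
  exact mem_bot.2 (eq_one_of_odd_mem (cent_le_sylow hT hD hn hO hA hc) (odd_order_of_mem hD hd))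

/-- If `B` is normal and `D` centralises an element of `A` outside `B`, it is trivial. -/
theorem odd_bot_of_fix (hB : B.Normal) {a : X} (ha : a ∈ A) (haB : a ∉ B)
    (hfix : ∀ d ∈ D, Commute d a) : D = ⊥ := by
  have hcB : centralizer (B : Set X) ≤ (S : Subgroup X) := by
    refine le_sylow_of_central hO S inferInstance fun x hx hxS y hy => ?_
    obtain ⟨b, hb, hbA⟩ := hT.exB
    exact mem_centralizer_iff.1 hy x (hT.symm.mem_of_commute hxS hb hbA (mem_centralizer_iff.1 hx b hb).symm)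
  have hZ : ∀ d ∈ D, ∀ z ∈ A, z ∈ B → d * z * d⁻¹ ∈ A ∧ d * z * d⁻¹ ∈ B := by
    intro d hd z hzA hzB
    have h1 := hB.conj_mem z hzB d
    refine ⟨(hT.fix a ha _ h1 ?_).resolve_left haB, h1⟩
    have e : Commute a (d * z * d⁻¹) :=
      (((hfix d hd).symm).mul_right (hT.commA ha hzA)).mul_right (hfix d hd).inv_left.symm
    exact e.eq
  have hmove : ∀ {a' x : X}, a' ∈ A → x ∈ B → a' * x * a'⁻¹ * x⁻¹ ∈ A ⊓ B := fun {a' x} ha' hx => by
    refine mem_inf.2 ⟨?_, mul_mem (hB.conj_mem x hx a') (inv_mem hx)⟩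
    rw [show a' * x * a'⁻¹ * x⁻¹ = a' * (x * a'⁻¹ * x⁻¹) by group]
    exact mul_mem ha' (hT.conjA (inv_mem ha') hx)
  have hcomm : ∀ d ∈ D, ∀ a' ∈ A, Commute d a' := by
    intro d hd a' ha'
    obtain ⟨e, he⟩ : ∃ e, e = d * a' * d⁻¹ * a'⁻¹ := ⟨_, rfl⟩
    have heD : e ∈ D := by
      rw [he, show d * a' * d⁻¹ * a'⁻¹ = d * (a' * d⁻¹ * a'⁻¹) by group]
      exact mul_mem hd ((mem_normalizer_iff.1 (hn ha') _).1 (inv_mem hd))
    have he0 : e ∈ centralizer (B : Set X) := mem_centralizer_iff.2 fun x hx => by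
      refine (commute_of_series (Z := A ⊓ B) (B := B) (odd_order_of_mem hD heD) (fun z hz => ?_)
        (fun x hx => ?_) (fun z hz => hT.sqA z hz.1) hx).eq.symm
      · obtain ⟨w, hw⟩ : ∃ w, w = d⁻¹ * z * d := ⟨_, rfl⟩
        have hwA : w ∈ A := by
          have := (hZ d⁻¹ (inv_mem hd) z hz.1 hz.2).1
          rwa [inv_inv, ← hw] at this
        have c1 : Commute (d * a' * d⁻¹) z := by
          show d * a' * d⁻¹ * z = z * (d * a' * d⁻¹)
          rw [show d * a' * d⁻¹ * z = d * (a' * (d⁻¹ * z * d)) * d⁻¹ by group, ← hw, hT.commA ha' hwA, hw]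
          group
        exact he ▸ c1.mul_left (show Commute a'⁻¹ z from (show Commute a' z from hT.commA ha' hz.1).inv_left)
      · obtain ⟨u, hu⟩ : ∃ u, u = a'⁻¹ * x * a' * x⁻¹ := ⟨_, rfl⟩
        have huZ : u ∈ A ⊓ B := by
          have := hmove (inv_mem ha') hx
          rwa [inv_inv, ← hu] at this
        obtain ⟨x', hx'⟩ : ∃ x', x' = d⁻¹ * x * d := ⟨_, rfl⟩
        have hx'B : x' ∈ B := by
          rw [hx', show d⁻¹ * x * d = d⁻¹ * x * d⁻¹⁻¹ by group]
          exact hB.conj_mem x hx _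
        obtain ⟨v, hv⟩ : ∃ v, v = a' * x' * a'⁻¹ * x'⁻¹ := ⟨_, rfl⟩
        have hvZ : v ∈ A ⊓ B := hv ▸ hmove ha' hx'B
        have hw := hZ d hd v hvZ.1 hvZ.2
        have c1 : Commute (d * a' * d⁻¹) u := by
          obtain ⟨w, hw'⟩ : ∃ w, w = d⁻¹ * u * d := ⟨_, rfl⟩
          have hwA : w ∈ A := by
            have := (hZ d⁻¹ (inv_mem hd) u huZ.1 huZ.2).1
            rwa [inv_inv, ← hw'] at this
          show d * a' * d⁻¹ * u = u * (d * a' * d⁻¹)
          rw [show d * a' * d⁻¹ * u = d * (a' * (d⁻¹ * u * d)) * d⁻¹ by group, ← hw', hT.commA ha' hwA, hw']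
          group
        have e1 : e * x * e⁻¹ * x⁻¹ = u * (d * v * d⁻¹) := by
          calc e * x * e⁻¹ * x⁻¹ = d * a' * d⁻¹ * u * (x * (d * a'⁻¹ * d⁻¹) * x⁻¹) := by rw [he, hu]; group
            _ = u * (d * v * d⁻¹) := by rw [c1.eq, hv, hx']; group
        rw [e1]
        exact mul_mem huZ ⟨hw.1, hw.2⟩
    have e1 := eq_one_of_odd_mem (hcB he0) (odd_order_of_mem hD heD)
    rw [he, mul_inv_eq_one, mul_inv_eq_iff_eq_mul] at e1
    exact e1
  rw [eq_bot_iff]
  intro d hd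
  refine mem_bot.2 (eq_one_of_odd_mem (hcB (mem_centralizer_iff.2 fun x hx => ?_)) (odd_order_of_mem hD hd))
  refine (commute_of_series (Z := A ⊓ B) (B := B) (odd_order_of_mem hD hd) (fun z hz => hcomm d hd z hz.1)
    (fun x hx => ?_) (fun z hz => hT.sqA z hz.1) hx).eq.symm
  obtain ⟨y, hy⟩ : ∃ y, y = d * x * d⁻¹ * x⁻¹ := ⟨_, rfl⟩
  have hyB : y ∈ B := hy ▸ mul_mem (hB.conj_mem x hx d) (inv_mem hx)
  obtain ⟨u, hu⟩ : ∃ u, u = a * x * a⁻¹ * x⁻¹ := ⟨_, rfl⟩
  have huZ : u ∈ A ⊓ B := hu ▸ hmove ha hx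
  have c1 := hcomm d hd a ha
  have c2 := hcomm d hd u huZ.1
  have c3 : Commute u y := hT.commB huZ.2 hyB
  have hay : Commute a y := by
    rw [Commute, SemiconjBy, ← mul_inv_eq_iff_eq_mul]
    calc a * y * a⁻¹ = (a * d) * x * (a * d)⁻¹ * (a * x⁻¹ * a⁻¹) := by rw [hy]; group
      _ = d * u * (x * d⁻¹ * x⁻¹) * u⁻¹ := by rw [← c1.eq, hu]; group
      _ = u * y * u⁻¹ := by rw [c2.eq, hy]; group
      _ = y := by rw [c3.eq, mul_inv_cancel_right]
  rw [← hy]
  exact ⟨(hT.fix a ha y hyB hay.eq).resolve_left haB, hyB⟩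

end Trivial

/-! ### Modulo the odd core -/

theorem odd_map_core : Odd (Nat.card (D.map (QuotientGroup.mk' (Cfsg.pPrimeCore 2 X)))) :=
  hD.of_dvd_nat (Subgroup.card_map_dvd (H := D) _)

theorem le_normalizer_core : A.map (QuotientGroup.mk' (Cfsg.pPrimeCore 2 X)) ≤
    normalizer ((D.map (QuotientGroup.mk' (Cfsg.pPrimeCore 2 X)) : Subgroup _) : Set _) :=
  le_trans (map_mono hn) (le_normalizer_map _)

theorem le_core_of_normal (hA : (A.map (QuotientGroup.mk' (Cfsg.pPrimeCore 2 X))).Normal) :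
    D ≤ Cfsg.pPrimeCore 2 X := by
  haveI : Fact (Nat.Prime 2) := ⟨Nat.prime_two⟩
  have h := odd_bot_of_normal (hT.quot (QuotientGroup.mk'_surjective _)) (odd_map_core hT hD hn)
    (le_normalizer_core hT hD hn) quot_core hA
  rwa [Subgroup.map_eq_bot_iff, QuotientGroup.ker_mk'] at h

theorem le_core_of_fix (hB : (B.map (QuotientGroup.mk' (Cfsg.pPrimeCore 2 X))).Normal) {a : X} (ha : a ∈ A)
    (haB : a ∉ B) (hfix : ∀ d ∈ D, Commute d a) : D ≤ Cfsg.pPrimeCore 2 X := by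
  haveI : Fact (Nat.Prime 2) := ⟨Nat.prime_two⟩
  have h := odd_bot_of_fix (hT.quot (QuotientGroup.mk'_surjective _)) (odd_map_core hT hD hn)
    (le_normalizer_core hT hD hn) quot_core hB (mem_map_of_mem _ ha)
    (fun h => haB ((mk_mem_iff hT (hT.leA ha) hT.leB).1 h))
    (by rintro _ ⟨d, hd, rfl⟩; exact (hfix d hd).map _)
  rwa [Subgroup.map_eq_bot_iff, QuotientGroup.ker_mk'] at h

end Cfsg.Agent.ABRec
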