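import Cfsg.Agent.Lib.ABRec.Local

/-!
The incidence geometry of the configuration: the points are the conjugates of `A` (cosets of its normaliser), the
lines those of `B`; a point and a line are incident when a coset of `N(S)` lies in both. The lines through a point,
the fixed points of a mixed element of `A ⊓ B`, and the conjugation facts behind them, for both types.
-/

set_option autoImplicit false
set_option linter.style.haveILetI false
set_option linter.unusedSectionVars false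

namespace Cfsg.Agent.ABRec

open Subgroup

universe u

variable {G : Type u} [Group G] [Finite G] {S : Sylow 2 G} {A B : Subgroup G} {q : ℕ}

/-- An element normalising `S` of 2-power order lies in `S`. -/
theorem mem_sylow_of_normalizer {P : Subgroup G} (hP : IsPGroup 2 P)
    (hle : P ≤ normalizer ((S : Subgroup G) : Set G)) : P ≤ (S : Subgroup G) := by
  intro x hx
  have h : x ∈ P ⊓ (S : Subgroup G) := hP.inf_normalizer_sylow S ▸ (mem_inf.2 ⟨hx, hle hx⟩ :)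
  exact h.2

theorem mem_normalizer_iff' {H : Subgroup G} {g : G} :
    g ∈ normalizer (H : Set G) ↔ ∀ h ∈ H, g * h * g⁻¹ ∈ H :=
  ⟨fun hg h hh => (mem_normalizer_iff.1 hg h).1 hh, fun hg => mem_normalizer_fintype hg⟩

namespace Two

variable (h2 : Two S A B q)
include h2

theorem symm : Two S B A q := by
  have hi : B ⊓ A = A ⊓ B := inf_comm _ _
  refine ⟨h2.cfg.symm, h2.openB, h2.openA, h2.four_le, by rw [h2.card_B]; exact h2.card_S,
    by rw [hi, h2.card_B]; exact h2.card_A, h2.card_B.symm, ?_⟩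
  rw [hi]
  rcases h2.type with ⟨h, h', e⟩ | ⟨h, h', e1, e3, e4⟩
  · exact Or.inl ⟨h', h, e⟩
  · exact Or.inr ⟨h', h, (inf_comm _ _).trans e1, (sup_comm _ _).trans e3, e4⟩

theorem relA : A.relIndex (S : Subgroup G) = q := by
  have e := (A.subgroupOf (S : Subgroup G)).card_mul_index
  rw [Nat.card_congr (subgroupOfEquivOfLe h2.cfg.A_le).toEquiv, h2.card_S] at e
  exact Nat.eq_of_mul_eq_mul_left Nat.card_pos e

theorem relZ : (A ⊓ B).relIndex A = q := by
  have e := ((A ⊓ B).subgroupOf A).card_mul_index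
  rw [Nat.card_congr (subgroupOfEquivOfLe (inf_le_left : A ⊓ B ≤ A)).toEquiv] at e
  conv_rhs at e => rw [h2.card_A]
  exact Nat.eq_of_mul_eq_mul_left Nat.card_pos e

theorem side : SideHyp (S : Subgroup G) A (A ⊓ B) :=
  h2.cfg.twoEA.sideHyp (h2.relA.symm ▸ h2.four_le) <| by
    obtain ⟨n, hn, z, hz, hnz⟩ := h2.openA
    exact ⟨n, hn, z, hz, fun h => hnz h.2⟩

theorem natural :
    ∃ (F : Type) (_ : Field F) (_ : Fintype F) (_ : CharP F 2) (ι : A → F × F) (r : F → G) (w : G) (τ : Fˣ → G),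
      Fintype.card F = q ∧ Function.Surjective ι ∧ (∀ a b, ι (a * b) = ι a + ι b) ∧
      (∀ a : A, ι a = 0 ↔ (a : G) ∈ sideC (S : Subgroup G) A) ∧ (∀ a : A, (a : G) ∈ A ⊓ B ↔ (ι a).2 = 0) ∧
      (∀ x, r x ∈ (S : Subgroup G)) ∧ (∀ s ∈ (S : Subgroup G), ∃ x, (r x)⁻¹ * s ∈ A) ∧
      w ∈ normalizer (A : Set G) ∧
      (∀ t, τ t ∈ normalizer (A : Set G) ∧ ∃ k, Odd k ∧ τ t ^ k = 1) ∧
      (∀ x (a b : A), (b : G) = r x * a * (r x)⁻¹ → ι b = ((ι a).1 + x * (ι a).2, (ι a).2)) ∧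
      (∀ a b : A, (b : G) = w * a * w⁻¹ → ι b = ((ι a).2, (ι a).1)) ∧
      (∀ t (a b : A), (b : G) = τ t * a * (τ t)⁻¹ → ι b = ((t : F) * (ι a).1, (t : F)⁻¹ * (ι a).2)) ∧
      (∀ c ∈ sideC (S : Subgroup G) A, Commute w c ∧ ∀ t, Commute (τ t) c) := by
  have h := h2.side.natural (h2.relA.symm ▸ h2.relZ.le)
  rw [h2.relA] at h
  exact h

theorem sideC_inf : sideC (S : Subgroup G) A ⊓ sideC (S : Subgroup G) B = ⊥ := by
  rcases h2.type with ⟨h, -, -⟩ | ⟨-, -, h, -⟩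
  · rw [h, bot_inf_eq]
  · exact h

theorem sideC_le : sideC (S : Subgroup G) A ≤ A ⊓ B := fun c hc => by
  obtain ⟨F, i1, i2, i3, ι, r, w, τ, -, -, -, hk, hZ, -⟩ := h2.natural
  exact (hZ ⟨c, (mem_sideC.1 hc).1⟩).2 (by rw [(hk ⟨c, (mem_sideC.1 hc).1⟩).2 hc]; rfl)

theorem sideC_conj {c n : G} (hc : c ∈ sideC (S : Subgroup G) A) (hn : n ∈ normalizer (A : Set G)) :
    n * c * n⁻¹ ∈ sideC (S : Subgroup G) A := by
  rw [mem_sideC] at hc ⊢
  refine ⟨(mem_normalizer_iff.1 hn c).1 hc.1, fun x hx s hs => ?_⟩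
  have h := (hc.2 (n⁻¹ * x) (mul_mem (inv_mem hn) hx) s hs).map (MulAut.conj n).toMonoidHom
  have e1 : n * (n⁻¹ * x * s * (n⁻¹ * x)⁻¹) * n⁻¹ = x * s * x⁻¹ := by group
  show Commute (x * s * x⁻¹) (n * c * n⁻¹)
  rw [← e1]
  exact h

theorem normS_le : normalizer ((S : Subgroup G) : Set G) ≤ normalizer (A : Set G) := fun g hg =>
  h2.cfg.twoEA.mem_normalizer_of_map (h2.cfg.twoEA.conj_eq (by
    rintro _ ⟨a, ha, rfl⟩
    exact (mem_normalizer_iff.1 hg a).1 (h2.cfg.A_le ha)))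

theorem mem_normS {g : G} (hA : g ∈ normalizer (A : Set G)) (hB : g ∈ normalizer (B : Set G)) :
    g ∈ normalizer ((S : Subgroup G) : Set G) := mem_normalizer_iff'.2 fun s hs => by
  obtain ⟨a, ha, b, hb, rfl⟩ := h2.cfg.prod s hs
  rw [show g * (a * b) * g⁻¹ = (g * a * g⁻¹) * (g * b * g⁻¹) by group]
  exact mul_mem (h2.cfg.A_le ((mem_normalizer_iff.1 hA a).1 ha))
    (h2.cfg.B_le ((mem_normalizer_iff.1 hB b).1 hb))

/-- A conjugate of `A` inside `N(S)` is `A`. -/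
theorem conjA_mem {g : G} (h : ∀ a ∈ A, g * a * g⁻¹ ∈ normalizer ((S : Subgroup G) : Set G)) :
    g ∈ normalizer (A : Set G) := by
  refine h2.cfg.twoEA.mem_normalizer_of_map (h2.cfg.twoEA.conj_eq ?_)
  refine mem_sylow_of_normalizer ((S.isPGroup'.to_le h2.cfg.A_le).map _) ?_
  rintro _ ⟨a, ha, rfl⟩
  exact h a ha

/-- An involution normalising `A` is conjugate in `N(A)` into `A` or into `B`. -/
theorem inv_or {u : G} (hu : u ∈ normalizer (A : Set G)) (huu : u * u = 1) :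
    ∃ n ∈ normalizer (A : Set G), n * u * n⁻¹ ∈ A ∨ n * u * n⁻¹ ∈ B := by
  haveI : Fact (Nat.Prime 2) := ⟨Nat.prime_two⟩
  have hp : IsPGroup 2 (zpowers u) := IsPGroup.of_card_dvd_pow (n := 1) <| by
    rw [Nat.card_zpowers, pow_one]
    exact orderOf_dvd_of_pow_eq_one (by rw [pow_two, huu])
  obtain ⟨n, hn, hle⟩ := LESylow.exists_conj_le_of_le (zpowers_le.2 hu) hp (S.subtype h2.cfg.twoEA.normA)
  have h' := hle ⟨u, mem_zpowers u, rfl⟩
  rw [Sylow.coe_subtype, subgroupOf_map_subtype] at h'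
  refine ⟨n, hn, h2.cfg.twoEA.mem_or h'.1 ?_⟩
  show n * u * n⁻¹ * (n * u * n⁻¹) = 1
  rw [show n * u * n⁻¹ * (n * u * n⁻¹) = n * (u * u) * n⁻¹ by group, huu, mul_one, mul_inv_cancel]

/-- Elements of `A` outside `sideC` fuse into `A ⊓ B` in the normaliser of `A`. -/
theorem fuse {a : G} (ha : a ∈ A) (hc : a ∉ sideC (S : Subgroup G) A) :
    ∃ n ∈ normalizer (A : Set G), n * a * n⁻¹ ∈ A ⊓ B ∧ n * a * n⁻¹ ∉ sideC (S : Subgroup G) A := by
  obtain ⟨F, i1, i2, i3, ι, r, w, τ, -, -, -, -, hZ, hrS, -, hw, -, hr, hwι, -⟩ := h2.natural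
  have hout : ∀ n ∈ normalizer (A : Set G), n * a * n⁻¹ ∉ sideC (S : Subgroup G) A := fun n hn h => hc (by
    simpa [mul_assoc] using h2.sideC_conj h (inv_mem hn))
  rcases eq_or_ne (ι ⟨a, ha⟩).2 0 with h0 | h0
  · exact ⟨1, one_mem _, by simpa using (hZ ⟨a, ha⟩).2 h0, hout 1 (one_mem _)⟩
  set x := (ι ⟨a, ha⟩).1 / (ι ⟨a, ha⟩).2
  have hrN : r x ∈ normalizer (A : Set G) := h2.cfg.twoEA.normA (hrS x)
  have h1 : r x * a * (r x)⁻¹ ∈ A := (mem_normalizer_iff.1 hrN a).1 ha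
  have h3 : w * (r x * a * (r x)⁻¹) * w⁻¹ ∈ A := (mem_normalizer_iff.1 hw _).1 h1
  refine ⟨w * r x, mul_mem hw hrN, ?_, hout _ (mul_mem hw hrN)⟩
  rw [show w * r x * a * (w * r x)⁻¹ = w * (r x * a * (r x)⁻¹) * w⁻¹ by group]
  refine (hZ ⟨_, h3⟩).2 ?_
  rw [hwι ⟨_, h1⟩ ⟨_, h3⟩ rfl, hr x ⟨a, ha⟩ ⟨_, h1⟩ rfl]
  show (ι ⟨a, ha⟩).1 + x * (ι ⟨a, ha⟩).2 = 0
  rw [div_mul_cancel₀ _ h0]
  exact CharTwo.add_self_eq_zero _

end Two

/-- Mixed elements of `A ⊓ B`. -/
def Mixed (S : Sylow 2 G) (A B : Subgroup G) (z : G) : Prop :=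
  z ∈ A ⊓ B ∧ z ∉ sideC (S : Subgroup G) A ∧ z ∉ sideC (S : Subgroup G) B

theorem Mixed.symm {z : G} (hz : Mixed S A B z) : Mixed S B A z :=
  ⟨⟨hz.1.2, hz.1.1⟩, hz.2.2, hz.2.1⟩

namespace Cent

variable (hC : Cent S A B) (h2 : Two S A B q)
include hC

theorem symm : Cent S B A where
  mixed z hz h1 h2 := hC.mixed z ⟨hz.2, hz.1⟩ h2 h1
  rootA := hC.rootB
  rootB := hC.rootA
  selfA := hC.selfB
  selfB := hC.selfA

include h2

theorem normA_of_mixed {z g : G} (hz : Mixed S A B z) (hg : g⁻¹ * z * g ∈ A) :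
    g ∈ normalizer (A : Set G) := by
  refine h2.conjA_mem fun a ha => hC.mixed z hz.1 hz.2.1 hz.2.2 (mem_centralizer_singleton_iff.2 ?_)
  have e : Commute a (g⁻¹ * z * g) := h2.cfg.twoEA.comm_left ha hg
  have := e.map (MulAut.conj g).toMonoidHom
  simp only [MulEquiv.toMonoidHom_eq_coe, MonoidHom.coe_coe, MulAut.conj_apply] at this
  rw [show g * (g⁻¹ * z * g) * g⁻¹ = z by group] at this
  exact this.eq

theorem normB_of_mixed {z g : G} (hz : Mixed S A B z) (hg : g⁻¹ * z * g ∈ B) :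
    g ∈ normalizer (B : Set G) := hC.symm.normA_of_mixed h2.symm hz.symm hg

/-- The fixed points of a mixed element lie on its line. -/
theorem fixed_mixed {z g : G} (hz : Mixed S A B z) (hg : g⁻¹ * z * g ∈ normalizer (A : Set G)) :
    ∃ m ∈ normalizer (B : Set G), m⁻¹ * g ∈ normalizer (A : Set G) := by
  have hzz : z * z = 1 := h2.cfg.sqA hz.1.1
  obtain ⟨n, hn, h⟩ := h2.inv_or hg (by
    rw [show g⁻¹ * z * g * (g⁻¹ * z * g) = g⁻¹ * (z * z) * g by group, hzz]; group)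
  rw [show n * (g⁻¹ * z * g) * n⁻¹ = (g * n⁻¹)⁻¹ * z * (g * n⁻¹) by group] at h
  rcases h with h | h
  · refine ⟨1, one_mem _, ?_⟩
    rw [inv_one, one_mul]
    simpa using mul_mem (hC.normA_of_mixed h2 hz h) hn
  · exact ⟨g * n⁻¹, hC.normB_of_mixed h2 hz h, by simpa using hn⟩

/-- The lines of two elements of `N(A)` agree when their sections meet outside `sideC`. -/
theorem normB_of_meet {n v : G} (hn : n ∈ normalizer (A : Set G)) (hv : v ∈ A ⊓ B)
    (hv1 : v ∉ sideC (S : Subgroup G) A) (hnv : n⁻¹ * v * n ∈ A ⊓ B) : n ∈ normalizer (B : Set G) := by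
  classical
  set C1 := sideC (S : Subgroup G) A
  set C2 := sideC (S : Subgroup G) B
  -- adjust by an element of `C1` to avoid `C2` and its conjugate
  obtain ⟨c, hc, hc2, hc3⟩ : ∃ c ∈ C1, v * c ∉ C2 ∧ n⁻¹ * (v * c) * n ∉ C2 := by
    by_contra hno
    push Not at hno
    rcases h2.type with ⟨hb1, hb2, -⟩ | ⟨hq, -, hint, -⟩
    · have h := hno 1 (one_mem _) (by
        rw [mul_one, show C2 = ⊥ from hb2, mem_bot]
        rintro rfl
        exact hv1 (one_mem _))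
      rw [show C2 = ⊥ from hb2, mem_bot, mul_one] at h
      have : v = 1 := by
        have := congrArg (fun y => n * y * n⁻¹) h
        simpa [mul_assoc] using this
      exact hv1 (this ▸ one_mem _)
    · have key : ∀ c c' : C1, (v * (c : G) ∈ C2 ↔ v * (c' : G) ∈ C2) →
          (¬ v * (c : G) ∈ C2 → n⁻¹ * (v * c) * n ∈ C2 ∧ n⁻¹ * (v * c') * n ∈ C2) →
          (v * (c : G) ∈ C2 ∨ n⁻¹ * (v * c) * n ∈ C2) → c = c' := by
        intro c c' hiff h3 h4
        have hdiff : (c : G)⁻¹ * c' ∈ C2 := by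
          by_cases h5 : v * (c : G) ∈ C2
          · simpa [mul_assoc] using mul_mem (inv_mem h5) (hiff.1 h5)
          · have hh := h3 h5
            have h6 : n⁻¹ * ((c : G)⁻¹ * c') * n ∈ C2 := by
              have := mul_mem (inv_mem hh.1) hh.2
              rw [show (n⁻¹ * (v * c) * n)⁻¹ * (n⁻¹ * (v * c') * n) = n⁻¹ * ((c : G)⁻¹ * c') * n by group] at this
              exact this
            have h7 : n⁻¹ * ((c : G)⁻¹ * c') * n ∈ C1 := by
              simpa using h2.sideC_conj (mul_mem (inv_mem c.2) c'.2) (inv_mem hn)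
            have h8 : n⁻¹ * ((c : G)⁻¹ * c') * n ∈ C1 ⊓ C2 := ⟨h7, h6⟩
            rw [hint, mem_bot] at h8
            have : (c : G)⁻¹ * c' = 1 := by
              have := congrArg (fun y => n * y * n⁻¹) h8
              simpa [mul_assoc] using this
            rw [this]; exact one_mem _
        have h9 : (c : G)⁻¹ * c' ∈ C1 ⊓ C2 := mem_inf.2 ⟨mul_mem (inv_mem c.2) c'.2, hdiff⟩
        rw [hint, mem_bot, inv_mul_eq_one] at h9
        exact Subtype.ext h9
      have hinj : Function.Injective fun c : C1 => decide (v * (c : G) ∈ C2) := by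
        intro c c' e
        have hiff : v * (c : G) ∈ C2 ↔ v * (c' : G) ∈ C2 := decide_eq_decide.1 e
        exact key c c' hiff (fun h => ⟨hno c c.2 h, hno c' c'.2 fun h' => h (hiff.2 h')⟩)
          (or_iff_not_imp_left.2 (hno c c.2))
      have h := Nat.card_le_card_of_injective _ hinj
      rw [show Nat.card C1 = q from hq, Nat.card_eq_fintype_card, Fintype.card_bool] at h
      have := h2.four_le
      omega
  have hcA := h2.sideC_le hc
  have hc' : n⁻¹ * c * n ∈ C1 := by simpa using h2.sideC_conj hc (inv_mem hn)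
  have hm : Mixed S A B (v * c) :=
    ⟨mul_mem hv hcA, fun h => hv1 (by simpa using mul_mem h (inv_mem hc)), hc2⟩
  refine hC.normB_of_mixed h2 hm ?_
  rw [show n⁻¹ * (v * c) * n = (n⁻¹ * v * n) * (n⁻¹ * c * n) by group]
  exact (mul_mem hnv (h2.sideC_le hc')).2

/-- The lines through a point: `B`, and `s w B` for one `s` in each coset of `A` in `S`. -/
theorem lines : ∃ w ∈ normalizer (A : Set G), w ∉ normalizer (B : Set G) ∧
    (∀ n ∈ normalizer (A : Set G), n ∈ normalizer (B : Set G) ∨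
      ∃ s ∈ (S : Subgroup G), (s * w)⁻¹ * n ∈ normalizer (B : Set G)) ∧
    ∀ s ∈ (S : Subgroup G), ∀ s' ∈ (S : Subgroup G),
      (s * w)⁻¹ * (s' * w) ∈ normalizer (B : Set G) → s⁻¹ * s' ∈ A := by
  obtain ⟨F, i1, i2, i3, ι, r, w, τ, -, hs, -, hk, hZ, hrS, hsr, hw, -, hr, hwι, -⟩ := h2.natural
  obtain ⟨e₁, he₁⟩ := hs ((1 : F), (0 : F))
  have he₁Z : (e₁ : G) ∈ A ⊓ B := (hZ e₁).2 (by rw [he₁])
  have he₁C : (e₁ : G) ∉ sideC (S : Subgroup G) A := fun h => by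
    have := (hk e₁).2 h
    rw [he₁] at this
    exact one_ne_zero (congrArg Prod.fst this)
  have hwe : w * (e₁ : G) * w⁻¹ ∈ A := (mem_normalizer_iff.1 hw _).1 he₁Z.1
  have hιwe : ι ⟨_, hwe⟩ = ((0 : F), (1 : F)) := by rw [hwι e₁ ⟨_, hwe⟩ rfl, he₁]
  -- a root element with trivial parameter lies in `A`
  have hr0 : ∀ x, ∀ s ∈ (S : Subgroup G), (r x)⁻¹ * s ∈ A → x = 0 → s ∈ A := by
    intro x s hsS hx hx0
    subst hx0
    obtain ⟨y, hy⟩ := hsr 1 (one_mem _)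
    have hyA : r y ∈ A := by simpa using inv_mem hy
    have hy0 : y = 0 := by
      have h1 : r y * (w * e₁ * w⁻¹) * (r y)⁻¹ = w * e₁ * w⁻¹ := by
        rw [h2.cfg.twoEA.comm_left hyA hwe, mul_inv_cancel_right]
      have := hr y ⟨_, hwe⟩ ⟨_, hwe⟩ h1.symm
      rw [hιwe] at this
      simpa using (congrArg Prod.fst this).symm
    subst hy0
    simpa using mul_mem hyA hx
  refine ⟨w, hw, fun h => ?_, fun n hn => ?_, fun s hsS s' hs'S h => ?_⟩
  · have := (hZ ⟨_, hwe⟩).1 ⟨hwe, (mem_normalizer_iff.1 h _).1 he₁Z.2⟩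
    rw [hιwe] at this
    exact one_ne_zero this
  · have hu : n * (e₁ : G) * n⁻¹ ∈ A := (mem_normalizer_iff.1 hn _).1 he₁Z.1
    have huC : n * (e₁ : G) * n⁻¹ ∉ sideC (S : Subgroup G) A := fun h => he₁C (by
      simpa [mul_assoc] using h2.sideC_conj h (inv_mem hn))
    by_cases hb : (ι ⟨_, hu⟩).2 = 0
    · left
      exact hC.normB_of_meet h2 hn ((hZ ⟨_, hu⟩).2 hb) huC (by simpa [mul_assoc] using he₁Z)
    right
    set x := (ι ⟨_, hu⟩).1 / (ι ⟨_, hu⟩).2
    have hrN : r x ∈ normalizer (A : Set G) := h2.cfg.twoEA.normA (hrS x)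
    have hm : (r x * w)⁻¹ * n ∈ normalizer (A : Set G) := mul_mem (inv_mem (mul_mem hrN hw)) hn
    have h1 : (r x)⁻¹ * (n * e₁ * n⁻¹) * r x ∈ A := by
      simpa using (mem_normalizer_iff.1 (inv_mem hrN) _).1 hu
    have h3 : w⁻¹ * ((r x)⁻¹ * (n * e₁ * n⁻¹) * r x) * w ∈ A := by
      simpa using (mem_normalizer_iff.1 (inv_mem hw) _).1 h1
    have e1 := hr x ⟨_, h1⟩ ⟨_, hu⟩
      (show n * (e₁ : G) * n⁻¹ = r x * ((r x)⁻¹ * (n * e₁ * n⁻¹) * r x) * (r x)⁻¹ by group)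
    have e2 := hwι ⟨_, h3⟩ ⟨_, h1⟩
      (show (r x)⁻¹ * (n * (e₁ : G) * n⁻¹) * r x = w * (w⁻¹ * ((r x)⁻¹ * (n * e₁ * n⁻¹) * r x) * w) * w⁻¹ by
        group)
    have hZ3 : w⁻¹ * ((r x)⁻¹ * (n * e₁ * n⁻¹) * r x) * w ∈ A ⊓ B := by
      refine (hZ ⟨_, h3⟩).2 ?_
      have e2' := congrArg Prod.fst e2
      have e1' := congrArg Prod.fst e1
      have e1'' := congrArg Prod.snd e1
      simp only at e1' e1'' e2'
      rw [← e2']
      have hx : x * (ι ⟨_, hu⟩).2 = (ι ⟨_, hu⟩).1 := div_mul_cancel₀ _ hb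
      rw [e1'', e1'] at hx
      exact left_eq_add.1 ((add_comm _ _).trans hx.symm).symm
    refine ⟨r x, hrS x, hC.normB_of_meet h2 hm hZ3 ?_ ?_⟩
    · intro h
      refine huC ?_
      have h' := h2.sideC_conj h (mul_mem hrN hw)
      rwa [show r x * w * (w⁻¹ * ((r x)⁻¹ * (n * (e₁ : G) * n⁻¹) * r x) * w) * (r x * w)⁻¹ =
        n * e₁ * n⁻¹ by group] at h'
    · rw [show ((r x * w)⁻¹ * n)⁻¹ * (w⁻¹ * ((r x)⁻¹ * (n * (e₁ : G) * n⁻¹) * r x) * w) *
        ((r x * w)⁻¹ * n) = e₁ by group]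
      exact he₁Z
  · obtain ⟨x, hx⟩ := hsr (s⁻¹ * s') (mul_mem (inv_mem hsS) hs'S)
    refine hr0 x _ (mul_mem (inv_mem hsS) hs'S) hx ?_
    set k := (s * w)⁻¹ * (s' * w) with hk'
    have hkA : k ∈ normalizer (A : Set G) :=
      mul_mem (inv_mem (mul_mem (h2.cfg.twoEA.normA hsS) hw)) (mul_mem (h2.cfg.twoEA.normA hs'S) hw)
    have h4 : k * e₁ * k⁻¹ ∈ A ⊓ B :=
      ⟨(mem_normalizer_iff.1 hkA _).1 he₁Z.1, (mem_normalizer_iff.1 h _).1 he₁Z.2⟩
    set a0 := (r x)⁻¹ * (s⁻¹ * s')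
    have ha0 : a0 ∈ A := hx
    have e : w * (k * e₁ * k⁻¹) * w⁻¹ = r x * (w * e₁ * w⁻¹) * (r x)⁻¹ := by
      have hcm : a0 * (w * e₁ * w⁻¹) * a0⁻¹ = w * e₁ * w⁻¹ := by
        rw [h2.cfg.twoEA.comm_left ha0 hwe, mul_inv_cancel_right]
      rw [show w * (k * e₁ * k⁻¹) * w⁻¹ = r x * (a0 * (w * e₁ * w⁻¹) * a0⁻¹) * (r x)⁻¹ by
        rw [hk']; simp only [a0]; group, hcm]
    have h5 : r x * (w * e₁ * w⁻¹) * (r x)⁻¹ ∈ A :=
      (mem_normalizer_iff.1 (h2.cfg.twoEA.normA (hrS x)) _).1 hwe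
    have h6 := hwι ⟨_, h4.1⟩ ⟨_, h5⟩ e.symm
    rw [hr x ⟨_, hwe⟩ ⟨_, h5⟩ rfl, hιwe, (hZ ⟨_, h4.1⟩).1 h4] at h6
    simpa using congrArg Prod.fst h6

/-- There are `q + 1` lines through a point. -/
theorem card_lines : Set.ncard ((fun n : G => (n : G ⧸ normalizer (B : Set G))) '' (normalizer (A : Set G) : Set G)) =
    q + 1 := by
  classical
  obtain ⟨w, hw, hwB, hcov, hinj⟩ := hC.lines h2
  set f : G → G ⧸ normalizer (B : Set G) := fun n => (n : G ⧸ normalizer (B : Set G))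
  set T : Set (G ⧸ normalizer (B : Set G)) := (fun s => f (s * w)) '' ((S : Subgroup G) : Set G)
  have hset : f '' (normalizer (A : Set G) : Set G) = insert (f 1) T := by
    refine Set.Subset.antisymm ?_ ?_
    · rintro _ ⟨n, hn, rfl⟩
      rcases hcov n hn with h | ⟨s, hs, h⟩
      · exact Set.mem_insert_iff.2 (Or.inl (QuotientGroup.eq.2 (by simpa using inv_mem h)))
      · exact Set.mem_insert_iff.2 (Or.inr ⟨s, hs, QuotientGroup.eq.2 h⟩)
    · rintro x (rfl | ⟨s, hs, rfl⟩)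
      · exact ⟨1, one_mem _, rfl⟩
      · exact ⟨s * w, mul_mem (h2.cfg.twoEA.normA hs) hw, rfl⟩
  have hnot : f 1 ∉ T := by
    rintro ⟨s, hs, e⟩
    have h : (s * w)⁻¹ * 1 ∈ normalizer (B : Set G) := QuotientGroup.eq.1 e
    refine hwB ?_
    have h' := mul_mem (inv_mem (h2.symm.cfg.twoEA.normA hs)) (inv_mem h)
    simpa using h'
  have hT : T.ncard = q := by
    rw [← h2.relA]
    let g : ↥(S : Subgroup G) ⧸ A.subgroupOf (S : Subgroup G) → G ⧸ normalizer (B : Set G) :=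
      Quotient.lift (fun s : ↥(S : Subgroup G) => f (s * w)) (by
        intro a b hab
        have hA : (a : G)⁻¹ * b ∈ A :=
          (QuotientGroup.leftRel_apply (s := A.subgroupOf (S : Subgroup G))).1 hab
        refine QuotientGroup.eq.2 ?_
        have h' : w⁻¹ * ((a : G)⁻¹ * b) * w ∈ A := by
          simpa using (mem_normalizer_iff.1 (inv_mem hw) _).1 hA
        rw [show ((a : G) * w)⁻¹ * (b * w) = w⁻¹ * ((a : G)⁻¹ * b) * w by group]
        exact h2.symm.cfg.twoEA.normA (h2.cfg.A_le h'))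
    have hg : Function.Injective g := by
      intro a b
      induction a using QuotientGroup.induction_on with
      | H a =>
        induction b using QuotientGroup.induction_on with
        | H b =>
          intro e
          exact QuotientGroup.eq.2 (hinj a a.2 b b.2 (QuotientGroup.eq.1 e))
    have hr : Set.range g = T := by
      ext x
      constructor
      · rintro ⟨a, rfl⟩
        induction a using QuotientGroup.induction_on with
        | H a => exact ⟨a, a.2, rfl⟩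
      · rintro ⟨s, hs, rfl⟩
        exact ⟨((⟨s, hs⟩ : ↥(S : Subgroup G)) : ↥(S : Subgroup G) ⧸ A.subgroupOf (S : Subgroup G)), rfl⟩
    rw [← hr, Set.ncard_range_of_injective hg]
    rfl
  rw [hset, Set.ncard_insert_of_notMem hnot (Set.toFinite _), hT]

end Cent

end Cfsg.Agent.ABRec
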