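import Cfsg.Agent.Lib.ABRec.Cent
import Cfsg.Agent.Lib.ABRec.Geo

/-!
`CentStmt`: the centralisers of involutions in a simple group with Sylow 2-subgroup of type `L₃` or `PSp₄`.
-/

set_option autoImplicit false
set_option linter.style.haveILetI false
set_option linter.unusedSectionVars false

namespace Cfsg.Agent.ABRec

open Subgroup Cfsg.Agent.GoldStruct

universe u

variable {G : Type u} [Group G] [Finite G]

/-- An element of `N(A)` fixing an element of `Z` outside the fixed points keeps `Z`. -/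
theorem SideHyp.line_fixed {S A Z : Subgroup G} (h : SideHyp S A Z) (hle : Z.relIndex A ≤ A.relIndex S)
    {n z x : G} (hn : n ∈ normalizer (A : Set G)) (hz : z ∈ Z) (hzC : z ∉ sideC S A) (hfix : n * z * n⁻¹ = z)
    (hx : x ∈ Z) : n * x * n⁻¹ ∈ Z := by
  by_contra hno
  obtain ⟨M, hM⟩ : ∃ M : Subgroup G, M = centralizer ({z} : Set G) := ⟨_, rfl⟩
  have hSM : S ≤ M := fun s hs => by
    rw [hM, mem_centralizer_singleton_iff]
    exact (h.central s hs z hz).eq
  have hAM : A ≤ M := h.A_le.trans hSM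
  have hnM : n ∈ M := by
    rw [hM, mem_centralizer_singleton_iff]
    exact mul_inv_eq_iff_eq_mul.1 hfix
  have e1 : (A.subgroupOf M).relIndex (S.subgroupOf M) = A.relIndex S := relIndex_subgroupOf hSM
  have e2 : (Z.subgroupOf M).relIndex (A.subgroupOf M) = Z.relIndex A := relIndex_subgroupOf hAM
  have h' : SideHyp (S.subgroupOf M) (A.subgroupOf M) (Z.subgroupOf M) :=
    { index := fun hd => by
        have hd' : 2 ∣ S.relIndex M := hd
        exact h.index (hd'.trans (relIndex_dvd_index_of_le hSM))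
      two := h.two.comap_subtype
      A_le := fun a ha => h.A_le ha
      Z_le := fun a ha => h.Z_le ha
      sq := fun a ha => Subtype.ext (h.sq _ ha)
      norm := fun s hs => normalizer_of (h.norm hs)
      central := fun s hs y hy => Subtype.ext (h.central _ hs _ hy).eq
      quad := fun s hs a ha => h.quad _ hs _ ha
      self := fun s hs hsA a ha hc => h.self _ hs hsA _ ha (hc.map M.subtype)
      four := e1.symm ▸ h.four
      open_ := ⟨⟨n, hnM⟩, normalizer_of hn, ⟨x, hAM (h.Z_le hx)⟩, hx, hno⟩ }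
  obtain ⟨F, i1, i2, i3, hF, ⟨f⟩⟩ := h.exists_frame hle
  obtain ⟨F', j1, j2, j3, hF', ⟨f'⟩⟩ := h'.exists_frame (e2.symm ▸ e1.symm ▸ hle)
  have c1 := f.card_Z h.Z_le h.sideC_le
  have c2 := f'.card_Z h'.Z_le h'.sideC_le
  rw [Nat.card_congr (subgroupOfEquivOfLe (h.Z_le.trans hAM)).toEquiv, Nat.card_eq_fintype_card (α := F'), hF', e1, ← hF,
    ← Nat.card_eq_fintype_card, c1] at c2
  have hsub : (sideC S A).subgroupOf M ≤ sideC (S.subgroupOf M) (A.subgroupOf M) := fun c hc => by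
    rw [mem_subgroupOf, mem_sideC] at hc
    rw [mem_sideC]
    exact ⟨hc.1, fun y hy s hs => Subtype.ext (hc.2 y (normalizer_to hAM hy) s hs).eq⟩
  have hcard : Nat.card (sideC (S.subgroupOf M) (A.subgroupOf M)) ≤ Nat.card ((sideC S A).subgroupOf M) := by
    rw [Nat.card_congr (subgroupOfEquivOfLe ((h.sideC_le.trans h.Z_le).trans hAM)).toEquiv]
    exact (Nat.eq_of_mul_eq_mul_left Nat.card_pos c2).symm.le
  have hzA := h.Z_le hz
  have hin : (⟨z, hAM hzA⟩ : M) ∈ sideC (S.subgroupOf M) (A.subgroupOf M) := by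
    rw [mem_sideC]
    refine ⟨hzA, fun y _ s _ => Subtype.ext ?_⟩
    exact mem_centralizer_singleton_iff.1 (hM.le (y * s * y⁻¹).2)
  rw [← Subgroup.eq_of_le_of_card_ge hsub hcard] at hin
  exact hzC hin

namespace Two

variable {S : Sylow 2 G} {A B : Subgroup G} {q : ℕ} (h2 : Two S A B q)
include h2

/-- The side of `A`. -/
theorem lines_side : Lines A B (sideC (S : Subgroup G) A) := by
  have hT := h2.cfg.twoEA
  have hA := h2.side
  have hle : (A ⊓ B).relIndex A ≤ A.relIndex (S : Subgroup G) := by rw [h2.relZ, h2.relA]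
  obtain ⟨F, i1, i2, i3, hF, ⟨f⟩⟩ := hA.exists_frame hle
  have hcomm : ∀ s ∈ (S : Subgroup G), ∀ c ∈ sideC (S : Subgroup G) A, Commute s c := fun s hs c hc =>
    hA.central s hs c (hA.sideC_le hc)
  have hconj : ∀ {n a : G}, n ∈ normalizer (A : Set G) → a ∈ A → n * a * n⁻¹ ∈ A := fun hn ha =>
    (mem_normalizer_iff.1 hn _).1 ha
  have hrN : ∀ x, f.r x ∈ normalizer (A : Set G) := fun x => hA.norm (f.r_mem x)
  -- coordinates of the image under `w r x`
  have himg : ∀ (x : F) (a : G) (ha : a ∈ A),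
      f.w * f.r x * a * (f.w * f.r x)⁻¹ ∈ A ⊓ B ↔ (f.ι ⟨a, ha⟩).1 + x * (f.ι ⟨a, ha⟩).2 = 0 := by
    intro x a ha
    have h1 := hconj (hrN x) ha
    have h3 := hconj f.w_mem h1
    rw [show f.w * f.r x * a * (f.w * f.r x)⁻¹ = f.w * (f.r x * a * (f.r x)⁻¹) * f.w⁻¹ by group]
    refine (f.mem_Z ⟨_, h3⟩).trans ?_
    rw [f.w_act ⟨_, h1⟩ ⟨_, h3⟩ rfl, f.r_act x ⟨a, ha⟩ ⟨_, h1⟩ rfl]
  have hcomm' : ∀ x, ∀ c ∈ sideC (S : Subgroup G) A, Commute (f.w * f.r x) c := fun x c hc =>
    (f.w_fix c hc).mul_left (hcomm _ (f.r_mem x) c hc)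
  have hN : ∀ x, f.w * f.r x ∈ normalizer (A : Set G) := fun x => mul_mem f.w_mem (hrN x)
  refine ⟨hA.sideC_le, fun n hn => SEBrick.mem_normalizer_of fun c hc => Cfsg.Agent.ABRec.sideC_conj hn hc,
    fun n hn z hzA hzB hzC hfix x hxA hxB => (hA.line_fixed hle hn ⟨hzA, hzB⟩ hzC hfix ⟨hxA, hxB⟩).2, ?_, ?_, ?_⟩
  · intro a ha
    by_cases h0 : (f.ι ⟨a, ha⟩).2 = 0
    · exact ⟨1, one_mem _, fun c _ => Commute.one_left c, by simpa using ((f.mem_Z ⟨a, ha⟩).2 h0).2⟩
    · refine ⟨_, hN (-(f.ι ⟨a, ha⟩).1 / (f.ι ⟨a, ha⟩).2), hcomm' _, ((himg _ a ha).2 ?_).2⟩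
      rw [div_mul_cancel₀ _ h0, add_neg_cancel]
  · refine ⟨_, hN 0, _, hN 1, hcomm' 0, hcomm' 1, ?_, ?_, ?_⟩
    · intro a ha haB he
      refine (f.ι_zero ⟨a, ha⟩).1 (Prod.ext ?_ ((f.mem_Z ⟨a, ha⟩).1 ⟨ha, haB⟩))
      have := (himg 0 a ha).1 ⟨hconj (hN 0) ha, he⟩
      rwa [zero_mul, add_zero] at this
    · intro a ha haB he
      have h0 := (f.mem_Z ⟨a, ha⟩).1 ⟨ha, haB⟩
      refine (f.ι_zero ⟨a, ha⟩).1 (Prod.ext ?_ h0)
      have := (himg 1 a ha).1 ⟨hconj (hN 1) ha, he⟩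
      rwa [h0, mul_zero, add_zero] at this
    · intro a ha
      obtain ⟨v, hv⟩ := f.surj ((f.ι ⟨a, ha⟩).1, (f.ι ⟨a, ha⟩).1)
      obtain ⟨u, hu⟩ : ∃ u : A, u = ⟨a, ha⟩ * v := ⟨_, rfl⟩
      have hvv : (v : G) * v = 1 := hT.sqA _ v.2
      refine ⟨u, u.2, v, v.2, ?_, ((himg 0 u u.2).2 ?_).2, ((himg 1 v v.2).2 ?_).2⟩
      · rw [hu]; show a * (v : G) * v = a; rw [mul_assoc, hvv, mul_one]
      · show (f.ι u).1 + 0 * (f.ι u).2 = 0
        rw [zero_mul, add_zero, hu, f.ι_mul, hv]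
        exact CharTwo.add_self_eq_zero _
      · show (f.ι v).1 + 1 * (f.ι v).2 = 0
        rw [hv, one_mul]
        exact CharTwo.add_self_eq_zero _
  · obtain ⟨b₁, hb₁, hb₁A⟩ := hT.exB
    by_contra hno
    push Not at hno
    have key : Nat.card B ≤ Nat.card (Bool × ↥(A ⊓ B)) := by
      classical
      let g : B → Bool × ↥(A ⊓ B) := fun b =>
        if hb : (b : G) ∈ A then (false, ⟨b, hb, b.2⟩)
        else (true, ⟨b₁ * b, hno b₁ hb₁ b b.2 hb₁A hb, mul_mem hb₁ b.2⟩)
      refine Nat.card_le_card_of_injective g fun b b' e => ?_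
      by_cases hb : (b : G) ∈ A <;> by_cases hb' : (b' : G) ∈ A <;>
        simp only [g, hb, hb', dite_true, dite_false, Prod.mk.injEq, Bool.false_eq_true,
          Bool.true_eq_false, false_and, true_and] at e <;>
        first
        | exact Subtype.ext (Subtype.mk.inj e)
        | exact Subtype.ext (mul_left_cancel (Subtype.mk.inj e))
    rw [Nat.card_prod, Nat.card_eq_fintype_card (α := Bool), Fintype.card_bool, h2.card_B, h2.card_A,
      mul_comm] at key
    have := Nat.le_of_mul_le_mul_right key Nat.card_pos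
    have := h2.four_le
    omega

/-- Some element of `A ⊓ B` is not fixed by the side of `B`. -/
theorem exists_not_fixed : ∃ z ∈ A, z ∈ B ∧ z ∉ sideC (S : Subgroup G) B := by
  by_contra hno
  push Not at hno
  have hle : A ⊓ B ≤ sideC (S : Subgroup G) B := fun z hz => hno z hz.1 hz.2
  have := Subgroup.card_le_of_le hle
  have h4 := h2.four_le
  rcases h2.type with ⟨-, hB, hZ⟩ | ⟨-, hB, -, -, hZ⟩
  · rw [hB, card_bot, hZ] at this
    omega
  · rw [hB, hZ] at this
    have := Nat.le_of_mul_le_mul_left (by rwa [mul_one] : q * q ≤ q * 1) (by omega)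
    omega

theorem centData : CentData S A B (sideC (S : Subgroup G) A) (sideC (S : Subgroup G) B) where
  two := h2.cfg.twoEA
  card := h2.card_B.symm
  nc := h2.cfg.twoEA.not_conj
  gen := h2.cfg.twoEA.inf_le_comm h2.side (by rw [inf_comm]; exact h2.symm.side) h2.sideC_inf
  four := by
    have h4 := h2.four_le
    rcases h2.type with ⟨-, -, hZ⟩ | ⟨-, -, -, -, hZ⟩ <;> rw [hZ]
    · exact h4
    · exact h4.trans (Nat.le_mul_self q)
  disj z hz hz' := mem_bot.1 (h2.sideC_inf ▸ mem_inf.2 ⟨hz, hz'⟩)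
  sideA := h2.lines_side
  sideB := h2.symm.lines_side

theorem self_cent [IsSimpleGroup G] (hg : GoldInputs.{u}) : centralizer (A : Set G) = A := by
  haveI : Fact (Nat.Prime 2) := ⟨Nat.prime_two⟩
  have h := h2.centData
  obtain ⟨z, hzA, hzB, hzC⟩ := h2.exists_not_fixed
  have hle := h.sylow_le_cent hzA hzB
  have hz1 : z ≠ 1 := fun e => hzC (e ▸ one_mem _)
  have hO : ∀ N : Subgroup ↥(centralizer ({z} : Set G)), N.Normal → Odd (Nat.card N) → N = ⊥ := by
    intro N hN hodd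
    have h1 : Cfsg.pPrimeCore 2 ↥(centralizer ({z} : Set G)) = ⊥ :=
      (map_eq_bot_iff_of_injective _ (subtype_injective _)).1 (h.core_bot hg hzA hz1)
    exact le_bot_iff.1 (h1 ▸ PBasic.le_pPrimeCore hN (Nat.coprime_two_right.2 hodd))
  have hA' := h.two.leA.trans hle
  have hAn : (A.subgroupOf (centralizer ({z} : Set G))).Normal :=
    normalizer_eq_top_iff.1 (eq_top_iff.2 fun k _ => normalizer_of (h.cent_le hg hzA hzB hzC k.2))
  refine le_antisymm (fun g hgA => ?_) fun a ha => mem_centralizer_iff.2 fun x hx => h.two.commA hx ha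
  have hgz : g ∈ centralizer ({z} : Set G) :=
    mem_centralizer_singleton_iff.2 (mem_centralizer_iff.1 hgA z hzA).symm
  have hgS : g ∈ (S : Subgroup G) :=
    cent_le_sylow (h.two.restrict hle) (D := ⊥) (by rw [card_bot]; exact odd_one)
      (by rw [normalizer_eq_top]; exact le_top) hO hAn (x := ⟨g, hgz⟩)
      (mem_centralizer_iff.2 fun a ha => Subtype.ext (mem_centralizer_iff.1 hgA (a : G) ha))
  obtain ⟨a, ha, haB⟩ := h.two.exA
  exact h.two.mem_of_commute hgS ha haB (mem_centralizer_iff.1 hgA a ha).symm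

end Two

/-- The centralisers of involutions, from Goldschmidt's theorem. -/
theorem centStmt (hg : GoldInputs.{u}) : CentStmt.{u} := by
  intro G _ _ _ S A B q h2
  have h := h2.centData
  have hs := h2.symm.centData
  have hne : ∀ z ∈ sideC (S : Subgroup G) A, z ≠ 1 → z ∉ sideC (S : Subgroup G) B :=
    fun z hz hz1 hz' => hz1 (h.disj z hz hz')
  exact
    { mixed := fun z hz hzA hzB => h.cent_le_sylow_normalizer hg hz.1 hz.2 hzA hzB
      rootA := fun z hz hz1 => h.cent_le hg (h2.sideC_le hz).1 (h2.sideC_le hz).2 (hne z hz hz1)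
      rootB := fun z hz hz1 => hs.cent_le hg (h2.symm.sideC_le hz).1 (h2.symm.sideC_le hz).2
        fun hz' => hne z hz' hz1 hz
      selfA := h2.self_cent hg
      selfB := h2.symm.self_cent hg }

end Cfsg.Agent.ABRec
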