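import Cfsg.Agent.Lib.ABRec.Map
import Cfsg.Agent.Lib.ABRec.CentCore

/-!
A closed side: if the normaliser of `A` does not move `A ⊓ B`, then `B` is a Sylow subgroup of its normal closure.
-/

set_option autoImplicit false
set_option linter.style.haveILetI false
set_option linter.unusedSectionVars false

namespace Cfsg.Agent.ABRec

open Subgroup Cfsg.Agent.GoldStruct

universe u

variable {G : Type u} [Group G] [Finite G] {S : Sylow 2 G} {A B : Subgroup G}

/-- The involutions of the Sylow subgroup in the closure of a strongly closed subgroup lie in that subgroup. -/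
theorem invol_mem_of_closed (hg : GoldInputs.{u}) (h : SC S A) {x : G} (hxS : x ∈ (S : Subgroup G))
    (hxK : x ∈ normalClosure (A : Set G)) (hx2 : x * x = 1) : x ∈ A := by
  haveI : Fact (Nat.Prime 2) := ⟨Nat.prime_two⟩
  obtain ⟨π, hπ⟩ : ∃ π : G →* G ⧸ Cfsg.pPrimeCore 2 G, π = QuotientGroup.mk' _ := ⟨_, rfl⟩
  have hs : Function.Surjective π := hπ ▸ QuotientGroup.mk'_surjective _
  have hK : π x ∈ normalClosure ((A.map π : Subgroup _) : Set (G ⧸ Cfsg.pPrimeCore 2 G)) := by
    have hle : normalClosure (A : Set G) ≤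
        (normalClosure ((A.map π : Subgroup _) : Set (G ⧸ Cfsg.pPrimeCore 2 G))).comap π :=
      normalClosure_le_normal fun a ha => subset_normalClosure ⟨a, ha, rfl⟩
    exact hle hxK
  obtain ⟨a, ha, e⟩ := (closure_data hg quot_core (h.map π hs)).1 (π x) (mem_map_of_mem π hxS) hK
    (by rw [← map_mul, hx2, map_one])
  have h1 : a⁻¹ * x = 1 := by
    obtain ⟨n, hn⟩ := IsPGroup.iff_card.1 S.2
    have hc : a⁻¹ * x ∈ Cfsg.pPrimeCore 2 G := (QuotientGroup.eq_one_iff _).1 (by
      show (QuotientGroup.mk' _) (a⁻¹ * x) = 1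
      rw [← hπ, map_mul, map_inv, e, inv_mul_cancel])
    refine orderOf_eq_one_iff.1 (Nat.eq_one_of_dvd_coprimes ?_ (Subgroup.orderOf_dvd_natCard _ hc)
      (Subgroup.orderOf_dvd_natCard _ (mul_mem (inv_mem (h.le ha)) hxS)))
    rw [hn]
    exact (PBasic.pPrimeCore_coprime 2 G).pow_right n
  rwa [← inv_mul_eq_one.1 h1]

/-- A closed side. -/
theorem closedStmt (hg : GoldInputs.{u}) : ClosedStmt.{u} := by
  intro G _ _ S A B hc ho
  haveI : Fact (Nat.Prime 2) := ⟨Nat.prime_two⟩
  have hT := hc.twoEA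
  have hcl : SC S B := hT.closed_of_not_moved fun x hx z hz => by
    refine ⟨(mem_normalizer_iff.1 hx z).1 hz.1, ?_⟩
    by_contra h
    exact ho ⟨x, hx, z, hz, h⟩
  haveI hKn : (normalClosure (B : Set G)).Normal := normalClosure_normal
  obtain ⟨P, hP⟩ := GoldStruct.sylow_inf S hKn
  refine ⟨P, ?_⟩
  rw [hP, subgroupOf_map_subtype, inf_eq_left.2 inf_le_right]
  refine le_antisymm (fun x hx => ?_) (le_inf hc.B_le fun b hb => subset_normalClosure hb)
  obtain ⟨hxS, hxK⟩ := mem_inf.1 hx
  obtain ⟨a, ha, b, hb, rfl⟩ := hc.prod x hxS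
  refine mul_mem (invol_mem_of_closed hg hcl (hc.A_le ha) ?_ (hc.sqA ha)) hb
  simpa using mul_mem hxK (inv_mem (subset_normalClosure hb : b ∈ normalClosure (B : Set G)))

end Cfsg.Agent.ABRec
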