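import Cfsg.Agent.Lib.ABRec.Pair

/-!
The fixed points of the two closures: their intersection is strongly closed, and if it is trivial they are both
trivial or both of the order of the field, `A ⊓ B` being generated by the commutators of `A` and `B`.
-/

set_option autoImplicit false
set_option linter.style.haveILetI false
set_option linter.unusedSectionVars false

namespace Cfsg.Agent.ABRec

open Subgroup Cfsg.Agent.GoldStruct
open scoped Pointwise

universe u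

variable {G : Type u} [Group G] [Finite G]

/-- The natural module of a side, with root elements in `S` and a torus of odd order in the normaliser of `S`. -/
structure Frame (S A Z : Subgroup G) (F : Type) [Field F] where
  ι : A → F × F
  r : F → G
  w : G
  τ : Fˣ → G
  surj : Function.Surjective ι
  ι_mul : ∀ a b, ι (a * b) = ι a + ι b
  ι_zero : ∀ a : A, ι a = 0 ↔ (a : G) ∈ sideC S A
  mem_Z : ∀ a : A, (a : G) ∈ Z ↔ (ι a).2 = 0
  r_mem : ∀ x, r x ∈ S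
  r_surj : ∀ s ∈ S, ∃ x, (r x)⁻¹ * s ∈ A
  w_mem : w ∈ normalizer (A : Set G)
  τ_mem : ∀ t, τ t ∈ normalizer (A : Set G)
  τ_norm : ∀ t, τ t ∈ normalizer (S : Set G)
  τ_odd : ∀ t, ∃ k, Odd k ∧ τ t ^ k = 1
  r_act : ∀ x (a b : A), (b : G) = r x * a * (r x)⁻¹ → ι b = ((ι a).1 + x * (ι a).2, (ι a).2)
  w_act : ∀ a b : A, (b : G) = w * a * w⁻¹ → ι b = ((ι a).2, (ι a).1)
  τ_act : ∀ t (a b : A), (b : G) = τ t * a * (τ t)⁻¹ → ι b = ((t : F) * (ι a).1, (t : F)⁻¹ * (ι a).2)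
  w_fix : ∀ c ∈ sideC S A, Commute w c
  τ_fix : ∀ c ∈ sideC S A, ∀ t, Commute (τ t) c

/-- The normaliser of `A` preserves the fixed points. -/
theorem sideC_conj {S A : Subgroup G} {x c : G} (hx : x ∈ normalizer (A : Set G)) (hc : c ∈ sideC S A) :
    x * c * x⁻¹ ∈ sideC S A := by
  rw [mem_sideC] at hc ⊢
  refine ⟨(mem_normalizer_iff.1 hx c).1 hc.1, fun y hy s hs => ?_⟩
  have e := (hc.2 (x⁻¹ * y) (mul_mem (inv_mem hx) hy) s hs).map (MulAut.conj x).toMonoidHom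
  simpa [mul_assoc] using e

namespace SideHyp

variable {S A Z : Subgroup G} (h : SideHyp S A Z)
include h

theorem exists_outside : ∃ s ∈ S, s ∉ A := by
  by_contra hn
  push Not at hn
  have := h.four
  rw [relIndex_eq_one.2 (show S ≤ A from hn)] at this
  omega

theorem sideC_le : sideC S A ≤ Z := by
  intro c hc
  obtain ⟨hcA, hcc⟩ := mem_sideC.1 hc
  obtain ⟨s, hs, hsA⟩ := h.exists_outside
  exact h.self s hs hsA c hcA (by simpa using hcc 1 (one_mem _) s hs)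

/-- An element of the normaliser of `A` preserving `Z` acts as an element of the normaliser of `S`. -/
theorem lift_normalizer {x : G} (hx : x ∈ normalizer (A : Set G)) (hxZ : ∀ z ∈ Z, x * z * x⁻¹ ∈ Z) :
    ∃ n ∈ normalizer (S : Set G), n ∈ normalizer (A : Set G) ∧ ∀ a ∈ A, n * a * n⁻¹ = x * a * x⁻¹ := by
  haveI : Fact (Nat.Prime 2) := ⟨Nat.prime_two⟩
  letI : CommGroup ↥A := { A.toGroup with mul_comm := fun a b => Subtype.ext (h.comm a.2 b.2) }
  set N := normalizer (A : Set G)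
  have hxZ' : ∀ z ∈ Z, x⁻¹ * z * x ∈ Z := by
    have hxN : x ∈ normalizer (Z : Set G) := mem_normalizer_fintype fun z hz => hxZ z hz
    intro z hz
    simpa using (mem_normalizer_iff.1 (inv_mem hxN) z).1 hz
  set C := centralizer (A : Set G) with hC
  have hCN : C ≤ N := fun c hc => mem_normalizer_fintype fun a ha => by
    rw [← mem_centralizer_iff.1 hc a ha, mul_inv_cancel_right]; exact ha
  -- conjugates of `S` by `x` act on `A` as elements of `S`
  have hkey : ∀ s ∈ S, ∃ s' ∈ S, s'⁻¹ * (x * s * x⁻¹) ∈ C := by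
    intro s hs
    have hm : x * s * x⁻¹ ∈ N := mul_mem (mul_mem hx (h.norm hs)) (inv_mem hx)
    have h1 : ∀ z ∈ Z, x * s * x⁻¹ * z * (x * s * x⁻¹)⁻¹ = z := by
      intro z hz
      rw [show x * s * x⁻¹ * z * (x * s * x⁻¹)⁻¹ = x * (s * (x⁻¹ * z * x) * s⁻¹) * x⁻¹ by group,
        (h.central s hs _ (hxZ' z hz)).eq, mul_inv_cancel_right]
      group
    have h2 : ∀ a ∈ A, x * s * x⁻¹ * a * (x * s * x⁻¹)⁻¹ * a⁻¹ ∈ Z := by
      intro a ha
      have ha' : x⁻¹ * a * x ∈ A := by simpa using (mem_normalizer_iff.1 (inv_mem hx) a).1 ha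
      have := hxZ _ (h.quad s hs _ ha')
      rwa [show x * (s * (x⁻¹ * a * x) * s⁻¹ * (x⁻¹ * a * x)⁻¹) * x⁻¹ =
        x * s * x⁻¹ * a * (x * s * x⁻¹)⁻¹ * a⁻¹ by group] at this
    have hA := h.act
    have hT : A.normalizerMonoidHom.rangeRestrict ⟨_, hm⟩ ∈
        (S.subgroupOf N).map A.normalizerMonoidHom.rangeRestrict := by
      refine hA.stab_le (fun z hz => ?_) fun v => ?_
      · exact congrArg Additive.ofMul (Subtype.ext (h1 _ hz) :
          A.normalizerMonoidHom ⟨_, hm⟩ z.toMul = z.toMul)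
      · show ((A.normalizerMonoidHom ⟨_, hm⟩ v.toMul * v.toMul : A) : G) ∈ Z
        rw [coe_mul, normalizerMonoidHom_val]
        have e := h2 _ v.toMul.2
        rwa [inv_eq_of_mul_eq_one_right (h.sq _ v.toMul.2)] at e
    obtain ⟨s', hs', e⟩ := hT
    refine ⟨s', hs', ?_⟩
    have e' : A.normalizerMonoidHom (s'⁻¹ * ⟨_, hm⟩) = 1 := by
      rw [map_mul, map_inv, ← show A.normalizerMonoidHom s' = A.normalizerMonoidHom ⟨_, hm⟩ from
        congrArg Subtype.val e, inv_mul_cancel]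
    have hk := MonoidHom.mem_ker.2 e'
    rw [normalizerMonoidHom_ker, mem_subgroupOf] at hk
    exact hk
  have hle : S.map (MulAut.conj x).toMonoidHom ≤ S ⊔ C := by
    rintro _ ⟨s, hs, rfl⟩
    obtain ⟨s', hs', hc⟩ := hkey s hs
    rw [show (MulAut.conj x).toMonoidHom s = s' * (s'⁻¹ * (x * s * x⁻¹)) by simp]
    exact mul_mem_sup hs' hc
  obtain ⟨m, hm, hm'⟩ := LESylow.exists_conj_le_of_le hle (h.two.map _)
    ((h.two.toSylow h.index).subtype (show ((h.two.toSylow h.index : Sylow 2 G) : Subgroup G) ≤ S ⊔ C from le_sup_left))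
  have hnC : S ≤ normalizer (C : Set G) := fun s hs => mem_normalizer_fintype fun c hc => by
    refine mem_centralizer_iff.2 fun a ha => ?_
    have ha' : s⁻¹ * a * s ∈ A := by simpa using (mem_normalizer_iff.1 (inv_mem (h.norm hs)) a).1 ha
    have e := mem_centralizer_iff.1 hc _ ha'
    calc a * (s * c * s⁻¹) = s * (s⁻¹ * a * s * c) * s⁻¹ := by group
      _ = s * (c * (s⁻¹ * a * s)) * s⁻¹ := by rw [e]
      _ = s * c * s⁻¹ * a := by group
  have hm2 : m ∈ (S : Set G) * (C : Set G) := by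
    rw [← coe_mul_of_left_le_normalizer_right S C hnC]
    exact hm
  obtain ⟨s₀, hs₀, c, hc, rfl⟩ := hm2
  refine ⟨c * x, mem_normalizer_fintype fun s hs => ?_, mul_mem (hCN hc) hx, fun a ha => ?_⟩
  · have := hm' ⟨_, ⟨s, hs, rfl⟩, rfl⟩
    rw [Sylow.coe_subtype, subgroupOf_map_subtype] at this
    have h1 : s₀ * c * (x * s * x⁻¹) * (s₀ * c)⁻¹ ∈ S := this.1
    have h2 := mul_mem (mul_mem (inv_mem hs₀) h1) hs₀
    rwa [show s₀⁻¹ * (s₀ * c * (x * s * x⁻¹) * (s₀ * c)⁻¹) * s₀ = c * x * s * (c * x)⁻¹ by group] at h2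
  · rw [show c * x * a * (c * x)⁻¹ = c * (x * a * x⁻¹) * c⁻¹ by group,
      ← mem_centralizer_iff.1 hc _ ((mem_normalizer_iff.1 hx a).1 ha), mul_inv_cancel_right]

theorem exists_frame (hle : Z.relIndex A ≤ A.relIndex S) :
    ∃ (F : Type) (_ : Field F) (_ : Fintype F) (_ : CharP F 2),
      Fintype.card F = A.relIndex S ∧ Nonempty (Frame S A Z F) := by
  classical
  haveI : Fact (Nat.Prime 2) := ⟨Nat.prime_two⟩
  obtain ⟨F, i1, i2, i3, ι, r, w, τ, hF, hs, hmul, hzero, hZ, hrm, hrs, hwm, hτm, hr, hw, hτ, hfix⟩ :=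
    h.natural hle
  have hconj : ∀ g ∈ normalizer (A : Set G), ∀ a : A, g * (a : G) * g⁻¹ ∈ A := fun g hg a =>
    (mem_normalizer_iff.1 hg a).1 a.2
  have hτZ : ∀ t, ∀ z ∈ Z, τ t * z * (τ t)⁻¹ ∈ Z := by
    intro t z hz
    refine (hZ ⟨_, hconj _ (hτm t).1 ⟨z, h.Z_le hz⟩⟩).2 ?_
    rw [hτ t ⟨z, h.Z_le hz⟩ ⟨_, hconj _ (hτm t).1 ⟨z, h.Z_le hz⟩⟩ rfl]
    show (t : F)⁻¹ * (ι ⟨z, h.Z_le hz⟩).2 = 0
    rw [(hZ ⟨z, h.Z_le hz⟩).1 hz, mul_zero]
  have key : ∀ t, ∃ m : G, m ∈ normalizer (S : Set G) ∧ m ∈ normalizer (A : Set G) ∧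
      (∃ k, Odd k ∧ m ^ k = 1) ∧ ∀ a ∈ A, m * a * m⁻¹ = τ t * a * (τ t)⁻¹ := by
    intro t
    obtain ⟨n, hnS, hnA, hn⟩ := h.lift_normalizer (hτm t).1 (hτZ t)
    obtain ⟨k, ⟨j, rfl⟩, hk⟩ := (hτm t).2
    obtain ⟨a, b, hb, hab⟩ := Nat.exists_eq_pow_mul_and_not_dvd (orderOf_pos n).ne' 2 (by norm_num)
    refine ⟨n ^ (2 ^ a * (j + 1) ^ a), pow_mem hnS _, pow_mem hnA _,
      ⟨b, Nat.odd_iff.2 (Nat.two_dvd_ne_zero.1 hb), ?_⟩, ?_⟩
    · rw [← pow_mul, show 2 ^ a * (j + 1) ^ a * b = 2 ^ a * b * (j + 1) ^ a by ring, ← hab, pow_mul,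
        pow_orderOf_eq_one, one_pow]
    · have hpow : ∀ (m : ℕ) (y : G), y ∈ A → n ^ m * y * (n ^ m)⁻¹ = τ t ^ m * y * (τ t ^ m)⁻¹ := by
        intro m
        induction m with
        | zero => intro y _; simp
        | succ m ih =>
          intro y hy
          have hy' : n * y * n⁻¹ ∈ A := (mem_normalizer_iff.1 hnA y).1 hy
          have e := ih _ hy'
          rw [hn y hy] at e
          rw [pow_succ, pow_succ, show n ^ m * n * y * (n ^ m * n)⁻¹ = n ^ m * (n * y * n⁻¹) * (n ^ m)⁻¹ by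
            group, hn y hy, e]
          group
      intro y hy
      rw [hpow _ y hy]
      have e : τ t ^ (2 ^ a * (j + 1) ^ a) = τ t := by
        rw [← mul_pow, show 2 * (j + 1) = 2 * j + 1 + 1 by ring]
        clear hab
        induction a with
        | zero => rw [pow_zero, pow_one]
        | succ n' ih => rw [pow_succ', pow_mul, pow_succ (τ t) (2 * j + 1), hk, one_mul, ih]
      rw [e]
  choose m hmS hmA hmo hm using key
  exact ⟨F, i1, i2, i3, hF, ⟨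
    { ι := ι
      r := r
      w := w
      τ := m
      surj := hs
      ι_mul := hmul
      ι_zero := hzero
      mem_Z := hZ
      r_mem := hrm
      r_surj := hrs
      w_mem := hwm
      τ_mem := hmA
      τ_norm := hmS
      τ_odd := hmo
      r_act := hr
      w_act := hw
      τ_act := fun t a b e => hτ t a b (by rw [e]; exact hm t a a.2)
      w_fix := fun c hc => (hfix c hc).1
      τ_fix := fun c hc t => by
        have e := hm t c (mem_sideC.1 hc).1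
        rw [((hfix c hc).2 t).eq, mul_inv_cancel_right] at e
        exact mul_inv_eq_iff_eq_mul.1 e }⟩⟩

end SideHyp

namespace Frame

variable {S A Z : Subgroup G} {F : Type} [Field F] (f : Frame S A Z F)

theorem ι_one : f.ι 1 = 0 := by
  have e := f.ι_mul 1 1
  rw [one_mul] at e
  exact left_eq_add.1 e

include f

/-- Every element of `A` outside the fixed points is conjugate into `Z`. -/
theorem conj_into (hS : S ≤ normalizer (A : Set G)) {a : G} (ha : a ∈ A) :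
    ∃ x ∈ normalizer (A : Set G), x * a * x⁻¹ ∈ Z := by
  by_cases h2 : (f.ι ⟨a, ha⟩).2 = 0
  · exact ⟨1, one_mem _, by simpa using (f.mem_Z ⟨a, ha⟩).2 h2⟩
  have hn : f.r (-(f.ι ⟨a, ha⟩).1 / (f.ι ⟨a, ha⟩).2) ∈ normalizer (A : Set G) := hS (f.r_mem _)
  set x := -(f.ι ⟨a, ha⟩).1 / (f.ι ⟨a, ha⟩).2
  have ha1 : f.r x * a * (f.r x)⁻¹ ∈ A := (mem_normalizer_iff.1 hn a).1 ha
  have ha2 : f.w * (f.r x * a * (f.r x)⁻¹) * f.w⁻¹ ∈ A := (mem_normalizer_iff.1 f.w_mem _).1 ha1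
  refine ⟨f.w * f.r x, mul_mem f.w_mem hn, ?_⟩
  rw [show f.w * f.r x * a * (f.w * f.r x)⁻¹ = f.w * (f.r x * a * (f.r x)⁻¹) * f.w⁻¹ by group]
  refine (f.mem_Z ⟨_, ha2⟩).2 ?_
  rw [f.w_act ⟨_, ha1⟩ ⟨_, ha2⟩ rfl, f.r_act x ⟨a, ha⟩ ⟨_, ha1⟩ rfl]
  show (f.ι ⟨a, ha⟩).1 + x * (f.ι ⟨a, ha⟩).2 = 0
  rw [div_mul_cancel₀ _ h2, add_neg_cancel]

/-- An element of `Z` outside the fixed points is moved out of `Z`. -/
theorem moved {z : G} (hz : z ∈ Z) (hzA : z ∈ A) (hc : z ∉ sideC S A) : f.w * z * f.w⁻¹ ∉ Z := by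
  intro hw
  have hwA : f.w * z * f.w⁻¹ ∈ A := (mem_normalizer_iff.1 f.w_mem z).1 hzA
  have e := (f.mem_Z ⟨_, hwA⟩).1 hw
  rw [f.w_act ⟨z, hzA⟩ ⟨_, hwA⟩ rfl] at e
  exact hc ((f.ι_zero ⟨z, hzA⟩).1 (Prod.ext e ((f.mem_Z ⟨z, hzA⟩).1 hz)))

/-- Commutators with `S` lie in the fixed points only trivially. -/
theorem comm_mem (hS : S ≤ normalizer (A : Set G)) (hAc : ∀ a ∈ A, ∀ b ∈ A, a * b = b * a) {s a : G}
    (hs : s ∈ S) (ha : a ∈ A) (hc : s * a * s⁻¹ * a⁻¹ ∈ sideC S A) : s ∈ A ∨ a ∈ Z := by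
  obtain ⟨x, hx⟩ := f.r_surj s hs
  obtain ⟨a', ha', rfl⟩ : ∃ a', a' ∈ A ∧ s = f.r x * a' := ⟨_, hx, by group⟩
  have ha1 : f.r x * a * (f.r x)⁻¹ ∈ A := (mem_normalizer_iff.1 (hS (f.r_mem x)) a).1 ha
  have e : f.r x * a' * a * (f.r x * a')⁻¹ = f.r x * a * (f.r x)⁻¹ := by
    rw [show f.r x * a' * a * (f.r x * a')⁻¹ = f.r x * (a' * a * a'⁻¹) * (f.r x)⁻¹ by group, hAc a' ha' a ha,
      mul_inv_cancel_right]
  rw [e] at hc
  have h1 := (f.ι_zero (⟨f.r x * a * (f.r x)⁻¹, ha1⟩ * ⟨a, ha⟩⁻¹)).2 hc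
  have h2 : f.ι (⟨a, ha⟩⁻¹) = -f.ι ⟨a, ha⟩ := by
    refine eq_neg_of_add_eq_zero_left ?_
    rw [← f.ι_mul, inv_mul_cancel, f.ι_one]
  rw [f.ι_mul, h2, f.r_act x ⟨a, ha⟩ ⟨_, ha1⟩ rfl, add_neg_eq_zero] at h1
  have h3 : x * (f.ι ⟨a, ha⟩).2 = 0 := add_eq_left.1 (congrArg Prod.fst h1)
  rcases mul_eq_zero.1 h3 with rfl | h4
  · refine Or.inl (mul_mem ?_ ha')
    obtain ⟨y, hy⟩ := f.r_surj 1 (one_mem S)
    rw [mul_one, inv_mem_iff] at hy
    obtain ⟨v, hv⟩ := f.surj (0, 1)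
    have e' := f.r_act y v v (by rw [hAc _ hy _ v.2, mul_inv_cancel_right])
    rw [hv] at e'
    have e'' := congrArg Prod.fst e'
    simp at e''
    exact e'' ▸ hy
  · exact Or.inr ((f.mem_Z ⟨a, ha⟩).2 h4)

/-- `Z` modulo the fixed points has the order of the field. -/
theorem card_Z (hZA : Z ≤ A) (hC : sideC S A ≤ Z) : Nat.card Z = Nat.card F * Nat.card (sideC S A) := by
  let g : Z →* Multiplicative F := MonoidHom.mk' (fun z => Multiplicative.ofAdd (f.ι ⟨z, hZA z.2⟩).1)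
    fun y z => by
      rw [← ofAdd_add, ← Prod.fst_add, ← f.ι_mul]; rfl
  have hk : g.ker = (sideC S A).subgroupOf Z := by
    ext z
    rw [MonoidHom.mem_ker, mem_subgroupOf]
    constructor
    · exact fun e => (f.ι_zero ⟨z, hZA z.2⟩).1 (Prod.ext e ((f.mem_Z _).1 z.2))
    · exact fun e => congrArg (fun p : F × F => Multiplicative.ofAdd p.1) ((f.ι_zero ⟨z, hZA z.2⟩).2 e)
  have hs : Function.Surjective g := fun y => by
    obtain ⟨a, ha⟩ := f.surj (y.toAdd, 0)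
    exact ⟨⟨a, (f.mem_Z a).2 (congrArg Prod.snd ha)⟩, congrArg (fun p : F × F => Multiplicative.ofAdd p.1) ha⟩
  rw [card_eq_card_quotient_mul_card_subgroup g.ker, hk]
  congr 1
  · rw [← hk, ← index_eq_card, index_ker, MonoidHom.range_eq_top.2 hs, card_top]
    exact Nat.card_congr Multiplicative.toAdd
  · exact Nat.card_congr (subgroupOfEquivOfLe hC).toEquiv

end Frame

end Cfsg.Agent.ABRec
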