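import Cfsg.Agent.Lib.SEMain.Bender
import Cfsg.Agent.Lib.SEMain.Proof
import Cfsg.Agent.Lib.GoodInvol.BenderCard
import Cfsg.Agent.Lib.LocalEven.SylowAux

/-!
A group whose Sylow 2-subgroup is elementary abelian of order at least four, meets its conjugates trivially and
is not normal: the normal closure of the Sylow subgroup is a central extension of odd order of `SL(2, F)`, so it
contains root elements, a Weyl involution and a torus.
-/

set_option autoImplicit false
set_option linter.style.haveILetI false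
set_option linter.unusedSectionVars false

namespace Cfsg.Agent.ABRec

open Subgroup

universe u

variable {X : Type u} [Group X] [Finite X]

/-- An elementary abelian Sylow 2-subgroup of order at least four, not normal and meeting its conjugates
trivially. -/
structure TI (T : Subgroup X) : Prop where
  index : ¬ 2 ∣ T.index
  sq : ∀ t ∈ T, t * t = 1
  four : 4 ≤ Nat.card T
  not_normal : ¬ T.Normal
  ti : ∀ x t, t ∈ T → t ≠ 1 → x * t * x⁻¹ ∈ T → x ∈ normalizer (T : Set X)

/-- Root elements, a Weyl involution and their relations in the closure of `T`. -/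
structure Root (T : Subgroup X) (F : Type) [Field F] where
  rt : F → X
  w : X
  rt_add : ∀ a b, rt (a + b) = rt a * rt b
  rt_inj : Function.Injective rt
  rt_mem : ∀ a, rt a ∈ T
  rt_surj : ∀ t ∈ T, ∃ a, rt a = t
  ww : w * w = 1
  closure_eq : closure ((T : Set X) ∪ {w}) = normalClosure (T : Set X)
  comm : ∀ x y : F, x ≠ 0 → y ≠ 0 →
    Commute (w * rt x⁻¹ * w * rt x * w * rt x⁻¹) (w * rt y⁻¹ * w * rt y * w * rt y⁻¹)
  conj : ∀ t x : F, t ≠ 0 → w * rt t⁻¹ * w * rt t * w * rt t⁻¹ * rt x =
    rt (t * t * x) * (w * rt t⁻¹ * w * rt t * w * rt t⁻¹)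
  odd : ∀ x : F, x ≠ 0 → ∃ k, Odd k ∧ (w * rt x⁻¹ * w * rt x * w * rt x⁻¹) ^ k = 1
  one_w : Commute (w * rt 1 * w * rt 1 * w * rt 1) w

namespace TI

variable {T : Subgroup X} (hT : TI T)
include hT

theorem two : IsPGroup 2 T := fun t => ⟨1, Subtype.ext (by simpa [pow_two] using hT.sq t t.2)⟩

theorem mem_of_normalizer {j : X} (hj : j ∈ normalizer (T : Set X)) (hjj : j * j = 1) : j ∈ T := by
  haveI : Fact (Nat.Prime 2) := ⟨Nat.prime_two⟩
  have hz : IsPGroup 2 (zpowers j) := fun ⟨g, n, hn⟩ => ⟨1, Subtype.ext (by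
    show g ^ 2 ^ 1 = 1
    subst hn
    change (j ^ n) ^ 2 ^ 1 = 1
    rw [pow_one, ← zpow_natCast, ← zpow_mul, mul_comm, zpow_mul, zpow_natCast, pow_two, hjj, one_zpow])⟩
  have hsup := hz.to_sup_of_normal_right' hT.two (zpowers_le.2 hj)
  have h := (hT.two.toSylow hT.index).is_maximal' hsup le_sup_right
  exact h.le (mem_sup_left (mem_zpowers j))

theorem se : Cfsg.IsStronglyEmbedded (normalizer (T : Set X)) := by
  haveI : Fact (Nat.Prime 2) := ⟨Nat.prime_two⟩
  refine ⟨fun h => hT.not_normal (normalizer_eq_top_iff.1 h), even_iff_two_dvd.2 ?_, fun g hg => ?_⟩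
  · refine (hT.two.card_eq_or_dvd.resolve_left ?_).trans (card_dvd_of_le le_normalizer)
    have := hT.four
    omega
  · rw [← Nat.not_even_iff_odd]
    intro hev
    obtain ⟨j, hj, hj2⟩ := Invol.exists_invol hev
    obtain ⟨hj1, hjg⟩ := mem_inf.1 hj
    rw [Invol.mem_conj_map] at hjg
    have hjj := Invol.mul_self hj2
    have h1 := hT.mem_of_normalizer hj1 hjj
    have h2 := hT.mem_of_normalizer hjg (by
      rw [show g⁻¹ * j * g * (g⁻¹ * j * g) = g⁻¹ * (j * j) * g by group, hjj]; group)
    exact hg (by simpa using inv_mem (hT.ti g⁻¹ j h1 (Invol.ne_one hj2) (by simpa using h2)))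

theorem pair : SEMain.HasPair (normalizer (T : Set X)) := by
  classical
  haveI := Fintype.ofFinite T
  obtain ⟨s, hs⟩ : ∃ s : T, s ∉ ({1} : Finset T) := by
    refine (Finset.exists_mem_notMem_of_card_lt_card (t := Finset.univ) ?_).imp fun _ h => h.2
    rw [Finset.card_univ, ← Nat.card_eq_fintype_card, Finset.card_singleton]
    have := hT.four
    omega
  obtain ⟨t, ht⟩ : ∃ t : T, t ∉ ({1, s} : Finset T) := by
    refine (Finset.exists_mem_notMem_of_card_lt_card (t := Finset.univ)
      (lt_of_le_of_lt Finset.card_le_two ?_)).imp fun _ h => h.2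
    rw [Finset.card_univ, ← Nat.card_eq_fintype_card]
    have := hT.four
    omega
  simp only [Finset.mem_singleton, Finset.mem_insert, not_or] at hs ht
  refine ⟨s, t, le_normalizer s.2, le_normalizer t.2, ?_, ?_, fun e => ht.2 (Subtype.ext e.symm), ?_⟩
  · exact Invol.order_two_of_sq (hT.sq s s.2) fun e => hs (Subtype.ext e)
  · exact Invol.order_two_of_sq (hT.sq t t.2) fun e => ht.1 (Subtype.ext e)
  · have h := hT.sq _ (mul_mem s.2 t.2)
    calc (s : X) * t = ((s : X) * t)⁻¹ := (inv_eq_of_mul_eq_one_right h).symm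
      _ = t * s := by
        rw [mul_inv_rev, inv_eq_of_mul_eq_one_right (hT.sq s s.2), inv_eq_of_mul_eq_one_right (hT.sq t t.2)]

theorem core_odd : Odd (Nat.card (normalizer (T : Set X)).normalCore) := by
  haveI : Fact (Nat.Prime 2) := ⟨Nat.prime_two⟩
  obtain ⟨g, hg⟩ := SEMain.exists_not_mem hT.se
  refine (hT.se.2.2 g hg).of_dvd_nat (card_dvd_of_le (le_inf (normalCore_le _) fun k hk => ?_))
  rw [Invol.mem_conj_map]
  exact normalCore_le _ (by simpa [mul_assoc] using (normalCore_normal _).conj_mem k hk g⁻¹)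

/-- The core of the normaliser centralises the closure of `T`. -/
theorem core_comm {k e : X} (hk : k ∈ (normalizer (T : Set X)).normalCore)
    (he : e ∈ normalClosure (T : Set X)) : Commute k e := by
  set K := (normalizer (T : Set X)).normalCore
  haveI : K.Normal := normalCore_normal _
  have hbase : ∀ k ∈ K, ∀ t ∈ T, Commute k t := by
    intro k hk t ht
    have hcT : k * t * k⁻¹ * t⁻¹ ∈ T :=
      mul_mem ((mem_normalizer_iff.1 (normalCore_le _ hk) t).1 ht) (inv_mem ht)
    have hcK : k * t * k⁻¹ * t⁻¹ ∈ K := by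
      rw [mul_assoc, mul_assoc]
      refine mul_mem hk ?_
      rw [← mul_assoc]
      exact ‹K.Normal›.conj_mem _ (inv_mem hk) t
    by_contra hne
    refine Nat.not_even_iff_odd.2 hT.core_odd (Invol.even_of_invol_mem
      (Invol.order_two_of_sq (hT.sq _ hcT) fun h => hne ?_) hcK)
    show k * t = t * k
    calc k * t = k * t * k⁻¹ * t⁻¹ * (t * k) := by group
      _ = t * k := by rw [h, one_mul]
  have hle : normalClosure (T : Set X) ≤ centralizer (K : Set X) := by
    haveI : (centralizer (K : Set X)).Normal := inferInstance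
    refine normalClosure_le_normal fun t ht => mem_centralizer_iff.2 fun k hk => hbase k hk t ht
  exact mem_centralizer_iff.1 (hle he) k hk

/-- The surjection of the closure of `T` onto `SL(2, F)`, with central kernel of odd order, `T` going onto the
root group. -/
theorem exists_hom : ∃ (F : Type) (_ : Field F) (_ : Fintype F) (_ : CharP F 2)
    (π : ↥(normalClosure (T : Set X)) →* Matrix.SpecialLinearGroup (Fin 2) F),
    Function.Surjective π ∧ π.ker ≤ Subgroup.center _ ∧ Odd (Nat.card π.ker) ∧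
      (T.subgroupOf (normalClosure (T : Set X))).map π = (GoodInvol.upperHom F).range := by
  classical
  haveI : Fact (Nat.Prime 2) := ⟨Nat.prime_two⟩
  set H := normalizer (T : Set X)
  set K := H.normalCore
  haveI : K.Normal := normalCore_normal _
  set E := normalClosure (T : Set X)
  set μ := QuotientGroup.mk' K
  obtain ⟨L, hLn, hLo, hL⟩ := SEMain.exists_bender SEMain.stmt (SEMain.se_map (normalCore_le _) hT.core_odd hT.se)
    (SEMain.core_map (normalCore_le _) le_rfl) (SEMain.pair_map (normalCore_le _) hT.core_odd hT.pair)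
  haveI := hLn
  haveI : IsSimpleGroup L := SEMain.isSimple_of_bender hL
  have hTL : ∀ t ∈ T, μ t ∈ L := by
    intro t ht
    rw [← QuotientGroup.eq_one_iff]
    by_contra hne
    have h2 : orderOf ((μ t : X ⧸ K) : (X ⧸ K) ⧸ L) = 2 := Invol.order_two_of_sq (by
      rw [← QuotientGroup.mk_mul, ← map_mul, hT.sq t ht, map_one, QuotientGroup.mk_one]) hne
    have h3 := orderOf_dvd_natCard ((μ t : X ⧸ K) : (X ⧸ K) ⧸ L)
    rw [h2, ← index_eq_card] at h3
    exact Nat.not_even_iff_odd.2 hLo (even_iff_two_dvd.2 h3)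
  have hEL : ∀ e ∈ E, μ e ∈ L := fun e he =>
    (normalClosure_le_normal (N := L.comap μ) fun t ht => hTL t ht) he
  let f : E →* L := (μ.comp E.subtype).codRestrict L fun e => hEL e e.2
  have hmkT : ∀ t ∈ T, μ t = 1 → t = 1 := fun t ht h => by
    by_contra hne
    exact Nat.not_even_iff_odd.2 hT.core_odd (Invol.even_of_invol_mem
      (Invol.order_two_of_sq (hT.sq t ht) hne) ((QuotientGroup.eq_one_iff t).1 h))
  haveI hrn : f.range.Normal := ⟨fun a ha l => by
    obtain ⟨⟨e, he⟩, rfl⟩ := ha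
    obtain ⟨x, hx⟩ := QuotientGroup.mk'_surjective K (l : X ⧸ K)
    refine ⟨⟨x * e * x⁻¹, normalClosure_normal.conj_mem e he x⟩, Subtype.ext ?_⟩
    show μ (x * e * x⁻¹) = (l : X ⧸ K) * μ e * (l : X ⧸ K)⁻¹
    rw [map_mul, map_mul, map_inv, hx]⟩
  have hfs : Function.Surjective f := by
    rcases hrn.eq_bot_or_eq_top with hb | ht
    · exfalso
      obtain ⟨s, -, hs⟩ : ∃ s, s ∈ (⊤ : Subgroup T) ∧ s ≠ 1 := by
        refine (bot_or_exists_ne_one (⊤ : Subgroup T)).resolve_left fun h => ?_
        have := hT.four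
        rw [← card_top (G := T), h, card_bot] at this
        omega
      have h1 : f ⟨s, subset_normalClosure s.2⟩ = 1 := mem_bot.1 (hb ▸ ⟨_, rfl⟩)
      exact hs (Subtype.ext (hmkT s s.2 (congrArg Subtype.val h1)))
    · exact MonoidHom.range_eq_top.1 ht
  have hker : ∀ e : E, f e = 1 → (e : X) ∈ K := fun e he =>
    (QuotientGroup.eq_one_iff _).1 (congrArg Subtype.val he)
  -- the image of `T` is a Sylow subgroup of `L`, so `L` is linear
  have hTidx : ¬ 2 ∣ (T.subgroupOf E).index := fun h =>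
    hT.index (h.trans (relIndex_dvd_index_of_le subset_normalClosure))
  set TE : Sylow 2 E := (hT.two.comap_of_injective E.subtype (subtype_injective E)).toSylow hTidx
  set P := TE.mapSurjective hfs
  have hPc : Nat.card P = Nat.card T := by
    refine (Nat.card_congr ?_).symm
    refine Equiv.ofBijective (fun t : T => (⟨f ⟨t, subset_normalClosure t.2⟩,
      ⟨_, t.2, rfl⟩⟩ : (P : Subgroup L))) ⟨fun a b hab => ?_, ?_⟩
    · refine Subtype.ext (eq_of_mul_inv_eq_one (hmkT _ (mul_mem a.2 (inv_mem b.2)) ?_))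
      have h : μ (a : X) = μ (b : X) := congrArg (fun y : (P : Subgroup L) => ((y : L) : X ⧸ K)) hab
      rw [map_mul, map_inv, h, mul_inv_cancel]
    · rintro ⟨y, e, he, rfl⟩
      exact ⟨⟨e, he⟩, rfl⟩
  have hcount : {x : L | x ∈ (P : Subgroup L) ∧ x * x = 1}.ncard = Nat.card T := by
    rw [← hPc, ← Nat.card_coe_set_eq]
    refine Nat.card_congr (Equiv.subtypeEquivRight fun x => ⟨fun h => h.1, fun h => ⟨h, ?_⟩⟩)
    obtain ⟨e, he, rfl⟩ := h
    rw [← map_mul, show e * e = 1 from Subtype.ext (hT.sq _ he), map_one]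
  have hpar : ∀ {Y : Type} [Group Y] {r e : ℕ}, GoodInvol.BenderParams Y r e → (L ≃* Y) → e = 1 := by
    intro Y _ r e hY g
    obtain ⟨h1, h2⟩ := (hY.congr g).sylow P
    rw [hPc, ← hcount, h2] at h1
    have h3 := Nat.pow_right_injective le_rfl h1
    have h4 := hY.two_le
    nlinarith
  rcases hL with ⟨F, i1, i2, ⟨n, hn, hF⟩, ⟨g⟩⟩ | ⟨F, i1, i2, m, hm, hF, ⟨g⟩⟩ | ⟨F, i1, i2, n, hn, hF, ⟨g⟩⟩
  · haveI : CharP F 2 := charP_of_card_eq_prime_pow hF
    obtain ⟨g2⟩ := SEMain.psl_equiv_sl (F := F)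
    let φ : L ≃* Matrix.SpecialLinearGroup (Fin 2) F := g.trans g2
    have hUc : Nat.card (GoodInvol.upperHom F).range = 2 ^ n := by
      rw [← Nat.card_congr (MonoidHom.ofInjective (f := GoodInvol.upperHom F) fun a b hab =>
        Multiplicative.toAdd.injective
          (congrFun (congrFun (congrArg Subtype.val hab) 0) 1)).toEquiv,
        Nat.card_congr Multiplicative.toAdd, Nat.card_eq_fintype_card, hF]
    set P2 := P.mapSurjective (f := φ.toMonoidHom) φ.surjective
    have hP2 : Nat.card P2 = 2 ^ n := by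
      rw [((GoodInvol.params_sl_two hn hF).sylow P2).1, one_mul]
    let U : Sylow 2 (Matrix.SpecialLinearGroup (Fin 2) F) := Sylow.ofCard (GoodInvol.upperHom F).range (by
      rw [hUc, ← hP2]; exact P2.card_eq_multiplicity)
    obtain ⟨c, hc⟩ := LESylow.exists_conj_eq P2 U
    refine ⟨F, i1, i2, inferInstance, ((MulAut.conj c).toMonoidHom.comp (φ.toMonoidHom.comp f)), ?_, ?_, ?_, ?_⟩
    · exact (MulAut.conj c).surjective.comp (φ.surjective.comp hfs)
    · intro e he
      rw [MonoidHom.mem_ker, MonoidHom.comp_apply, MonoidHom.comp_apply] at he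
      have hK := hker e (φ.injective ((MulAut.conj c).injective (by simpa using he)))
      exact mem_center_iff.2 fun y => Subtype.ext (hT.core_comm hK y.2).eq.symm
    · refine hT.core_odd.of_dvd_nat (card_dvd_of_injective
        (((E.subtype).comp (Subgroup.subtype _)).codRestrict K fun e => hker e.1 (φ.injective
          ((MulAut.conj c).injective (by simpa using e.2)))) fun a b hab => ?_)
      exact Subtype.ext (Subtype.ext (congrArg (fun z : K => (z : X)) hab))
    · rw [← map_map, ← map_map]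
      exact hc
  · exact absurd (hpar (GoodInvol.params_sz ⟨hm, hF⟩) (g.trans (Suzuki.minorEquiv ⟨hm, hF⟩).symm)) (by norm_num)
  · exact absurd (hpar (GoodInvol.params_psu hn hF) g) (by norm_num)

end TI

/-! ### The lifts -/

section Lift

variable {F : Type} [Field F]

/-- The Weyl matrix. -/
def weylSL [CharP F 2] : Matrix.SpecialLinearGroup (Fin 2) F :=
  ⟨!![0, 1; 1, 0], by simp [Matrix.det_fin_two, CharTwo.neg_eq]⟩

/-- The diagonal matrix. -/
def torSL : Fˣ →* Matrix.SpecialLinearGroup (Fin 2) F where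
  toFun t := ⟨!![(t : F), 0; 0, ((t⁻¹ : Fˣ) : F)], by simp [Matrix.det_fin_two]⟩
  map_one' := Subtype.ext (by ext i j; fin_cases i <;> fin_cases j <;> simp)
  map_mul' a b := Subtype.ext (by
    show !![((a * b : Fˣ) : F), 0; 0, (((a * b)⁻¹ : Fˣ) : F)] =
      !![(a : F), 0; 0, ((a⁻¹ : Fˣ) : F)] * !![(b : F), 0; 0, ((b⁻¹ : Fˣ) : F)]
    ext i j; fin_cases i <;> fin_cases j <;> simp [Matrix.mul_apply, Fin.sum_univ_two, mul_comm])

theorem torSL_val (t : Fˣ) : (torSL t : Matrix.SpecialLinearGroup (Fin 2) F).1 =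
    !![(t : F), 0; 0, ((t⁻¹ : Fˣ) : F)] := rfl

theorem upperHom_val (x : F) :
    (GoodInvol.upperHom F (Multiplicative.ofAdd x)).1 = !![1, x; 0, 1] := rfl

theorem weylSL_val [CharP F 2] : (weylSL : Matrix.SpecialLinearGroup (Fin 2) F).1 = !![0, 1; 1, 0] := rfl

theorem torSL_upper (t : Fˣ) (x : F) :
    torSL t * GoodInvol.upperHom F (Multiplicative.ofAdd x) =
      GoodInvol.upperHom F (Multiplicative.ofAdd ((t : F) * t * x)) * torSL t := by
  apply Subtype.ext
  show (torSL t).1 * _ = _ * (torSL t).1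
  rw [torSL_val, upperHom_val, upperHom_val]
  ext i j
  fin_cases i <;> fin_cases j <;> simp [Matrix.mul_apply, Fin.sum_univ_two]
  field_simp

theorem torSL_bruhat [CharP F 2] (t : Fˣ) :
    weylSL * GoodInvol.upperHom F (Multiplicative.ofAdd (t : F)⁻¹) * weylSL *
      GoodInvol.upperHom F (Multiplicative.ofAdd (t : F)) * weylSL *
      GoodInvol.upperHom F (Multiplicative.ofAdd (t : F)⁻¹) = torSL t := by
  apply Subtype.ext
  simp only [Matrix.SpecialLinearGroup.coe_mul, upperHom_val, weylSL_val, torSL_val]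
  have ht : (t : F) ≠ 0 := t.ne_zero
  ext i j
  fin_cases i <;> fin_cases j <;>
    simp [Matrix.mul_apply, Fin.sum_univ_two, ht, CharTwo.add_self_eq_zero]

theorem weylSL_mul_self [CharP F 2] : weylSL * weylSL = (1 : Matrix.SpecialLinearGroup (Fin 2) F) := by
  apply Subtype.ext
  simp only [Matrix.SpecialLinearGroup.coe_mul, weylSL_val, Matrix.SpecialLinearGroup.coe_one]
  ext i j
  fin_cases i <;> fin_cases j <;> simp [Matrix.mul_apply, Fin.sum_univ_two]

theorem closure_upper_weyl [CharP F 2] :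
    closure (((GoodInvol.upperHom F).range : Set (Matrix.SpecialLinearGroup (Fin 2) F)) ∪ {weylSL}) = ⊤ := by
  set S := closure (((GoodInvol.upperHom F).range : Set (Matrix.SpecialLinearGroup (Fin 2) F)) ∪ {weylSL})
  have hu : ∀ x : F, GoodInvol.upperHom F (Multiplicative.ofAdd x) ∈ S := fun x =>
    subset_closure (Or.inl ⟨_, rfl⟩)
  have hw : weylSL ∈ S := subset_closure (Or.inr rfl)
  have gen : ∀ M : Matrix.SpecialLinearGroup (Fin 2) F, M.1 1 0 ≠ 0 → M ∈ S := by
    intro M hc
    have hd : M.1 0 0 * M.1 1 1 - M.1 0 1 * M.1 1 0 = 1 := by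
      rw [← Matrix.det_fin_two]; exact M.2
    have e : M = GoodInvol.upperHom F (Multiplicative.ofAdd ((M.1 0 0 + 1) / M.1 1 0)) *
        (weylSL * GoodInvol.upperHom F (Multiplicative.ofAdd (M.1 1 0)) * weylSL) *
        GoodInvol.upperHom F (Multiplicative.ofAdd ((M.1 1 1 + 1) / M.1 1 0)) := by
      apply Subtype.ext
      simp only [Matrix.SpecialLinearGroup.coe_mul, upperHom_val, weylSL_val]
      have h2 : (2 : F) = 0 := CharTwo.two_eq_zero
      ext i j
      fin_cases i <;> fin_cases j <;>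
        simp only [Matrix.mul_apply, Fin.sum_univ_two, Fin.zero_eta, Fin.mk_one, Fin.isValue, Matrix.cons_val',
          Matrix.cons_val_zero, Matrix.cons_val_one, Matrix.cons_val_fin_one, Matrix.of_apply]
      · field_simp
        linear_combination (-M.1 1 0) * h2
      · field_simp
        linear_combination (-M.1 1 0 * (M.1 1 1 + M.1 0 0 + 2)) * h2 - M.1 1 0 * hd
      · field_simp
        ring
      · field_simp
        linear_combination (-M.1 1 0) * h2
    rw [e]
    exact mul_mem (mul_mem (hu _) (mul_mem (mul_mem hw (hu _)) hw)) (hu _)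
  refine eq_top_iff.2 fun M _ => ?_
  by_cases hc : M.1 1 0 = 0
  · have h : weylSL * M ∈ S := gen _ (by
      have hd : M.1 0 0 * M.1 1 1 - M.1 0 1 * M.1 1 0 = 1 := by
        rw [← Matrix.det_fin_two]; exact M.2
      intro h
      rw [Matrix.SpecialLinearGroup.coe_mul, weylSL_val] at h
      simp [Matrix.mul_apply, Fin.sum_univ_two] at h
      rw [h, hc] at hd
      simp at hd)
    have := mul_mem hw h
    rwa [← mul_assoc, weylSL_mul_self, one_mul] at this
  · exact gen M hc

end Lift

theorem TI.exists_root {T : Subgroup X} (hT : TI T) :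
    ∃ (F : Type) (_ : Field F) (_ : Fintype F) (_ : CharP F 2), Fintype.card F = Nat.card T ∧
      Nonempty (Root T F) := by
  classical
  haveI : Fact (Nat.Prime 2) := ⟨Nat.prime_two⟩
  obtain ⟨F, iF, iFF, iC, π, hπ, hcen, hodd, hTU⟩ := hT.exists_hom
  have uniq : ∀ a b : (normalClosure (T : Set X)), a * a = 1 → b * b = 1 → π a = π b → a = b := by
    intro a b ha hb he
    have hk : a⁻¹ * b ∈ π.ker := by rw [MonoidHom.mem_ker, map_mul, map_inv, he, inv_mul_cancel]
    have hk2 : a⁻¹ * b * (a⁻¹ * b) = 1 := by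
      have hc := mem_center_iff.1 (hcen hk) a
      calc a⁻¹ * b * (a⁻¹ * b) = a⁻¹ * (a * (a⁻¹ * b) * (a⁻¹ * b * a)) * a⁻¹ := by group
        _ = a⁻¹ * (b * b) * a⁻¹ := by rw [← hc, mul_inv_cancel_left]
        _ = (a * a)⁻¹ := by rw [hb]; group
        _ = 1 := by rw [ha, inv_one]
    by_contra hne
    exact Nat.not_even_iff_odd.2 hodd (Invol.even_of_invol_mem
      (Invol.order_two_of_sq hk2 fun h => hne (eq_of_inv_mul_eq_one h)) hk)
  have hu : ∀ x : F, ∃ t : (normalClosure (T : Set X)), (t : X) ∈ T ∧ π t = GoodInvol.upperHom F (Multiplicative.ofAdd x) := by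
    intro x
    have h : GoodInvol.upperHom F (Multiplicative.ofAdd x) ∈ (T.subgroupOf (normalClosure (T : Set X))).map π := hTU ▸ ⟨_, rfl⟩
    obtain ⟨t, ht, he⟩ := h
    exact ⟨t, ht, he⟩
  choose r hrT hrπ using hu
  have hsq : ∀ t : (normalClosure (T : Set X)), (t : X) ∈ T → t * t = 1 := fun t ht => Subtype.ext (hT.sq _ ht)
  have rinj : Function.Injective r := fun a b hab => by
    have h := hrπ b
    rw [← hab, hrπ a] at h
    exact congrFun (congrFun (congrArg Subtype.val h) 0) 1
  have rsurj : ∀ t : (normalClosure (T : Set X)), (t : X) ∈ T → ∃ a, r a = t := by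
    intro t ht
    obtain ⟨a, ha⟩ : π t ∈ (GoodInvol.upperHom F).range := hTU ▸ ⟨t, ht, rfl⟩
    refine ⟨Multiplicative.toAdd a, uniq _ _ (hsq _ (hrT _)) (hsq t ht) ?_⟩
    rw [hrπ, ← ha]; rfl
  have radd : ∀ a b, r (a + b) = r a * r b := fun a b =>
    uniq _ _ (hsq _ (hrT _)) (hsq _ (mul_mem (hrT a) (hrT b)))
      (by rw [map_mul, hrπ, hrπ, hrπ, ← map_mul, ← ofAdd_add])
  -- the Weyl involution
  obtain ⟨g, hg⟩ := hπ (weylSL : Matrix.SpecialLinearGroup (Fin 2) F)
  set W := g ^ Nat.card π.ker with hW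
  have hg2 : g * g ∈ π.ker := by rw [MonoidHom.mem_ker, map_mul, hg, weylSL_mul_self]
  have hWW : W * W = 1 := by
    rw [hW, ← pow_add, ← two_mul, pow_mul, pow_two]
    exact congrArg Subtype.val (pow_card_eq_one' (G := π.ker) (x := ⟨g * g, hg2⟩))
  have hWπ : π W = weylSL := by
    obtain ⟨m, hm⟩ := hodd
    rw [hW, hm, map_pow, hg, pow_succ, pow_mul, pow_two, weylSL_mul_self, one_pow, one_mul]
  let hE : F → (normalClosure (T : Set X)) := fun x => W * r x⁻¹ * W * r x * W * r x⁻¹
  have hEπ : ∀ t : Fˣ, π (hE t) = torSL t := fun t => by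
    simp only [hE, map_mul, hWπ, hrπ]
    exact torSL_bruhat t
  have hconj : ∀ t x : F, t ≠ 0 → hE t * r x = r (t * t * x) * hE t := by
    intro t x ht
    rw [← mul_inv_eq_iff_eq_mul]
    refine uniq _ _ ?_ (hsq _ (hrT _)) ?_
    · rw [show hE t * r x * (hE t)⁻¹ * (hE t * r x * (hE t)⁻¹) = hE t * (r x * r x) * (hE t)⁻¹ by group,
        hsq _ (hrT x)]
      group
    · rw [map_mul, map_mul, map_inv, show π (hE t) = torSL (Units.mk0 t ht) from hEπ (Units.mk0 t ht), hrπ,
        hrπ, mul_inv_eq_iff_eq_mul]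
      exact torSL_upper (Units.mk0 t ht) x
  obtain ⟨γ, hγ⟩ := IsCyclic.exists_generator (α := Fˣ)
  have hform : ∀ t : Fˣ, ∃ (n : ℤ) (k : (normalClosure (T : Set X))), k ∈ π.ker ∧ hE t = hE γ ^ n * k := by
    intro t
    obtain ⟨n, rfl⟩ := mem_zpowers_iff.1 (hγ t)
    refine ⟨n, (hE γ ^ n)⁻¹ * hE ((γ ^ n : Fˣ) : F), ?_, by group⟩
    rw [MonoidHom.mem_ker, map_mul, map_inv, map_zpow, hEπ, hEπ, map_zpow, inv_mul_cancel]
  have hcomm : ∀ s t : Fˣ, Commute (hE s) (hE t) := by
    intro s t
    obtain ⟨m, k, hk, e1⟩ := hform s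
    obtain ⟨n, l, hl, e2⟩ := hform t
    have hk' : ∀ y, Commute k y := fun y => (mem_center_iff.1 (hcen hk) y).symm
    have hl' : ∀ y, Commute l y := fun y => (mem_center_iff.1 (hcen hl) y).symm
    rw [e1, e2]
    exact ((Commute.zpow_zpow_self _ m n).mul_right (hl' _).symm).mul_left
      ((hk' _).mul_right (hl' _).symm)
  -- generation
  have htop : closure ((T : Set X) ∪ {(W : X)}) = (normalClosure (T : Set X)) := by
    set S := closure ((T : Set X) ∪ {(W : X)})
    have hSE : S ≤ (normalClosure (T : Set X)) := (closure_le _).2 (by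
      rintro y (hy | rfl)
      exacts [subset_normalClosure hy, W.2])
    have hr : ∀ a, (r a : X) ∈ S := fun a => subset_closure (Or.inl (hrT a))
    have hsur : ∀ M : Matrix.SpecialLinearGroup (Fin 2) F, ∃ e : (normalClosure (T : Set X)), (e : X) ∈ S ∧ π e = M := by
      intro M
      have hM : M ∈ closure (((GoodInvol.upperHom F).range : Set (Matrix.SpecialLinearGroup (Fin 2) F)) ∪
          {weylSL}) := by rw [closure_upper_weyl]; exact mem_top _
      have hsub : closure (((GoodInvol.upperHom F).range : Set (Matrix.SpecialLinearGroup (Fin 2) F)) ∪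
          {weylSL}) ≤ (S.comap (normalClosure (T : Set X)).subtype).map π := (closure_le _).2 (by
        rintro y (⟨a, rfl⟩ | rfl)
        · exact ⟨r (Multiplicative.toAdd a), hr _, hrπ _⟩
        · exact ⟨W, subset_closure (Or.inr rfl), hWπ⟩)
      obtain ⟨e, he, rfl⟩ := hsub hM
      exact ⟨e, he, rfl⟩
    refine le_antisymm hSE ((closure_le _).2 fun y hy => ?_)
    obtain ⟨t, ht, hty⟩ := Group.mem_conjugatesOfSet_iff.1 hy
    obtain ⟨c, rfl⟩ := isConj_iff.1 hty
    let z : (normalClosure (T : Set X)) := ⟨c * t * c⁻¹, normalClosure_normal.conj_mem t (subset_normalClosure ht) c⟩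
    have hzz : z * z = 1 := Subtype.ext (by
      show c * t * c⁻¹ * (c * t * c⁻¹) = 1
      rw [show c * t * c⁻¹ * (c * t * c⁻¹) = c * (t * t) * c⁻¹ by group, hT.sq t ht]; group)
    have hp : IsPGroup 2 (zpowers (π z)) := fun ⟨g, n, hn⟩ => ⟨1, Subtype.ext (by
      show g ^ 2 ^ 1 = 1
      subst hn
      change (π z ^ n) ^ 2 ^ 1 = 1
      rw [pow_one, ← zpow_natCast, ← zpow_mul, mul_comm, zpow_mul, zpow_natCast, pow_two, ← map_mul, hzz,
        map_one, one_zpow])⟩
    have hU : IsPGroup 2 ↥(GoodInvol.upperHom F).range := by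
      rw [← hTU]; exact (hT.two.comap_of_injective (normalClosure (T : Set X)).subtype (subtype_injective (normalClosure (T : Set X)))).map π
    have hUi : ¬ 2 ∣ ((GoodInvol.upperHom F).range).index := fun h => by
      rw [← hTU] at h
      exact hT.index ((h.trans (index_map_dvd _ hπ)).trans
        (relIndex_dvd_index_of_le subset_normalClosure))
    obtain ⟨M, hM⟩ := LESylow.exists_conj_le hp (hU.toSylow hUi)
    obtain ⟨e, heS, rfl⟩ := hsur M
    obtain ⟨a, ha⟩ : π e * π z * (π e)⁻¹ ∈ (GoodInvol.upperHom F).range :=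
      hM ⟨π z, mem_zpowers _, rfl⟩
    have hez : e * z * e⁻¹ = r (Multiplicative.toAdd a) := by
      refine uniq _ _ ?_ (hsq _ (hrT _)) ?_
      · rw [show e * z * e⁻¹ * (e * z * e⁻¹) = e * (z * z) * e⁻¹ by group, hzz]; group
      · rw [map_mul, map_mul, map_inv, ← ha, hrπ]; rfl
    show (z : X) ∈ S
    rw [show z = e⁻¹ * r (Multiplicative.toAdd a) * e by rw [← hez]; group]
    exact mul_mem (mul_mem (inv_mem heS) (hr _)) heS
  refine ⟨F, iF, iFF, iC, ?_, ⟨
    { rt := fun a => (r a : X)
      w := W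
      rt_add := fun a b => congrArg Subtype.val (radd a b)
      rt_inj := fun a b h => rinj (Subtype.ext h)
      rt_mem := hrT
      rt_surj := fun t ht => (rsurj ⟨t, subset_normalClosure ht⟩ ht).imp fun a h => congrArg Subtype.val h
      ww := congrArg Subtype.val hWW
      closure_eq := htop
      comm := fun x y hx hy => (hcomm (Units.mk0 x hx) (Units.mk0 y hy)).map (normalClosure (T : Set X)).subtype
      conj := fun t x ht => congrArg Subtype.val (hconj t x ht)
      odd := fun x hx => ?_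
      one_w := ?_ }⟩⟩
  · rw [← Nat.card_eq_fintype_card]
    exact Nat.card_congr (Equiv.ofBijective (fun a : F => (⟨r a, hrT a⟩ : T))
      ⟨fun a b h => rinj (Subtype.ext (congrArg (fun y : T => (y : X)) h)),
        fun t => (rsurj ⟨t, subset_normalClosure t.2⟩ t.2).imp fun a h => Subtype.ext (congrArg (fun y : normalClosure (T : Set X) => (y : X)) h)⟩)
  · refine ⟨(Fintype.card F - 1) * Nat.card π.ker, Odd.mul ?_ hodd, ?_⟩
    · obtain ⟨n, -, hn⟩ := FiniteField.card F 2
      rw [hn]
      exact Nat.Even.sub_odd (Nat.one_le_pow _ _ two_pos) (Nat.even_pow.2 ⟨even_two, n.ne_zero⟩) odd_one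
    · have h1 : hE x ^ (Fintype.card F - 1) ∈ π.ker := by
        rw [MonoidHom.mem_ker, map_pow, show π (hE x) = torSL (Units.mk0 x hx) from hEπ (Units.mk0 x hx),
          ← map_pow]
        rw [show (Units.mk0 x hx) ^ (Fintype.card F - 1) = 1 from Units.ext (by
          simpa using FiniteField.pow_card_sub_one_eq_one x hx), map_one]
      rw [pow_mul]
      exact congrArg (fun y : π.ker => ((y : (normalClosure (T : Set X))) : X)) (pow_card_eq_one' (G := π.ker) (x := ⟨_, h1⟩))
  · have h1 : W * r 1 * W * r 1 * W * r 1 ∈ π.ker := by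
      have h := hEπ 1
      simp only [hE, Units.val_one, inv_one, map_one] at h
      rw [MonoidHom.mem_ker]
      exact h
    exact (show Commute (W * r 1 * W * r 1 * W * r 1) W from (mem_center_iff.1 (hcen h1) W).symm).map (normalClosure (T : Set X)).subtype

end Cfsg.Agent.ABRec
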