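import Cfsg.Agent.Lib.ABRec.Side
import Cfsg.Prelude.Def_Transfer
import Cfsg.Prelude.Def_Classical
import Mathlib.LinearAlgebra.Matrix.SpecialLinearGroup

/-!
# Sylow 2-subgroups with two maximal elementary abelian subgroups: the interface

`Cfg`: the Sylow subgroup `S` is `A B` with `A`, `B` its only maximal elementary abelian subgroups. A side is `Open` if
its normaliser moves `A ⊓ B`; then `SideHyp.natural` describes `A` modulo `sideC S A`. `Two` is the configuration
of type `L₃` (both `sideC` trivial) or `PSp₄` (both of order `q`); `Cent` gives the centralisers of involutions in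
a simple group of that kind. The statements of the pieces follow: plan in tools/scope/ABGROUPS_helper6.md.
-/

set_option autoImplicit false
set_option linter.style.haveILetI false
set_option linter.unusedSectionVars false

namespace Cfsg.Agent.ABRec

open Subgroup

universe u

variable {G : Type u} [Group G]

/-- The two maximal elementary abelian subgroups of a Sylow 2-subgroup. -/
structure Cfg (S : Sylow 2 G) (A B : Subgroup G) : Prop where
  A_le : A ≤ S
  B_le : B ≤ S
  A_ea : Cfsg.IsElementaryAbelian 2 A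
  B_ea : Cfsg.IsElementaryAbelian 2 B
  notAB : ¬ A ≤ B
  notBA : ¬ B ≤ A
  only : ∀ E : Subgroup G, E ≤ S → Cfsg.IsElementaryAbelian 2 E → E ≤ A ∨ E ≤ B
  prod : ∀ s ∈ S, ∃ a ∈ A, ∃ b ∈ B, s = a * b

/-- The normaliser of `A` moves `A ⊓ B`. -/
def Open (A B : Subgroup G) : Prop :=
  ∃ n ∈ normalizer (A : Set G), ∃ z ∈ A ⊓ B, n * z * n⁻¹ ∉ B

/-- Both sides open, common index `q`, nothing centralised by both, and the type. -/
structure Two (S : Sylow 2 G) (A B : Subgroup G) (q : ℕ) : Prop where
  cfg : Cfg S A B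
  openA : Open A B
  openB : Open B A
  four_le : 4 ≤ q
  card_S : Nat.card (S : Subgroup G) = Nat.card A * q
  card_A : Nat.card A = Nat.card ↥(A ⊓ B) * q
  card_B : Nat.card B = Nat.card A
  type : (sideC (S : Subgroup G) A = ⊥ ∧ sideC (S : Subgroup G) B = ⊥ ∧ Nat.card ↥(A ⊓ B) = q) ∨
    (Nat.card (sideC (S : Subgroup G) A) = q ∧ Nat.card (sideC (S : Subgroup G) B) = q ∧
      sideC (S : Subgroup G) A ⊓ sideC (S : Subgroup G) B = ⊥ ∧
      sideC (S : Subgroup G) A ⊔ sideC (S : Subgroup G) B = A ⊓ B ∧ Nat.card ↥(A ⊓ B) = q * q)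

/-- The centralisers of involutions. -/
structure Cent (S : Sylow 2 G) (A B : Subgroup G) : Prop where
  mixed : ∀ z ∈ A ⊓ B, z ∉ sideC (S : Subgroup G) A → z ∉ sideC (S : Subgroup G) B →
    centralizer ({z} : Set G) ≤ normalizer ((S : Subgroup G) : Set G)
  rootA : ∀ z ∈ sideC (S : Subgroup G) A, z ≠ 1 → centralizer ({z} : Set G) ≤ normalizer (A : Set G)
  rootB : ∀ z ∈ sideC (S : Subgroup G) B, z ≠ 1 → centralizer ({z} : Set G) ≤ normalizer (B : Set G)
  selfA : centralizer (A : Set G) = A
  selfB : centralizer (B : Set G) = B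

/-- The facts that turn an open side into a `SideHyp`. -/
def SideStmt : Prop :=
  ∀ (G : Type u) [Group G] [Finite G] (S : Sylow 2 G) (A B : Subgroup G), Cfg S A B → Open A B →
    4 * Nat.card A ≤ Nat.card (S : Subgroup G) → SideHyp (S : Subgroup G) A (A ⊓ B)

/-- The type, when nothing is centralised by both sides. -/
def TypeStmt : Prop :=
  ∀ (G : Type u) [Group G] [Finite G] (S : Sylow 2 G) (A B : Subgroup G), Cfg S A B → Open A B → Open B A →
    4 * Nat.card A ≤ Nat.card (S : Subgroup G) → sideC (S : Subgroup G) A ⊓ sideC (S : Subgroup G) B = ⊥ →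
    ∃ q, Two S A B q

/-- A closed side: the other subgroup is a Sylow subgroup of its normal closure. -/
def ClosedStmt : Prop :=
  ∀ (G : Type u) [Group G] [Finite G] (S : Sylow 2 G) (A B : Subgroup G), Cfg S A B → ¬ Open A B →
    ∃ P : Sylow 2 ↥(normalClosure (B : Set G)),
      (P : Subgroup ↥(normalClosure (B : Set G))).map (normalClosure (B : Set G)).subtype = B

/-- Centralisers of involutions in the simple configuration. -/
def CentStmt : Prop :=
  ∀ (G : Type u) [Group G] [Finite G] [IsSimpleGroup G] (S : Sylow 2 G) (A B : Subgroup G) (q : ℕ),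
    Two S A B q → Cent S A B

/-- Type `L₃`. -/
def PlaneStmt : Prop :=
  ∀ (G : Type u) [Group G] [Finite G] [IsSimpleGroup G] (S : Sylow 2 G) (A B : Subgroup G) (q : ℕ),
    Two S A B q → Cent S A B → sideC (S : Subgroup G) A = ⊥ →
    ∃ (F : Type) (_ : Field F) (_ : Fintype F), Fintype.card F = q ∧
      Nonempty (G ≃* Matrix.ProjectiveSpecialLinearGroup (Fin 3) F)

/-- Type `PSp₄`. -/
def QuadStmt : Prop :=
  ∀ (G : Type u) [Group G] [Finite G] [IsSimpleGroup G] (S : Sylow 2 G) (A B : Subgroup G) (q : ℕ),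
    Two S A B q → Cent S A B → sideC (S : Subgroup G) A ≠ ⊥ →
    ∃ (F : Type) (_ : Field F) (_ : Fintype F), Fintype.card F = q ∧ Nonempty (G ≃* Cfsg.PSp 2 F)

end Cfsg.Agent.ABRec
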