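import Cfsg.Agent.Lib.ABRec.Common
import Cfsg.Agent.Lib.ABRec.Defs
import Mathlib.GroupTheory.Sylow

/-!
The local facts: fusion, the side of an open subgroup, and the type when nothing is centralised by both sides.
-/

set_option autoImplicit false
set_option linter.style.haveILetI false
set_option linter.unusedSectionVars false
set_option linter.unusedVariables false

namespace Cfsg.Agent.ABRec

open Subgroup Cfsg.Agent.GoldStruct

universe u

variable {G : Type u} [Group G] [Finite G] {S : Sylow 2 G} {A B : Subgroup G}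

namespace Cfg

variable (hc : Cfg S A B)
include hc

theorem sqA {a : G} (ha : a ∈ A) : a * a = 1 := by rw [← pow_two]; exact hc.A_ea.2 a ha

theorem sqB {b : G} (hb : b ∈ B) : b * b = 1 := by rw [← pow_two]; exact hc.B_ea.2 b hb

theorem twoEA : TwoEA S A B where
  leA := hc.A_le
  leB := hc.B_le
  sqA _ ha := hc.sqA ha
  sqB _ hb := hc.sqB hb
  prod s hs := by
    obtain ⟨a, ha, b, hb, e⟩ := hc.prod s hs
    exact ⟨a, ha, b, hb, e.symm⟩
  fix a ha b hb hab := by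
    have hcomm : ∀ x ∈ ({a, b} : Set G), ∀ y ∈ ({a, b} : Set G), x * y = y * x := by
      rintro x (rfl | rfl) y (rfl | rfl) <;> first | rfl | exact hab | exact hab.symm
    have hea : Cfsg.IsElementaryAbelian 2 (closure ({a, b} : Set G)) := by
      refine ⟨isMulCommutative_closure hcomm, fun x hx => ?_⟩
      induction hx using closure_induction with
      | mem x hx =>
        rcases hx with rfl | rfl
        exacts [hc.A_ea.2 _ ha, hc.B_ea.2 _ hb]
      | one => exact one_pow 2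
      | mul x y hx' hy' hx hy =>
        haveI := isMulCommutative_closure (k := ({a, b} : Set G)) hcomm
        have e : x * y = y * x :=
          congrArg Subtype.val (mul_comm' (⟨x, hx'⟩ : closure ({a, b} : Set G)) ⟨y, hy'⟩)
        rw [(show Commute x y from e).mul_pow, hx, hy, one_mul]
      | inv x _ hx => rw [inv_pow, hx, inv_one]
    have hle : closure ({a, b} : Set G) ≤ (S : Subgroup G) := (closure_le _).2 (by
      rintro x (rfl | rfl)
      exacts [hc.A_le ha, hc.B_le hb])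
    rcases hc.only _ hle hea with h | h
    · exact Or.inr (h (subset_closure (Or.inr rfl)))
    · exact Or.inl (h (subset_closure (Or.inl rfl)))
  exA := Set.not_subset.1 hc.notAB
  exB := Set.not_subset.1 hc.notBA

theorem symm : Cfg S B A where
  A_le := hc.B_le
  B_le := hc.A_le
  A_ea := hc.B_ea
  B_ea := hc.A_ea
  notAB := hc.notBA
  notBA := hc.notAB
  only E h1 h2 := (hc.only E h1 h2).symm
  prod s hs := by
    obtain ⟨a, ha, b, hb, e⟩ := hc.prod s⁻¹ (inv_mem hs)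
    exact ⟨b⁻¹, inv_mem hb, a⁻¹, inv_mem ha, by rw [← _root_.mul_inv_rev, ← e, inv_inv]⟩

theorem open_iff : Open A B ↔ ∃ x ∈ normalizer (A : Set G), ∃ z ∈ A ⊓ B, x * z * x⁻¹ ∉ A ⊓ B :=
  ⟨fun ⟨n, hn, z, hz, h⟩ => ⟨n, hn, z, hz, fun h' => h h'.2⟩,
    fun ⟨n, hn, z, hz, h⟩ => ⟨n, hn, z, hz, fun h' => h ⟨(mem_normalizer_iff.1 hn z).1 hz.1, h'⟩⟩⟩

theorem four_relIndex (h4 : 4 * Nat.card A ≤ Nat.card (S : Subgroup G)) :
    4 ≤ A.relIndex (S : Subgroup G) := by
  have e := relIndex_mul_relIndex ⊥ A (S : Subgroup G) bot_le hc.A_le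
  rw [relIndex_bot_left, relIndex_bot_left] at e
  rw [← e, mul_comm] at h4
  exact Nat.le_of_mul_le_mul_left h4 Nat.card_pos

theorem card_S_eq : Nat.card (S : Subgroup G) = Nat.card A * A.relIndex (S : Subgroup G) := by
  have e := relIndex_mul_relIndex ⊥ A (S : Subgroup G) bot_le hc.A_le
  rwa [relIndex_bot_left, relIndex_bot_left, eq_comm] at e

end Cfg

/-- The facts that turn an open side into a `SideHyp`. -/
theorem sideStmt : SideStmt.{u} := fun G _ _ S A B hc ho h4 =>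
  hc.twoEA.sideHyp (hc.four_relIndex h4) (hc.open_iff.1 ho)

namespace TwoEA

variable (hT : TwoEA S A B)
include hT

/-- The normaliser of the Sylow subgroup normalises `A`. -/
theorem normalizer_le : normalizer ((S : Subgroup G) : Set G) ≤ normalizer (A : Set G) := fun n hn =>
  (hT.conj_or hn).elim (fun h => hT.mem_normalizer_of_map h) fun h => absurd h (hT.not_conj n)

/-- Fusion in `A ⊓ B` happens in the normaliser of the Sylow subgroup. -/
theorem conj_in_normalizer_sylow {z g : G} (hz : z ∈ A ⊓ B) (hg : g * z * g⁻¹ ∈ A ⊓ B) :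
    ∃ n ∈ normalizer ((S : Subgroup G) : Set G), n * z * n⁻¹ = g * z * g⁻¹ := by
  haveI : Fact (Nat.Prime 2) := ⟨Nat.prime_two⟩
  have hcen : ∀ w ∈ A ⊓ B, w ∈ centralizer ((S : Subgroup G) : Set G) := fun w hw =>
    mem_centralizer_iff.2 fun s hs => (hT.central hw hs).eq
  obtain ⟨n, hn, e⟩ := S.conj_eq_normalizer_conj_of_mem_centralizer z g⁻¹ (hcen z hz)
    (by rw [inv_inv]; exact hcen _ hg)
  rw [inv_inv] at e
  exact ⟨n⁻¹, inv_mem hn, by rw [inv_inv, e]⟩

/-- A conjugate in `A` of an element fixed by the closure on the side of `A` is fixed as well. -/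
theorem conj_sideC (hA : SideHyp (S : Subgroup G) A (A ⊓ B)) {c g : G}
    (hc : c ∈ sideC (S : Subgroup G) A) (hg : g * c * g⁻¹ ∈ A) : g * c * g⁻¹ ∈ sideC (S : Subgroup G) A := by
  obtain ⟨x, hx, e⟩ := hT.conj_in_normalizer hg (g := g⁻¹) (by
    rw [show g⁻¹ * (g * c * g⁻¹) * g⁻¹⁻¹ = c by group]; exact hA.sideC_le hc)
  rw [show g⁻¹ * (g * c * g⁻¹) * g⁻¹⁻¹ = c by group] at e
  have := sideC_conj (inv_mem hx) hc
  generalize g * c * g⁻¹ = d at e ⊢
  rwa [show x⁻¹ * c * x⁻¹⁻¹ = d by rw [← e]; group] at this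

/-- The common fixed points of the two closures are strongly closed. -/
theorem common_closed (hA : SideHyp (S : Subgroup G) A (A ⊓ B)) (hB : SideHyp (S : Subgroup G) B (A ⊓ B)) :
    SC S (sideC (S : Subgroup G) A ⊓ sideC (S : Subgroup G) B) := by
  have hnorm : ∀ n ∈ normalizer ((S : Subgroup G) : Set G),
      ∀ c ∈ sideC (S : Subgroup G) A ⊓ sideC (S : Subgroup G) B,
      n * c * n⁻¹ ∈ sideC (S : Subgroup G) A ⊓ sideC (S : Subgroup G) B := fun n hn c hc =>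
    ⟨sideC_conj (hT.normalizer_le hn) hc.1, sideC_conj (hT.symm.normalizer_le hn) hc.2⟩
  refine ⟨fun a ha b hb => hT.comm_left (hA.sideC_le ha.1).1 (hA.sideC_le hb.1).1,
    inf_le_left.trans ((hA.sideC_le).trans (inf_le_left.trans hT.leA)), fun c hc g hg => ?_⟩
  have hcc : g * c * g⁻¹ * (g * c * g⁻¹) = 1 := by
    rw [show g * c * g⁻¹ * (g * c * g⁻¹) = g * (c * c) * g⁻¹ by group, hT.sqA c (hA.sideC_le hc.1).1]; group
  have hin : g * c * g⁻¹ ∈ A ⊓ B := by
    rcases hT.mem_or hg hcc with h | h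
    · exact hA.sideC_le (hT.conj_sideC hA hc.1 h)
    · exact hB.sideC_le (hT.symm.conj_sideC (by rwa [inf_comm]) hc.2 h)
  obtain ⟨n, hn, e⟩ := hT.conj_in_normalizer_sylow (hA.sideC_le hc.1) hin
  rw [← e]
  exact hnorm n hn c hc

/-- The frame of an open side when both are open. -/
theorem exists_frame (hA : SideHyp (S : Subgroup G) A (A ⊓ B)) (hB : SideHyp (S : Subgroup G) B (A ⊓ B)) :
    ∃ (F : Type) (_ : Field F) (_ : Fintype F) (_ : CharP F 2),
      Fintype.card F = A.relIndex (S : Subgroup G) ∧ Nonempty (Frame (S : Subgroup G) A (A ⊓ B) F) :=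
  hA.exists_frame (le_of_eq (eq_of_both hA hB hT.sup_eq rfl).1.symm)

/-- The fixed points of the other side are trivial or as large as the field, when nothing is fixed by both. -/
theorem card_sideC (hA : SideHyp (S : Subgroup G) A (A ⊓ B)) (hB : SideHyp (S : Subgroup G) B (A ⊓ B))
    (h0 : sideC (S : Subgroup G) A ⊓ sideC (S : Subgroup G) B = ⊥) :
    Nat.card (sideC (S : Subgroup G) B) = 1 ∨
      Nat.card (sideC (S : Subgroup G) B) = A.relIndex (S : Subgroup G) := by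
  classical
  obtain ⟨F, i1, i2, i3, hF, ⟨f⟩⟩ := hT.exists_frame hA hB
  have hmemA : ∀ c ∈ sideC (S : Subgroup G) B, c ∈ A := fun c hc => (hB.sideC_le hc).1
  let g : sideC (S : Subgroup G) B → F := fun c => (f.ι ⟨c, hmemA c c.2⟩).1
  have hg : Function.Injective g := by
    intro c d hcd
    have hz : ∀ e ∈ sideC (S : Subgroup G) B, ∀ he : e ∈ A, (f.ι ⟨e, he⟩).2 = 0 := fun e he heA =>
      (f.mem_Z ⟨e, heA⟩).1 (hB.sideC_le he)
    have e : f.ι (⟨(c : G), hmemA _ c.2⟩ * ⟨(d : G), hmemA _ d.2⟩) = 0 := by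
      rw [f.ι_mul]
      refine Prod.ext ?_ ?_
      · show g c + g d = 0
        rw [hcd, CharTwo.add_self_eq_zero]
      · show (f.ι ⟨(c : G), _⟩).2 + (f.ι ⟨(d : G), _⟩).2 = 0
        rw [hz _ c.2, hz _ d.2, add_zero]
    have h1 : (c : G) * d ∈ sideC (S : Subgroup G) A ⊓ sideC (S : Subgroup G) B :=
      ⟨(f.ι_zero _).1 e, mul_mem c.2 d.2⟩
    rw [h0, mem_bot] at h1
    refine Subtype.ext ?_
    rw [mul_eq_one_iff_eq_inv.1 h1, inv_eq_of_mul_eq_one_right (hT.sqA _ (hmemA _ d.2))]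
  have hle : Nat.card (sideC (S : Subgroup G) B) ≤ A.relIndex (S : Subgroup G) := by
    rw [← hF, ← Nat.card_eq_fintype_card]
    exact Nat.card_le_card_of_injective g hg
  by_cases hbot : Nat.card (sideC (S : Subgroup G) B) = 1
  · exact Or.inl hbot
  refine Or.inr (le_antisymm hle ?_)
  obtain ⟨c, hc, hc1⟩ : ∃ c ∈ sideC (S : Subgroup G) B, c ≠ 1 := by
    by_contra hn
    push Not at hn
    exact hbot (card_eq_one.2 (eq_bot_iff.2 fun x hx => mem_bot.2 (hn x hx)))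
  have hgone : g 1 = 0 := congrArg Prod.fst f.ι_one
  have hgc : g ⟨c, hc⟩ ≠ 0 := fun e => hc1 (congrArg Subtype.val (hg (e.trans hgone.symm)))
  rw [← hF, ← Nat.card_eq_fintype_card]
  refine Nat.card_le_card_of_surjective g fun y => ?_
  by_cases hy : y = 0
  · exact ⟨1, hgone.trans hy.symm⟩
  let t : Fˣ := Units.mk0 (y * (g ⟨c, hc⟩)⁻¹) (mul_ne_zero hy (inv_ne_zero hgc))
  have hτB : f.τ t * c * (f.τ t)⁻¹ ∈ sideC (S : Subgroup G) B :=
    sideC_conj (hT.symm.normalizer_le (f.τ_norm t)) hc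
  refine ⟨⟨_, hτB⟩, ?_⟩
  show (f.ι ⟨_, _⟩).1 = y
  rw [f.τ_act t ⟨c, hmemA c hc⟩ ⟨_, hmemA _ hτB⟩ rfl]
  show (t : F) * g ⟨c, hc⟩ = y
  rw [Units.val_mk0, inv_mul_cancel_right₀ hgc]

/-- The fixed points of the other side are generated by commutators. -/
theorem sideC_le_comm (hA : SideHyp (S : Subgroup G) A (A ⊓ B)) (hB : SideHyp (S : Subgroup G) B (A ⊓ B))
    (h0 : sideC (S : Subgroup G) A ⊓ sideC (S : Subgroup G) B = ⊥) :
    (∀ z ∈ A ⊓ B, ∃ d ∈ closure {x | ∃ a ∈ A, ∃ b ∈ B, x = a * b * a⁻¹ * b⁻¹}, d * z ∈ sideC (S : Subgroup G) A) ∧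
      sideC (S : Subgroup G) B ≤ closure {x | ∃ a ∈ A, ∃ b ∈ B, x = a * b * a⁻¹ * b⁻¹} := by
  classical
  obtain ⟨F, i1, i2, i3, hF, ⟨f⟩⟩ := hT.exists_frame hA hB
  set D := closure {x | ∃ a ∈ A, ∃ b ∈ B, x = a * b * a⁻¹ * b⁻¹}
  have hDA : D ≤ A := (closure_le _).2 (by
    rintro _ ⟨a, ha, b, hb, rfl⟩
    rw [show a * b * a⁻¹ * b⁻¹ = a * (b * a⁻¹ * b⁻¹) by group]
    exact mul_mem ha ((mem_normalizer_iff.1 (hT.normA (hT.leB hb)) _).1 (inv_mem ha)))
  have h1 : ∀ z ∈ A ⊓ B, ∃ d ∈ D, d * z ∈ sideC (S : Subgroup G) A := by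
    intro z hz
    obtain ⟨a, ha⟩ := f.surj (0, 1)
    set x := (f.ι ⟨z, hz.1⟩).1 with hx
    obtain ⟨a', ha', b, hb, hrx⟩ := hT.prod _ (f.r_mem x)
    have hbA : b * a * b⁻¹ ∈ A := (mem_normalizer_iff.1 (hT.normA (hT.leB hb)) a).1 a.2
    have e : f.r x * a * (f.r x)⁻¹ = b * a * b⁻¹ := by
      rw [← hrx, show a' * b * a * (a' * b)⁻¹ = a' * (b * a * b⁻¹) * a'⁻¹ by group,
        hT.comm_left ha' hbA, mul_inv_cancel_right]
    refine ⟨b * a * b⁻¹ * (a : G)⁻¹, ?_, ?_⟩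
    · rw [show b * (a : G) * b⁻¹ * (a : G)⁻¹ = ((a : G) * b * (a : G)⁻¹ * b⁻¹)⁻¹ by group]
      exact inv_mem (subset_closure ⟨a, a.2, b, hb, rfl⟩)
    · refine (f.ι_zero ((⟨_, hbA⟩ * a⁻¹) * ⟨z, hz.1⟩)).1 ?_
      have hinv : a⁻¹ = a := Subtype.ext (inv_eq_of_mul_eq_one_right (hT.sqA _ a.2))
      rw [f.ι_mul, f.ι_mul, hinv, f.r_act x a ⟨_, hbA⟩ e.symm, ha]
      refine Prod.ext ?_ ?_
      · show 0 + x * 1 + 0 + (f.ι ⟨z, hz.1⟩).1 = 0
        rw [mul_one, zero_add, add_zero, ← hx, CharTwo.add_self_eq_zero]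
      · show (1 : F) + 1 + (f.ι ⟨z, hz.1⟩).2 = 0
        rw [CharTwo.add_self_eq_zero, zero_add]
        exact (f.mem_Z ⟨z, hz.1⟩).1 hz
  refine ⟨h1, ?_⟩
  obtain ⟨t, ht⟩ : ∃ t : Fˣ, t ≠ 1 := by
    have : 2 < Fintype.card F := by rw [hF]; have := hA.four; omega
    haveI : Nontrivial Fˣ := Fintype.one_lt_card_iff_nontrivial.1 (by rw [Fintype.card_units]; omega)
    exact _root_.exists_ne 1
  set n := f.τ t
  have hnA : n ∈ normalizer (A : Set G) := f.τ_mem t
  have hnB : n ∈ normalizer (B : Set G) := hT.symm.normalizer_le (f.τ_norm t)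
  have hDn : ∀ d ∈ D, n * d * n⁻¹ ∈ D := by
    intro d hd
    induction hd using closure_induction with
    | mem y hy =>
      obtain ⟨a, ha, b, hb, rfl⟩ := hy
      exact subset_closure ⟨_, (mem_normalizer_iff.1 hnA a).1 ha, _, (mem_normalizer_iff.1 hnB b).1 hb, by group⟩
    | one => simp
    | mul a b _ _ iha ihb =>
      rw [show n * (a * b) * n⁻¹ = n * a * n⁻¹ * (n * b * n⁻¹) by group]; exact mul_mem iha ihb
    | inv a _ iha => rw [show n * a⁻¹ * n⁻¹ = (n * a * n⁻¹)⁻¹ by group]; exact inv_mem iha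
  have hstep : ∀ c ∈ sideC (S : Subgroup G) B, n * c * n⁻¹ * c⁻¹ ∈ D := by
    intro c hc
    have hcA : c ∈ A := (hB.sideC_le hc).1
    obtain ⟨d, hd, hd1⟩ := h1 c (hB.sideC_le hc)
    have hdA := hDA hd
    have hfix : n * (d * c) * n⁻¹ = d * c := mul_inv_eq_iff_eq_mul.2 (f.τ_fix _ hd1 t).eq
    have hnc : n * c * n⁻¹ = (n * d * n⁻¹)⁻¹ * (d * c) := by
      rw [← hfix]; group
    rw [hnc, show (n * d * n⁻¹)⁻¹ * (d * c) * c⁻¹ = (n * d * n⁻¹)⁻¹ * d by group]
    exact mul_mem (inv_mem (hDn d hd)) hd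
  let k : sideC (S : Subgroup G) B → sideC (S : Subgroup G) B := fun c =>
    ⟨n * c * n⁻¹ * (c : G)⁻¹, mul_mem (sideC_conj hnB c.2) (inv_mem c.2)⟩
  have hk : Function.Injective k := by
    intro c d hcd
    have hcA := (hB.sideC_le c.2).1
    have hdA := (hB.sideC_le d.2).1
    have hconj : ∀ a, a ∈ A → n * a * n⁻¹ ∈ A := fun a ha => (mem_normalizer_iff.1 hnA a).1 ha
    have hu : n * ((c : G) * (d : G)⁻¹) * n⁻¹ = (c : G) * (d : G)⁻¹ := by
      have e := congrArg Subtype.val hcd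
      have e' : n * (c : G) * n⁻¹ = n * d * n⁻¹ * (d : G)⁻¹ * c := mul_inv_eq_iff_eq_mul.1 e
      rw [show n * ((c : G) * (d : G)⁻¹) * n⁻¹ = (n * d * n⁻¹)⁻¹ * (n * c * n⁻¹) by
        rw [hT.comm_left hcA (inv_mem hdA)]; group, e']
      rw [hT.comm_left hcA (inv_mem hdA)]
      group
    have huA : (c : G) * (d : G)⁻¹ ∈ A := mul_mem hcA (inv_mem hdA)
    have e2 := f.τ_act t ⟨_, huA⟩ ⟨_, huA⟩ hu.symm
    have hfst : (f.ι ⟨_, huA⟩).1 = 0 := by
      have e3 : (f.ι ⟨_, huA⟩).1 = (t : F) * (f.ι ⟨_, huA⟩).1 := congrArg Prod.fst e2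
      by_contra hne
      exact ht (Units.ext (mul_right_cancel₀ hne (e3.symm.trans (one_mul _).symm)))
    have hsnd : (f.ι ⟨_, huA⟩).2 = 0 :=
      (f.mem_Z ⟨_, huA⟩).1 (hB.sideC_le (mul_mem c.2 (inv_mem d.2)))
    have h2 : (c : G) * (d : G)⁻¹ ∈ sideC (S : Subgroup G) A ⊓ sideC (S : Subgroup G) B :=
      mem_inf.2 ⟨(f.ι_zero ⟨_, huA⟩).1 (Prod.ext hfst hsnd), mul_mem c.2 (inv_mem d.2)⟩
    rw [h0, mem_bot] at h2
    exact Subtype.ext (eq_of_mul_inv_eq_one h2)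
  intro c hc
  obtain ⟨d, hd⟩ := Finite.injective_iff_surjective.1 hk ⟨c, hc⟩
  have := hstep d d.2
  rwa [show n * (d : G) * n⁻¹ * (d : G)⁻¹ = c from congrArg Subtype.val hd] at this

/-- When nothing is fixed by both closures, `A ⊓ B` is generated by the commutators of `A` and `B`. -/
theorem inf_le_comm (hA : SideHyp (S : Subgroup G) A (A ⊓ B)) (hB : SideHyp (S : Subgroup G) B (A ⊓ B))
    (h0 : sideC (S : Subgroup G) A ⊓ sideC (S : Subgroup G) B = ⊥) :
    A ⊓ B ≤ closure {x | ∃ a ∈ A, ∃ b ∈ B, x = a * b * a⁻¹ * b⁻¹} := by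
  intro z hz
  obtain ⟨h1, -⟩ := hT.sideC_le_comm hA hB h0
  obtain ⟨-, h2⟩ := hT.symm.sideC_le_comm (by rwa [inf_comm]) (by rwa [inf_comm])
    (by rw [inf_comm]; exact h0)
  obtain ⟨d, hd, hd1⟩ := h1 z hz
  have h3 : d * z ∈ closure {x | ∃ b ∈ B, ∃ a ∈ A, x = b * a * b⁻¹ * a⁻¹} := h2 hd1
  have hswap : closure {x | ∃ b ∈ B, ∃ a ∈ A, x = b * a * b⁻¹ * a⁻¹} ≤
      closure {x | ∃ a ∈ A, ∃ b ∈ B, x = a * b * a⁻¹ * b⁻¹} := (closure_le _).2 (by
    rintro _ ⟨b, hb, a, ha, rfl⟩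
    rw [show b * a * b⁻¹ * a⁻¹ = (a * b * a⁻¹ * b⁻¹)⁻¹ by group]
    exact inv_mem (subset_closure ⟨a, ha, b, hb, rfl⟩))
  rw [show z = d⁻¹ * (d * z) by group]
  exact mul_mem (inv_mem hd) (hswap h3)

theorem card_inf (hA : SideHyp (S : Subgroup G) A (A ⊓ B)) (hB : SideHyp (S : Subgroup G) B (A ⊓ B)) :
    Nat.card ↥(A ⊓ B) = A.relIndex (S : Subgroup G) * Nat.card (sideC (S : Subgroup G) A) := by
  obtain ⟨F, i1, i2, i3, hF, ⟨f⟩⟩ := hT.exists_frame hA hB
  rw [← hF, ← Nat.card_eq_fintype_card]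
  exact f.card_Z inf_le_left hA.sideC_le

end TwoEA

/-- The type, when nothing is centralised by both sides. -/
theorem typeStmt : TypeStmt.{u} := by
  intro G _ _ S A B hc hoA hoB h4 h0
  have hT := hc.twoEA
  have h4A := hc.four_relIndex h4
  have hA := hT.sideHyp h4A (hc.open_iff.1 hoA)
  obtain ⟨hcA, hcB, hcAB⟩ : A.relIndex (S : Subgroup G) = (A ⊓ B).relIndex A ∧
      B.relIndex (S : Subgroup G) = (A ⊓ B).relIndex B ∧
      A.relIndex (S : Subgroup G) = B.relIndex (S : Subgroup G) ∧ SideHyp (S : Subgroup G) B (A ⊓ B) := by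
    rcases hT.symm.relIndex_two_or_four with hb | hb
    · exfalso
      have h1 := hA.card_le
      have e : B.relIndex (S : Subgroup G) = (A ⊓ B).relIndex A :=
        (relIndex_of_sup hT.symm.normA ((sup_comm B A).trans hT.sup_eq)).trans (by rw [inf_comm])
      omega
    · have hB := hT.symm.sideHyp hb (hc.symm.open_iff.1 hoB)
      rw [inf_comm] at hB
      obtain ⟨e1, e2, e3⟩ := eq_of_both hA hB hT.sup_eq rfl
      exact ⟨e1, e2, e3, hB⟩
  obtain ⟨hcAB, hB⟩ := hcAB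
  set q := A.relIndex (S : Subgroup G)
  have hB' : SideHyp (S : Subgroup G) B (B ⊓ A) := by rwa [inf_comm]
  have hA' : SideHyp (S : Subgroup G) A (B ⊓ A) := by rwa [inf_comm]
  have h0' : sideC (S : Subgroup G) B ⊓ sideC (S : Subgroup G) A = ⊥ := by rw [inf_comm]; exact h0
  have cardZ1 := hT.card_inf hA hB
  have cardZ2 := hT.symm.card_inf hB' hA'
  rw [inf_comm, ← hcAB] at cardZ2
  have e12 : Nat.card (sideC (S : Subgroup G) A) = Nat.card (sideC (S : Subgroup G) B) :=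
    Nat.eq_of_mul_eq_mul_left (show 0 < q by omega) (cardZ1.symm.trans cardZ2)
  have cardA : Nat.card A = Nat.card ↥(A ⊓ B) * q := by
    have e := relIndex_mul_relIndex ⊥ (A ⊓ B) A bot_le inf_le_left
    rw [relIndex_bot_left, relIndex_bot_left, ← hcA] at e
    exact e.symm
  have cardB : Nat.card B = Nat.card A := by
    have e := relIndex_mul_relIndex ⊥ (A ⊓ B) B bot_le inf_le_right
    rw [relIndex_bot_left, relIndex_bot_left, ← hcB, ← hcAB] at e
    rw [← e, cardA]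
  refine ⟨q, hc, hoA, hoB, h4A, hc.card_S_eq, cardA, cardB, ?_⟩
  rcases hT.card_sideC hA hB h0 with h | h
  · exact Or.inl ⟨card_eq_one.1 (e12.trans h), card_eq_one.1 h,
      by rw [cardZ1, e12, h, mul_one]⟩
  · refine Or.inr ⟨e12.trans h, h, h0, ?_, by rw [cardZ1, e12, h]⟩
    refine eq_of_le_of_card_ge (sup_le hA.sideC_le hB.sideC_le) ?_
    rw [cardZ1]
    conv_lhs => rw [← h, mul_comm, ← Nat.card_prod]
    refine Nat.card_le_card_of_injective
      (fun p : sideC (S : Subgroup G) A × sideC (S : Subgroup G) B =>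
        (⟨(p.1 : G) * p.2, mul_mem_sup p.1.2 p.2.2⟩ :
          ↥(sideC (S : Subgroup G) A ⊔ sideC (S : Subgroup G) B))) ?_
    exact fun a b hab =>
      Subgroup.mul_injective_of_disjoint (disjoint_iff.2 h0) (congrArg Subtype.val hab)

end Cfsg.Agent.ABRec
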