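import Cfsg.Agent.Lib.ABRec.Local

/-!
The configuration under a surjective homomorphism whose kernel meets the Sylow subgroup in fixed points of both
closures, and in a normal subgroup generated by 2-elements.
-/

set_option autoImplicit false
set_option linter.style.haveILetI false
set_option linter.unusedSectionVars false

namespace Cfsg.Agent.ABRec

open Subgroup Cfsg.Agent.GoldStruct

universe u v

variable {X : Type u} [Group X] [Finite X] {S : Sylow 2 X} {A B : Subgroup X}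

namespace TwoEA

variable (hT : TwoEA S A B)
include hT

/-- The configuration, from the abstract one. -/
theorem toCfg : Cfg S A B where
  A_le := hT.leA
  B_le := hT.leB
  A_ea := ⟨⟨⟨fun a b => Subtype.ext (hT.comm_left a.2 b.2)⟩⟩, fun a ha => by rw [pow_two]; exact hT.sqA a ha⟩
  B_ea := ⟨⟨⟨fun a b => Subtype.ext (hT.comm_right a.2 b.2)⟩⟩, fun a ha => by rw [pow_two]; exact hT.sqB a ha⟩
  notAB h := by
    obtain ⟨a, ha, haB⟩ := hT.exA
    exact haB (h ha)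
  notBA h := by
    obtain ⟨b, hb, hbA⟩ := hT.exB
    exact hbA (h hb)
  only E hE hea := hT.le_or hE fun e he => by rw [← pow_two]; exact hea.2 e he
  prod s hs := by
    obtain ⟨a, ha, b, hb, e⟩ := hT.prod s hs
    exact ⟨a, ha, b, hb, e.symm⟩

/-- Commutators stay outside the common fixed points. -/
theorem comm_sideC (hA : SideHyp (S : Subgroup X) A (A ⊓ B)) (hB : SideHyp (S : Subgroup X) B (A ⊓ B))
    {a b : X} (ha : a ∈ A) (hb : b ∈ B) (h : a * b * a⁻¹ * b⁻¹ ∈ sideC (S : Subgroup X) A) :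
    a ∈ B ∨ b ∈ A := by
  obtain ⟨F, i1, i2, i3, -, ⟨f⟩⟩ := hT.exists_frame hA hB
  rcases f.comm_mem hT.normA (fun a ha b hb => hT.comm_left ha hb) (hT.leB hb) ha (by
    rw [show b * a * b⁻¹ * a⁻¹ = (a * b * a⁻¹ * b⁻¹)⁻¹ by group]; exact inv_mem h) with h1 | h1
  · exact Or.inr h1
  · exact Or.inl h1.2

/-- An element of `A` all of whose commutators with the conjugates of `S` are fixed is fixed. -/
theorem sideC_of_comm (hA : SideHyp (S : Subgroup X) A (A ⊓ B)) (hB : SideHyp (S : Subgroup X) B (A ⊓ B))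
    {c : X} (hc : c ∈ A)
    (h : ∀ x ∈ normalizer (A : Set X), ∀ s ∈ (S : Subgroup X),
      x * s * x⁻¹ * c * (x * s * x⁻¹)⁻¹ * c⁻¹ ∈ sideC (S : Subgroup X) A) :
    c ∈ sideC (S : Subgroup X) A := by
  obtain ⟨F, i1, i2, i3, -, ⟨f⟩⟩ := hT.exists_frame hA hB
  obtain ⟨s, hs, hsA⟩ := hA.exists_outside
  have hZ : ∀ x ∈ normalizer (A : Set X), x⁻¹ * c * x ∈ A ⊓ B := by
    intro x hx
    have hcA : x⁻¹ * c * x ∈ A := by simpa using (mem_normalizer_iff.1 (inv_mem hx) c).1 hc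
    have h1 := sideC_conj (inv_mem hx) (h x hx s hs)
    rw [show x⁻¹ * (x * s * x⁻¹ * c * (x * s * x⁻¹)⁻¹ * c⁻¹) * x⁻¹⁻¹ =
      s * (x⁻¹ * c * x) * s⁻¹ * (x⁻¹ * c * x)⁻¹ by group] at h1
    exact (f.comm_mem hT.normA (fun a ha b hb => hT.comm_left ha hb) hs hcA h1).resolve_left hsA
  by_contra hn
  have h1 : c ∈ A ⊓ B := by simpa using hZ 1 (one_mem _)
  have h2 := hZ f.w⁻¹ (inv_mem f.w_mem)
  rw [inv_inv] at h2
  exact f.moved h1 h1.1 hn h2

section Map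

variable {H : Type v} [Group H] [Finite H] {φ : X →* H} {D : Subgroup X}

theorem map_mem_iff (hker : ∀ s ∈ (S : Subgroup X), φ s = 1 → s ∈ D) {C : Subgroup X}
    (hC : C ≤ (S : Subgroup X)) (hDC : D ≤ C) {x : X} (hx : x ∈ (S : Subgroup X)) :
    φ x ∈ C.map φ ↔ x ∈ C := by
  refine ⟨fun ⟨c, hc, e⟩ => ?_, fun h => mem_map_of_mem φ h⟩
  have h1 := hDC (hker (c⁻¹ * x) (mul_mem (inv_mem (hC hc)) hx) (by rw [map_mul, map_inv, e, inv_mul_cancel]))
  simpa using mul_mem hc h1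

variable [Fact (Nat.Prime 2)]

theorem map (hφ : Function.Surjective φ) (hD : D ≤ A ⊓ B) (hker : ∀ s ∈ (S : Subgroup X), φ s = 1 → s ∈ D)
    (hcomm : ∀ a ∈ A, ∀ b ∈ B, a * b * a⁻¹ * b⁻¹ ∈ D → a ∈ B ∨ b ∈ A) :
    TwoEA (S.mapSurjective hφ) (A.map φ) (B.map φ) where
  leA := map_mono hT.leA
  leB := map_mono hT.leB
  sqA := by rintro _ ⟨a, ha, rfl⟩; rw [← map_mul, hT.sqA a ha, map_one]
  sqB := by rintro _ ⟨b, hb, rfl⟩; rw [← map_mul, hT.sqB b hb, map_one]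
  prod := by
    rintro _ ⟨s, hs', rfl⟩
    obtain ⟨a, ha, b, hb, rfl⟩ := hT.prod s hs'
    exact ⟨_, ⟨a, ha, rfl⟩, _, ⟨b, hb, rfl⟩, (map_mul _ a b).symm⟩
  fix := by
    rintro _ ⟨a, ha, rfl⟩ _ ⟨b, hb, rfl⟩ e
    have hmem := hker (a * b * a⁻¹ * b⁻¹)
      (mul_mem (mul_mem (mul_mem (hT.leA ha) (hT.leB hb)) (inv_mem (hT.leA ha))) (inv_mem (hT.leB hb)))
      (by rw [map_mul, map_mul, map_mul, e, map_inv, map_inv]; group)
    rcases hcomm a ha b hb hmem with h | h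
    · exact Or.inl (mem_map_of_mem _ h)
    · exact Or.inr (mem_map_of_mem _ h)
  exA := by
    obtain ⟨a, ha, h⟩ := hT.exA
    exact ⟨_, mem_map_of_mem _ ha,
      fun h' => h ((hT.map_mem_iff hker hT.leB (hD.trans inf_le_right) (hT.leA ha)).1 h')⟩
  exB := by
    obtain ⟨b, hb, h⟩ := hT.exB
    exact ⟨_, mem_map_of_mem _ hb,
      fun h' => h ((hT.map_mem_iff hker hT.leA (hD.trans inf_le_left) (hT.leB hb)).1 h')⟩

theorem open_map (hD : D ≤ A ⊓ B) (hker : ∀ s ∈ (S : Subgroup X), φ s = 1 → s ∈ D) (ho : Open A B) :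
    Open (A.map φ) (B.map φ) := by
  obtain ⟨n, hn, z, hz, h⟩ := ho
  refine ⟨φ n, le_normalizer_map φ ⟨n, hn, rfl⟩, φ z, ⟨mem_map_of_mem φ hz.1, mem_map_of_mem φ hz.2⟩, fun h' => ?_⟩
  rw [← map_inv, ← map_mul, ← map_mul] at h'
  exact h ((hT.map_mem_iff hker hT.leB (hD.trans inf_le_right)
    (hT.leA ((mem_normalizer_iff.1 hn z).1 hz.1))).1 h')

theorem sideC_map (hφ : Function.Surjective φ) (hD : D ≤ A ⊓ B) (hker : ∀ s ∈ (S : Subgroup X), φ s = 1 → s ∈ D)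
    (hDC : D ≤ sideC (S : Subgroup X) A) (hA : SideHyp (S : Subgroup X) A (A ⊓ B))
    (hB : SideHyp (S : Subgroup X) B (A ⊓ B)) {c : X} (hc : c ∈ A)
    (h : φ c ∈ sideC ((S.mapSurjective hφ : Sylow 2 H) : Subgroup H) (A.map φ)) :
    c ∈ sideC (S : Subgroup X) A := by
  refine hT.sideC_of_comm hA hB hc fun x hx s hs => hDC (hker _ ?_ ?_)
  · have hcA : x⁻¹ * c * x ∈ A := by simpa using (mem_normalizer_iff.1 (inv_mem hx) c).1 hc
    rw [show x * s * x⁻¹ * c * (x * s * x⁻¹)⁻¹ * c⁻¹ = x * (s * (x⁻¹ * c * x) * s⁻¹ * (x⁻¹ * c * x)⁻¹) * x⁻¹ by group]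
    exact hT.leA ((mem_normalizer_iff.1 hx _).1 (hT.quad hs hcA).1)
  · have e := (mem_sideC.1 h).2 (φ x) (le_normalizer_map φ ⟨x, hx, rfl⟩) (φ s) (mem_map_of_mem φ hs)
    rw [← map_inv, ← map_mul, ← map_mul] at e
    rw [map_mul, map_mul, map_mul, map_inv, map_inv, e.eq, mul_inv_cancel_right, mul_inv_cancel]

end Map

end TwoEA

namespace Cfg

/-- A normal subgroup over the Sylow subgroup still moves `A ⊓ B` if the normaliser of `A` does. -/
theorem exists_open_mem (hT : TwoEA S A B) {N : Subgroup X} (hN : N.Normal) (hS : (S : Subgroup X) ≤ N)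
    (ho : Open A B) : ∃ n ∈ N, n ∈ normalizer (A : Set X) ∧ ∃ z ∈ A ⊓ B, n * z * n⁻¹ ∉ B := by
  haveI : Fact (Nat.Prime 2) := ⟨Nat.prime_two⟩
  obtain ⟨n, hn, z, hz, hnz⟩ := ho
  obtain ⟨H, hH⟩ : ∃ H : Subgroup X, H = N ⊓ normalizer (A : Set X) := ⟨_, rfl⟩
  have hSH : (S : Subgroup X) ≤ H := hH ▸ le_inf hS hT.normA
  have hle : (S : Subgroup X).map (MulAut.conj n).toMonoidHom ≤ H := by
    rintro _ ⟨s, hs, rfl⟩
    rw [hH]
    exact ⟨hN.conj_mem s (hS hs) n,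
      (normalizer (A : Set X)).mul_mem (mul_mem hn (hT.normA hs)) (inv_mem hn)⟩
  obtain ⟨m, hm, hm'⟩ := LESylow.exists_conj_le_of_le hle (S.isPGroup'.map _) (S.subtype hSH)
  have hmS : ∀ s ∈ (S : Subgroup X), m * n * s * (m * n)⁻¹ ∈ (S : Subgroup X) := by
    intro s hs
    have := hm' ⟨_, ⟨s, hs, rfl⟩, rfl⟩
    rw [Sylow.coe_subtype, subgroupOf_map_subtype] at this
    have h1 : m * (n * s * n⁻¹) * m⁻¹ ∈ (S : Subgroup X) := this.1
    simpa [mul_assoc] using h1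
  have hmn : m * n ∈ normalizer ((S : Subgroup X) : Set X) := mem_normalizer_fintype fun s hs => hmS s hs
  rw [hH] at hm
  refine ⟨m⁻¹, inv_mem hm.1, inv_mem hm.2, m * n * z * (m * n)⁻¹,
    ⟨(mem_normalizer_iff.1 (hT.normalizer_le hmn) z).1 hz.1,
      (mem_normalizer_iff.1 (hT.symm.normalizer_le hmn) z).1 hz.2⟩, ?_⟩
  rwa [show m⁻¹ * (m * n * z * (m * n)⁻¹) * m⁻¹⁻¹ = n * z * n⁻¹ by group]

theorem open_subtype (hT : TwoEA S A B) {N : Subgroup X} (hN : N.Normal) (hS : (S : Subgroup X) ≤ N)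
    (ho : Open A B) : Open (A.subgroupOf N) (B.subgroupOf N) := by
  obtain ⟨n, hnN, hn, z, hz, hnz⟩ := exists_open_mem hT hN hS ho
  refine ⟨⟨n, hnN⟩, mem_normalizer_fintype fun a ha => ?_, ⟨z, hS (hT.leA hz.1)⟩, ⟨hz.1, hz.2⟩, hnz⟩
  show n * (a : X) * n⁻¹ ∈ A
  exact (mem_normalizer_iff.1 hn _).1 ha

end Cfg

end Cfsg.Agent.ABRec
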