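import Cfsg.Agent.Lib.ABRec.CentClosed
import Cfsg.Agent.Lib.Fusion.PSpSimple

/-!
The Sylow 2-subgroups of `PSL₃(q)` and `PSp₄(q)`, `q` even, are products of two elementary abelian subgroups
each the only maximal one containing the elements it has outside the other.
-/

set_option autoImplicit false
set_option linter.style.haveILetI false

namespace Cfsg.Agent.ABRec

open Subgroup Matrix Cfsg.Agent.FusionPSLn Cfsg.Agent.FusionPSp

universe u v

/-- An abstract group with two elementary abelian subgroups as in `TwoEA`, the first of index `q`. -/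
def AB (P : Type u) [Group P] (q : ℕ) : Prop :=
  ∃ A B : Subgroup P, (∀ a ∈ A, a * a = 1) ∧ (∀ b ∈ B, b * b = 1) ∧ (∀ s, ∃ a ∈ A, ∃ b ∈ B, a * b = s) ∧
    (∀ a ∈ A, ∀ b ∈ B, a * b = b * a → a ∈ B ∨ b ∈ A) ∧ (∃ a ∈ A, a ∉ B) ∧ (∃ b ∈ B, b ∉ A) ∧ A.index = q

theorem AB.congr {P : Type u} [Group P] {Q : Type v} [Group Q] {q : ℕ} (h : AB P q) (e : P ≃* Q) : AB Q q := by
  obtain ⟨A, B, hA, hB, hp, hf, ⟨a, ha, ha'⟩, ⟨b, hb, hb'⟩, hi⟩ := h
  have hm : ∀ (C : Subgroup P) (x : Q), x ∈ C.map e.toMonoidHom ↔ e.symm x ∈ C := fun C x =>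
    mem_map_equiv
  refine ⟨A.map e.toMonoidHom, B.map e.toMonoidHom, ?_, ?_, ?_, ?_, ?_, ?_, ?_⟩
  · intro x hx
    apply e.symm.injective
    rw [map_mul, map_one, hA _ ((hm _ _).1 hx)]
  · intro x hx
    apply e.symm.injective
    rw [map_mul, map_one, hB _ ((hm _ _).1 hx)]
  · intro s
    obtain ⟨x, hx, y, hy, hxy⟩ := hp (e.symm s)
    exact ⟨e x, mem_map_of_mem _ hx, e y, mem_map_of_mem _ hy, by rw [← map_mul, hxy, e.apply_symm_apply]⟩
  · intro x hx y hy hxy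
    rw [hm, hm]
    exact hf _ ((hm _ _).1 hx) _ ((hm _ _).1 hy) (by rw [← map_mul, hxy, map_mul])
  · exact ⟨e a, mem_map_of_mem _ ha, fun h => ha' (by simpa using (hm _ _).1 h)⟩
  · exact ⟨e b, mem_map_of_mem _ hb, fun h => hb' (by simpa using (hm _ _).1 h)⟩
  · rw [← hi]
    exact index_map_equiv _ e

theorem AB.twoEA {G : Type u} [Group G] {S : Sylow 2 G} {q : ℕ} (h : AB ↥(S : Subgroup G) q) :
    ∃ A B : Subgroup G, TwoEA S A B ∧ A.relIndex (S : Subgroup G) = q := by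
  obtain ⟨A, B, hA, hB, hp, hf, ⟨a, ha, ha'⟩, ⟨b, hb, hb'⟩, hi⟩ := h
  let ι : ↥(S : Subgroup G) →* G := (S : Subgroup G).subtype
  refine ⟨A.map ι, B.map ι, ⟨?_, ?_, ?_, ?_, ?_, ?_, ?_, ?_⟩, ?_⟩
  · exact map_subtype_le A
  · exact map_subtype_le B
  · rintro _ ⟨x, hx, rfl⟩
    rw [← map_mul, hA x hx, map_one]
  · rintro _ ⟨x, hx, rfl⟩
    rw [← map_mul, hB x hx, map_one]
  · intro s hs
    obtain ⟨x, hx, y, hy, hxy⟩ := hp ⟨s, hs⟩
    exact ⟨x, mem_map_of_mem _ hx, y, mem_map_of_mem _ hy, congrArg Subtype.val hxy⟩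
  · rintro _ ⟨x, hx, rfl⟩ _ ⟨y, hy, rfl⟩ hxy
    exact (hf x hx y hy (Subtype.ext hxy)).imp (mem_map_of_mem _) (mem_map_of_mem _)
  · exact ⟨a, mem_map_of_mem _ ha, fun ⟨c, hc, e⟩ => ha' (Subtype.ext e ▸ hc)⟩
  · exact ⟨b, mem_map_of_mem _ hb, fun ⟨c, hc, e⟩ => hb' (Subtype.ext e ▸ hc)⟩
  · rw [← hi, relIndex, subgroupOf, comap_map_eq_self_of_injective (Subtype.val_injective)]

theorem AB.of_map {Q : Type u} [Group Q] {R : Type v} [Group R] {U : Subgroup Q} {q : ℕ} (h : AB U q)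
    (f : Q →* R) (hf : ∀ x ∈ U, ∀ y ∈ U, f x = f y → x = y) : AB (U.map f) q :=
  h.congr ((MonoidHom.ofInjective (f := f.comp U.subtype)
    (fun x y e => Subtype.ext (hf x x.2 y y.2 e))).trans
      (MulEquiv.subgroupCongr (by rw [MonoidHom.range_comp, range_subtype])))

variable {K : Type u} [Field K] [CharP K 2]

/-- The element `(x, z, y)` of the unitriangular group. -/
def ut (x z y : K) : uni K 3 :=
  ⟨⟨!![1, x, y; 0, 1, z; 0, 0, 1], by simp [det_fin_three]⟩, by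
    refine mem_uni.2 ⟨fun i j h => ?_, fun i => ?_⟩
    · fin_cases i <;> fin_cases j <;> simp_all
    · fin_cases i <;> simp⟩

omit [CharP K 2] in
theorem ut_surj (u : uni K 3) :
    u = ut ((u : SpecialLinearGroup (Fin 3) K).1 0 1) ((u : SpecialLinearGroup (Fin 3) K).1 1 2)
      ((u : SpecialLinearGroup (Fin 3) K).1 0 2) := by
  obtain ⟨hu, hd⟩ := mem_uni.1 u.2
  refine Subtype.ext (Subtype.ext ?_)
  ext i j
  fin_cases i <;> fin_cases j <;>
    simp [ut, hd, hu 1 0 (by decide), hu 2 0 (by decide), hu 2 1 (by decide)]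

omit [CharP K 2] in
theorem ut_mul (x z y x' z' y' : K) :
    ut x z y * ut x' z' y' = ut (x + x') (z + z') (y + y' + x * z') := by
  refine Subtype.ext (Subtype.ext ?_)
  ext i j
  show ((ut x z y).1.1 * (ut x' z' y').1.1) i j = (ut (x + x') (z + z') (y + y' + x * z')).1.1 i j
  fin_cases i <;> fin_cases j <;> simp [ut, Matrix.mul_apply, Fin.sum_univ_three] <;> ring

omit [CharP K 2] in
theorem ut_inj {x z y x' z' y' : K} (h : ut x z y = ut x' z' y') : x = x' ∧ z = z' ∧ y = y' := by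
  have e := congrArg (fun w : uni K 3 => (w : SpecialLinearGroup (Fin 3) K).1) h
  exact ⟨congrFun₂ e 0 1, congrFun₂ e 1 2, congrFun₂ e 0 2⟩

omit [CharP K 2] in
theorem ut_zero : ut (0 : K) 0 0 = 1 := by
  refine Subtype.ext (Subtype.ext ?_)
  ext i j
  fin_cases i <;> fin_cases j <;> simp [ut]

theorem ab_uni [Fintype K] : AB (uni K 3) (Fintype.card K) := by
  let φ : uni K 3 →* Multiplicative K := MonoidHom.mk' (fun u => Multiplicative.ofAdd ((u : SpecialLinearGroup (Fin 3) K).1 0 1))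
    fun u v => by rw [ut_surj u, ut_surj v, ut_mul]; rfl
  let ψ : uni K 3 →* Multiplicative K := MonoidHom.mk' (fun u => Multiplicative.ofAdd ((u : SpecialLinearGroup (Fin 3) K).1 1 2))
    fun u v => by rw [ut_surj u, ut_surj v, ut_mul]; rfl
  have hφ : ∀ x z y, ut x z y ∈ φ.ker ↔ x = 0 := fun x z y => Iff.rfl
  have hψ : ∀ x z y, ut x z y ∈ ψ.ker ↔ z = 0 := fun x z y => Iff.rfl
  refine ⟨φ.ker, ψ.ker, ?_, ?_, ?_, ?_, ?_, ?_, ?_⟩
  · intro a ha
    rw [ut_surj a] at ha ⊢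
    rw [(hφ _ _ _).1 ha, ut_mul, zero_mul, add_zero, add_zero, CharTwo.add_self_eq_zero, CharTwo.add_self_eq_zero,
      ut_zero]
  · intro a ha
    rw [ut_surj a] at ha ⊢
    rw [(hψ _ _ _).1 ha, ut_mul, mul_zero, add_zero, add_zero, CharTwo.add_self_eq_zero, CharTwo.add_self_eq_zero,
      ut_zero]
  · intro s
    rw [ut_surj s]
    refine ⟨ut 0 ((s : SpecialLinearGroup (Fin 3) K).1 1 2) ((s : SpecialLinearGroup (Fin 3) K).1 0 2),
      (hφ _ _ _).2 rfl, ut ((s : SpecialLinearGroup (Fin 3) K).1 0 1) 0 0, (hψ _ _ _).2 rfl, ?_⟩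
    rw [ut_mul, zero_add, add_zero, add_zero, zero_mul, add_zero]
  · intro a ha b hb hab
    rw [ut_surj a] at ha hab ⊢
    rw [ut_surj b] at hb hab ⊢
    rw [hφ] at ha
    rw [hψ] at hb
    rw [hψ, hφ]
    rw [ha, hb, ut_mul, ut_mul] at hab
    have e := (ut_inj hab).2.2
    rw [zero_mul, add_zero, add_comm ((b : SpecialLinearGroup (Fin 3) K).1 0 2), left_eq_add, mul_eq_zero] at e
    exact e.symm
  · exact ⟨ut 0 1 0, (hφ _ _ _).2 rfl, fun h => one_ne_zero ((hψ _ _ _).1 h)⟩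
  · exact ⟨ut 1 0 0, (hψ _ _ _).2 rfl, fun h => one_ne_zero ((hφ _ _ _).1 h)⟩
  · have hs : Function.Surjective φ := fun t => ⟨ut t.toAdd 0 0, rfl⟩
    rw [index_ker, MonoidHom.range_eq_top.2 hs, card_top, Nat.card_eq_fintype_card]
    exact Fintype.card_multiplicative K

/-- The Sylow 2-subgroups of `PSL₃`. -/
theorem ab_psl [Fintype K] (P : Sylow 2 (ProjectiveSpecialLinearGroup (Fin 3) K)) :
    AB ↥(P : Subgroup (ProjectiveSpecialLinearGroup (Fin 3) K)) (Fintype.card K) := by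
  haveI : Fact (Nat.Prime 2) := ⟨Nat.prime_two⟩
  obtain ⟨S, hS⟩ := exists_sylow_uniImage (K := K) (n := 3) (p := 2)
  refine (((ab_uni (K := K)).of_map (QuotientGroup.mk' (center (SpecialLinearGroup (Fin 3) K)))
    fun x hx y hy e => eq_of_mk_eq (p := 2) e (uni_pow_char (p := 2) x hx) (uni_pow_char (p := 2) y hy)).congr
      (MulEquiv.subgroupCongr hS.symm)).congr (Sylow.equiv S P)

/-- The Levi part `(1 t; 0 1)`. -/
def ul (t : K) : (Matrix (Fin 2) (Fin 2) K)ˣ :=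
  ⟨!![1, t; 0, 1], !![1, -t; 0, 1], by simp [one_fin_two], by simp [one_fin_two]⟩

theorem ul_inv (t : K) : (ul t)⁻¹ = ul t := by
  refine Units.ext ?_
  show !![(1 : K), -t; 0, 1] = !![1, t; 0, 1]
  rw [CharTwo.neg_eq]

theorem ab_sympUni [Fintype K] : AB (sympUni K 2) (Fintype.card K) := by
  have hrep : ∀ g : sympUni K 2, ∃ (t : K) (X : Matrix (Fin 2) (Fin 2) K) (hX : Xᵀ = X),
      (g : Matrix.symplecticGroup (Fin 2) K) = lev (ul t) * rr X hX ∧
        (g : Matrix.symplecticGroup (Fin 2) K).1.toBlocks₁₁ 0 1 = t ∧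
        (g : Matrix.symplecticGroup (Fin 2) K).1.toBlocks₁₂ 1 1 = X 1 1 := by
    intro g
    obtain ⟨u, X, hX, hu, e⟩ := exists_lev_rr _ (mem_sympUni.1 g.2).1
    obtain ⟨hup, hd⟩ := (mem_sympUni.1 g.2).2
    have hu' : u = ul ((g : Matrix.symplecticGroup (Fin 2) K).1.toBlocks₁₁ 0 1) := by
      refine Units.ext ?_
      rw [hu]
      ext i j
      fin_cases i <;> fin_cases j <;> simp [ul, hd, hup 1 0 (by decide)]
    refine ⟨_, X, hX, hu' ▸ e, rfl, ?_⟩
    rw [e, lev_mul_rr_blocks, toBlocks_fromBlocks₁₂, hu']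
    simp [ul, Matrix.mul_apply, Fin.sum_univ_two]
  have hmul : ∀ (t s : K) (X Y : Matrix (Fin 2) (Fin 2) K) (hX : Xᵀ = X) (hY : Yᵀ = Y),
      lev (ul t) * rr X hX * (lev (ul s) * rr Y hY) = lev (ul (t + s)) *
        rr ((ul s : Matrix (Fin 2) (Fin 2) K) * X * (ul s : Matrix (Fin 2) (Fin 2) K)ᵀ + Y)
          (by rw [transpose_add, transpose_mul, transpose_mul, transpose_transpose, hX, hY, mul_assoc]) := by
    intro t s X Y hX hY
    have hts : ul (t + s) = ul t * ul s := by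
      refine Units.ext ?_
      simp [ul, add_comm]
    rw [← rr_mul (by rw [transpose_mul, transpose_mul, transpose_transpose, hX, mul_assoc]) hY, ← lev_conj_rr,
      hts, map_mul, ← map_inv, ul_inv]
    have hss : (lev (ul s) : Matrix.symplecticGroup (Fin 2) K) * lev (ul s) = 1 := by
      rw [← map_mul, show ul s * ul s = 1 by rw [mul_eq_one_iff_eq_inv, ul_inv], map_one]
    simp only [mul_assoc]
    rw [← mul_assoc (lev (ul s)) (lev (ul s)), hss, one_mul]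
  let φ : sympUni K 2 →* Multiplicative K :=
    MonoidHom.mk' (fun g => Multiplicative.ofAdd ((g : Matrix.symplecticGroup (Fin 2) K).1.toBlocks₁₁ 0 1))
    fun g h => by
      obtain ⟨t, X, hX, eg, tg, xg⟩ := hrep g
      obtain ⟨s, Y, hY, eh, th, xh⟩ := hrep h
      rw [Subgroup.coe_mul, tg, th, eg, eh, hmul, lev_mul_rr_blocks, toBlocks_fromBlocks₁₁]
      rfl
  let ψ : sympUni K 2 →* Multiplicative K :=
    MonoidHom.mk' (fun g => Multiplicative.ofAdd ((g : Matrix.symplecticGroup (Fin 2) K).1.toBlocks₁₂ 1 1))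
    fun g h => by
      obtain ⟨t, X, hX, eg, tg, xg⟩ := hrep g
      obtain ⟨s, Y, hY, eh, th, xh⟩ := hrep h
      rw [Subgroup.coe_mul, xg, xh, eg, eh, hmul, lev_mul_rr_blocks, toBlocks_fromBlocks₁₂, ← ofAdd_add]
      simp only [Matrix.mul_apply, Matrix.add_apply, Fin.sum_univ_two, Matrix.transpose_apply]
      simp [ul]
  have mk : ∀ (t : K) (X : Matrix (Fin 2) (Fin 2) K) (hX : Xᵀ = X),
      ∃ g : sympUni K 2, (g : Matrix.symplecticGroup (Fin 2) K) = lev (ul t) * rr X hX ∧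
        (g ∈ φ.ker ↔ t = 0) ∧ (g ∈ ψ.ker ↔ X 1 1 = 0) := fun t X hX => by
    have hu : IsUni ((ul t : (Matrix (Fin 2) (Fin 2) K)ˣ) : Matrix (Fin 2) (Fin 2) K) :=
      ⟨fun i j h => by fin_cases i <;> fin_cases j <;> simp_all [ul], fun i => by fin_cases i <;> simp [ul]⟩
    refine ⟨⟨_, mul_mem (lev_mem hu) (rr_mem hX)⟩, rfl, ?_, ?_⟩
    · show Multiplicative.ofAdd _ = 1 ↔ _
      rw [lev_mul_rr_blocks, toBlocks_fromBlocks₁₁]
      rfl
    · show Multiplicative.ofAdd _ = 1 ↔ _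
      rw [lev_mul_rr_blocks, toBlocks_fromBlocks₁₂]
      simp [ul, Matrix.mul_apply, Fin.sum_univ_two]
  have hker : ∀ g : sympUni K 2, g ∈ φ.ker ↔ (g : Matrix.symplecticGroup (Fin 2) K).1.toBlocks₁₁ 0 1 = 0 :=
    fun g => Iff.rfl
  have hker' : ∀ g : sympUni K 2, g ∈ ψ.ker ↔ (g : Matrix.symplecticGroup (Fin 2) K).1.toBlocks₁₂ 1 1 = 0 :=
    fun g => Iff.rfl
  have hl0 : lev (ul (0 : K)) = (1 : Matrix.symplecticGroup (Fin 2) K) := by
    rw [show ul (0 : K) = 1 from Units.ext (by simp [ul, one_fin_two]), map_one]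
  have hself : ∀ (t : K) (X : Matrix (Fin 2) (Fin 2) K), Xᵀ = X → X 1 1 = 0 →
      (ul t : Matrix (Fin 2) (Fin 2) K) * X * (ul t : Matrix (Fin 2) (Fin 2) K)ᵀ = X := by
    intro t X hX h11
    have h10 : X 1 0 = X 0 1 := congrFun₂ hX 0 1
    ext i j
    simp only [Matrix.mul_apply, Fin.sum_univ_two, Matrix.transpose_apply]
    fin_cases i <;> fin_cases j <;> simp [ul, h11, h10] <;>
      linear_combination (X 0 1 * t) * (CharTwo.two_eq_zero (R := K))
  refine ⟨φ.ker, ψ.ker, ?_, ?_, ?_, ?_, ?_, ?_, ?_⟩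
  · intro a ha
    obtain ⟨t, X, hX, e, ht, -⟩ := hrep a
    refine Subtype.ext ?_
    rw [Subgroup.coe_mul, e, ← ht, (hker a).1 ha, hl0, one_mul, rr_mul]
    simp [CharTwo.add_self_eq_zero, rr_zero]
  · intro a ha
    obtain ⟨t, X, hX, e, -, hx⟩ := hrep a
    refine Subtype.ext ?_
    rw [Subgroup.coe_mul, e, hmul]
    simp [hself t X hX (hx ▸ (hker' a).1 ha), CharTwo.add_self_eq_zero, hl0, rr_zero]
  · intro s
    obtain ⟨t, X, hX, e, -, -⟩ := hrep s
    obtain ⟨a, ea, ha, -⟩ := mk 0 ((ul t : Matrix (Fin 2) (Fin 2) K) * !![0, 0; 0, X 1 1] *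
      (ul t : Matrix (Fin 2) (Fin 2) K)ᵀ) (by
        rw [transpose_mul, transpose_mul, transpose_transpose, mul_assoc]
        congr 2
        ext i j
        fin_cases i <;> fin_cases j <;> rfl)
    obtain ⟨b, eb, -, hb⟩ := mk t (X + !![0, 0; 0, X 1 1]) (by
      rw [transpose_add, hX]
      congr 1
      ext i j
      fin_cases i <;> fin_cases j <;> rfl)
    refine ⟨a, ha.2 rfl, b, hb.2 (by simp [CharTwo.add_self_eq_zero]), Subtype.ext ?_⟩
    rw [Subgroup.coe_mul, ea, eb, e, hl0, one_mul, ← lev_conj_rr _ (X := !![0, 0; 0, X 1 1])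
      (by ext i j; fin_cases i <;> fin_cases j <;> rfl)]
    have hc : ∀ (Y : Matrix (Fin 2) (Fin 2) K) (hY : Yᵀ = Y) (h2 : (X + Y)ᵀ = X + Y),
        rr Y hY * rr (X + Y) h2 = rr X hX := fun Y hY h2 => by
      rw [rr_mul]
      exact Subtype.ext (by rw [rr_coe, rr_coe, show Y + (X + Y) = X + (Y + Y) by abel, CharTwo.add_self_eq_zero, add_zero])
    rw [mul_assoc, inv_mul_cancel_left, mul_assoc, hc]
  · intro a ha b hb hab
    obtain ⟨t, X, hX, ea, ht, hxa⟩ := hrep a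
    obtain ⟨s, Y, hY, eb, hs, hxb⟩ := hrep b
    rw [hker, ht] at ha
    rw [hker', hxb] at hb
    rw [hker', hxa, hker, hs]
    subst ha
    have e := congrArg (fun w : sympUni K 2 => (w : Matrix.symplecticGroup (Fin 2) K).1.toBlocks₁₂ 0 1) hab
    simp only [Subgroup.coe_mul, ea, eb, hmul, lev_mul_rr_blocks, toBlocks_fromBlocks₁₂] at e
    simp only [Matrix.mul_apply, Matrix.add_apply, Fin.sum_univ_two, Matrix.transpose_apply] at e
    have h10 : Y 1 0 = Y 0 1 := congrFun₂ hY 0 1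
    have h10' : X 1 0 = X 0 1 := congrFun₂ hX 0 1
    simp [ul, hb, h10, h10'] at e
    rw [← mul_eq_zero]
    linear_combination e
  · obtain ⟨a, -, ha, ha'⟩ := mk 0 !![0, 0; 0, 1] (by ext i j; fin_cases i <;> fin_cases j <;> rfl)
    exact ⟨a, ha.2 rfl, fun h => one_ne_zero (α := K) (by simpa using ha'.1 h)⟩
  · obtain ⟨b, -, hb, hb'⟩ := mk 1 0 transpose_zero
    exact ⟨b, hb'.2 rfl, fun h => one_ne_zero (hb.1 h)⟩
  · have hs : Function.Surjective φ := fun t => by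
      obtain ⟨g, eg, -, -⟩ := mk t.toAdd 0 transpose_zero
      refine ⟨g, ?_⟩
      show Multiplicative.ofAdd _ = t
      rw [eg, lev_mul_rr_blocks, toBlocks_fromBlocks₁₁]
      rfl
    rw [index_ker, MonoidHom.range_eq_top.2 hs, card_top, Nat.card_eq_fintype_card]
    exact Fintype.card_multiplicative K

/-- The Sylow 2-subgroups of `PSp₄`. -/
theorem ab_psp [Fintype K] (P : Sylow 2 (Cfsg.PSp 2 K)) :
    AB ↥(P : Subgroup (Cfsg.PSp 2 K)) (Fintype.card K) := by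
  haveI : Fact (Nat.Prime 2) := ⟨Nat.prime_two⟩
  obtain ⟨S, hS⟩ := exists_sylow_sympUni (K := K) (m := 2) 2 two_pos
  refine (((ab_sympUni (K := K)).of_map (QuotientGroup.mk' (center (Matrix.symplecticGroup (Fin 2) K)))
    fun x hx y hy e => AutPSp.eq_of_mk_eq 2 (sympUni_pow 2 hx) (sympUni_pow 2 hy) e).congr
      (MulEquiv.subgroupCongr hS.symm)).congr (Sylow.equiv S P)

end Cfsg.Agent.ABRec
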