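import Cfsg.Agent.Lib.ABRec.Side
import Cfsg.Agent.Lib.ABRec.CentClosed

/-!
Local facts for a Sylow 2-subgroup `A B` with two elementary subgroups containing all involutions: `A` and `B`
are not conjugate, fusion from `A` into `A ⊓ B` happens in the normaliser of `A`, and either one of them is strongly
closed, or both have index two, or both sides are open with equal parameters.
-/

set_option autoImplicit false
set_option linter.style.haveILetI false
set_option linter.unusedSectionVars false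

namespace Cfsg.Agent.ABRec

open Subgroup Cfsg.Agent.GoldStruct

universe u

variable {G : Type u} [Group G] [Finite G] {S : Sylow 2 G} {A B : Subgroup G}

namespace TwoEA

variable (hT : TwoEA S A B)
include hT

theorem comm_left {a a' : G} (ha : a ∈ A) (ha' : a' ∈ A) : a * a' = a' * a := by
  calc a * a' = (a * a')⁻¹ := (inv_eq_of_mul_eq_one_right (hT.sqA _ (mul_mem ha ha'))).symm
    _ = a' * a := by
      rw [mul_inv_rev, inv_eq_of_mul_eq_one_right (hT.sqA a ha), inv_eq_of_mul_eq_one_right (hT.sqA a' ha')]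

theorem comm_right {b b' : G} (hb : b ∈ B) (hb' : b' ∈ B) : b * b' = b' * b := hT.symm.comm_left hb hb'

theorem central {z : G} (hz : z ∈ A ⊓ B) {s : G} (hs : s ∈ (S : Subgroup G)) : Commute s z := by
  obtain ⟨a, ha, b, hb, rfl⟩ := hT.prod s hs
  exact (show Commute a z from hT.comm_left ha hz.1).mul_left (show Commute b z from hT.comm_right hb hz.2)

/-- An involution of the Sylow subgroup is in `A` or in `B`. -/
theorem mem_or {s : G} (hs : s ∈ (S : Subgroup G)) (h2 : s * s = 1) : s ∈ A ∨ s ∈ B := by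
  obtain ⟨a, ha, b, hb, rfl⟩ := hT.prod s hs
  have hab : a * b = b * a := by
    calc a * b = (a * b)⁻¹ := (inv_eq_of_mul_eq_one_right h2).symm
      _ = b * a := by
        rw [mul_inv_rev, inv_eq_of_mul_eq_one_right (hT.sqA a ha), inv_eq_of_mul_eq_one_right (hT.sqB b hb)]
  rcases hT.fix a ha b hb hab with h | h
  · exact Or.inr (mul_mem h hb)
  · exact Or.inl (mul_mem ha h)

/-- An elementary subgroup of the Sylow subgroup lies in `A` or in `B`. -/
theorem le_or {E : Subgroup G} (hE : E ≤ (S : Subgroup G)) (h2 : ∀ e ∈ E, e * e = 1) : E ≤ A ∨ E ≤ B := by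
  by_contra h
  push Not at h
  obtain ⟨x, hx, hxA⟩ := Set.not_subset.1 h.1
  obtain ⟨y, hy, hyB⟩ := Set.not_subset.1 h.2
  have hxB : x ∈ B := (hT.mem_or (hE hx) (h2 x hx)).resolve_left hxA
  have hyA : y ∈ A := (hT.mem_or (hE hy) (h2 y hy)).resolve_right hyB
  rcases hT.mem_or (hE (mul_mem hx hy)) (h2 _ (mul_mem hx hy)) with h' | h'
  · exact hxA (by simpa using mul_mem h' (inv_mem hyA))
  · exact hyB (by simpa using mul_mem (inv_mem hxB) h')

/-- `A` is maximal elementary in the Sylow subgroup. -/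
theorem eq_of_le {E : Subgroup G} (hE : E ≤ (S : Subgroup G)) (h2 : ∀ e ∈ E, e * e = 1) (hAE : A ≤ E) :
    E = A := by
  rcases hT.le_or hE h2 with h | h
  · exact le_antisymm h hAE
  · obtain ⟨a, ha, haB⟩ := hT.exA
    exact absurd (h (hAE ha)) haB

theorem conj_or {s : G} (hs : s ∈ normalizer ((S : Subgroup G) : Set G)) :
    A.map (MulAut.conj s).toMonoidHom = A ∨ A.map (MulAut.conj s).toMonoidHom = B := by
  obtain ⟨E, hEdef⟩ : ∃ E, E = A.map (MulAut.conj s).toMonoidHom := ⟨_, rfl⟩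
  rw [← hEdef]
  have hEle : E ≤ (S : Subgroup G) := by
    rw [hEdef]
    rintro _ ⟨a, ha, rfl⟩
    exact (mem_normalizer_iff.1 hs a).1 (hT.leA ha)
  have hE2 : ∀ e ∈ E, e * e = 1 := by
    rw [hEdef]
    rintro _ ⟨a, ha, rfl⟩
    rw [← map_mul, hT.sqA a ha, map_one]
  have hback : ∀ (E' : Subgroup G), E' ≤ (S : Subgroup G) → (∀ e ∈ E', e * e = 1) → E ≤ E' → E' = E := by
    intro E' hE' hE'2 hle
    have hA : E'.map (MulAut.conj s⁻¹).toMonoidHom = A := by
      refine hT.eq_of_le ?_ ?_ ?_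
      · rintro _ ⟨e, he, rfl⟩
        exact (mem_normalizer_iff.1 (inv_mem hs) e).1 (hE' he)
      · rintro _ ⟨e, he, rfl⟩
        rw [← map_mul, hE'2 e he, map_one]
      · intro a ha
        exact ⟨s * a * s⁻¹, hle (hEdef ▸ ⟨a, ha, rfl⟩), by simp [mul_assoc]⟩
    refine le_antisymm (fun e he => ?_) hle
    have hm : s⁻¹ * e * s ∈ A := hA ▸ ⟨e, he, by simp⟩
    rw [hEdef]
    exact ⟨_, hm, by simp [mul_assoc]⟩
  rcases hT.le_or hEle hE2 with h | h
  · exact Or.inl (hback A hT.leA hT.sqA h).symm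
  · exact Or.inr (hback B hT.leB hT.sqB h).symm

theorem normA : (S : Subgroup G) ≤ normalizer (A : Set G) := by
  intro s hs
  obtain ⟨a, ha, b, hb, rfl⟩ := hT.prod s hs
  refine mul_mem (le_normalizer ha) ?_
  have hbN : b ∈ normalizer ((S : Subgroup G) : Set G) := le_normalizer (hT.leB hb)
  rcases hT.conj_or hbN with h | h
  · exact mem_normalizer_fintype fun x hx => (SetLike.ext_iff.1 h _).1 ⟨x, hx, rfl⟩
  · exfalso
    obtain ⟨a', ha', ha'B⟩ := hT.exA
    have h1 : b * a' * b⁻¹ ∈ B := h ▸ ⟨a', ha', rfl⟩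
    exact ha'B (by simpa [mul_assoc] using mul_mem (mul_mem (inv_mem hb) h1) hb)

theorem quad {s : G} (hs : s ∈ (S : Subgroup G)) {a : G} (ha : a ∈ A) : s * a * s⁻¹ * a⁻¹ ∈ A ⊓ B := by
  obtain ⟨a', ha', b, hb, rfl⟩ := hT.prod s hs
  have hbS := hT.leB hb
  have hc : b * a * b⁻¹ * a⁻¹ ∈ A ⊓ B := by
    refine mem_inf.2 ⟨mul_mem ((mem_normalizer_iff.1 (hT.normA hbS) a).1 ha) (inv_mem ha), ?_⟩
    show b * a * b⁻¹ * a⁻¹ ∈ B
    rw [show b * a * b⁻¹ * a⁻¹ = b * (a * b⁻¹ * a⁻¹) by group]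
    exact mul_mem hb ((mem_normalizer_iff.1 (hT.symm.normA (hT.leA ha)) b⁻¹).1 (inv_mem hb))
  have e : a' * b * a * (a' * b)⁻¹ * a⁻¹ = b * a * b⁻¹ * a⁻¹ := by
    rw [show a' * b * a * (a' * b)⁻¹ * a⁻¹ = a' * (b * a * b⁻¹ * a⁻¹) * (a * a'⁻¹ * a⁻¹) by group,
      hT.comm_left ha (inv_mem ha'), mul_inv_cancel_right, hT.comm_left ha' hc.1, mul_inv_cancel_right]
  rwa [e]

theorem self {s : G} (hs : s ∈ (S : Subgroup G)) (hsA : s ∉ A) {a : G} (ha : a ∈ A) (hc : Commute s a) :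
    a ∈ A ⊓ B := by
  obtain ⟨a', ha', b, hb, rfl⟩ := hT.prod s hs
  have hb' : b ∉ A := fun h => hsA (mul_mem ha' h)
  have hab : Commute (a'⁻¹ * (a' * b)) a :=
    ((show Commute a' a from hT.comm_left ha' ha).inv_left).mul_left hc
  rw [inv_mul_cancel_left] at hab
  exact ⟨ha, (hT.fix a ha b hb hab.eq.symm).resolve_right hb'⟩

/-- A 2-subgroup over `A` centralising `A` is `A`. -/
theorem two_cent {R : Subgroup G} (hR : IsPGroup 2 R) (hAR : A ≤ R) (hc : ∀ r ∈ R, ∀ a ∈ A, Commute r a) :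
    R = A := by
  haveI : Fact (Nat.Prime 2) := ⟨Nat.prime_two⟩
  have hRN : R ≤ normalizer (A : Set G) := fun r hr => mem_normalizer_fintype fun a ha => by
    rw [(hc r hr a ha).eq, mul_inv_cancel_right]; exact ha
  obtain ⟨m, hm, hle⟩ := LESylow.exists_conj_le_of_le hRN hR (S.subtype hT.normA)
  refine le_antisymm (fun r hr => ?_) hAR
  have hmap : ((S.subtype hT.normA : Sylow 2 ↥(normalizer (A : Set G))) : Subgroup _).map
      (normalizer (A : Set G)).subtype ≤ (S : Subgroup G) := by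
    rw [Sylow.coe_subtype, subgroupOf_map_subtype]
    exact inf_le_left
  have hr' : m * r * m⁻¹ ∈ (S : Subgroup G) := hmap (hle ⟨r, hr, rfl⟩)
  have hA : m * r * m⁻¹ ∈ A := by
    by_contra hn
    obtain ⟨a, ha, haB⟩ := hT.exA
    refine haB (hT.self hr' hn ha ?_).2
    have hma : m⁻¹ * a * m ∈ A := by simpa using (mem_normalizer_iff.1 (inv_mem hm) a).1 ha
    have e := (hc r hr _ hma).eq
    show m * r * m⁻¹ * a = a * (m * r * m⁻¹)
    calc m * r * m⁻¹ * a = m * (r * (m⁻¹ * a * m)) * m⁻¹ := by group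
      _ = m * (m⁻¹ * a * m * r) * m⁻¹ := by rw [e]
      _ = a * (m * r * m⁻¹) := by group
  simpa [mul_assoc] using (mem_normalizer_iff.1 (inv_mem hm) _).1 hA

/-- `A` and `B` are not conjugate. -/
theorem not_conj (g : G) : A.map (MulAut.conj g).toMonoidHom ≠ B := by
  intro hg
  haveI : Fact (Nat.Prime 2) := ⟨Nat.prime_two⟩
  set N := normalizer (B : Set G)
  have hSB : (S : Subgroup G) ≤ N := hT.symm.normA
  have hgS : (S : Subgroup G).map (MulAut.conj g).toMonoidHom ≤ N := by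
    rintro _ ⟨s, hs, rfl⟩
    refine mem_normalizer_fintype fun x hx => ?_
    rw [← hg] at hx
    obtain ⟨a, ha, rfl⟩ := hx
    show (MulAut.conj g s : G) * MulAut.conj g a * (MulAut.conj g s)⁻¹ ∈ (B : Set G)
    rw [← map_inv, ← map_mul, ← map_mul, ← hg]
    exact ⟨_, (mem_normalizer_iff.1 (hT.normA hs) a).1 ha, rfl⟩
  obtain ⟨n, hn, hle⟩ := LESylow.exists_conj_le_of_le hgS (S.isPGroup'.map _) (S.subtype hSB)
  have hle' : ∀ s ∈ (S : Subgroup G), n * g * s * (n * g)⁻¹ ∈ (S : Subgroup G) := by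
    intro s hs
    have := hle ⟨g * s * g⁻¹, ⟨s, hs, rfl⟩, rfl⟩
    rw [Sylow.coe_subtype, subgroupOf_map_subtype] at this
    have h1 : _ ∈ (S : Subgroup G) := this.1
    simpa [mul_assoc] using h1
  have hhN : n * g ∈ normalizer ((S : Subgroup G) : Set G) := mem_normalizer_fintype fun s hs => hle' s hs
  set h := n * g with hh
  have hhA : A.map (MulAut.conj h).toMonoidHom = B := by
    ext x
    constructor
    · rintro ⟨a, ha, rfl⟩
      have h1 : g * a * g⁻¹ ∈ B := hg ▸ ⟨a, ha, rfl⟩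
      simpa [hh, mul_assoc] using (mem_normalizer_iff.1 hn _).1 h1
    · intro hx
      obtain ⟨a, ha, e⟩ : n⁻¹ * x * n ∈ A.map (MulAut.conj g).toMonoidHom := by
        rw [hg]; simpa using (mem_normalizer_iff.1 (inv_mem hn) x).1 hx
      refine ⟨a, ha, ?_⟩
      have e' : g * a * g⁻¹ = n⁻¹ * x * n := e
      show h * a * h⁻¹ = x
      rw [hh, show n * g * a * (n * g)⁻¹ = n * (g * a * g⁻¹) * n⁻¹ by group, e']; group
  have hsq : A.map (MulAut.conj (h * h)).toMonoidHom = A := by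
    refine (hT.conj_or (mul_mem hhN hhN)).resolve_right fun e => ?_
    obtain ⟨a, ha, haB⟩ := hT.exA
    refine haB ?_
    have h1 : h * a * h⁻¹ ∈ A.map (MulAut.conj (h * h)).toMonoidHom := by
      rw [e, ← hhA]; exact ⟨a, ha, rfl⟩
    obtain ⟨a', ha', e'⟩ := h1
    have e'' : h * h * a' * (h * h)⁻¹ = h * a * h⁻¹ := e'
    rw [← hhA]
    refine ⟨a', ha', ?_⟩
    show h * a' * h⁻¹ = a
    calc h * a' * h⁻¹ = h⁻¹ * (h * h * a' * (h * h)⁻¹) * h := by group
      _ = a := by rw [e'']; group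
  have hk : h ^ ((S : Subgroup G).relIndex (normalizer ((S : Subgroup G) : Set G))) ∈ (S : Subgroup G) := by
    haveI : ((S : Subgroup G).subgroupOf (normalizer ((S : Subgroup G) : Set G))).Normal :=
      normal_in_normalizer
    exact Subgroup.pow_index_mem ((S : Subgroup G).subgroupOf (normalizer ((S : Subgroup G) : Set G)))
      (⟨h, hhN⟩ : normalizer ((S : Subgroup G) : Set G))
  obtain ⟨j, hj⟩ : Odd ((S : Subgroup G).relIndex (normalizer ((S : Subgroup G) : Set G))) :=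
    Nat.not_even_iff_odd.1 fun e => S.not_dvd_index
      ((even_iff_two_dvd.1 e).trans (relIndex_dvd_index_of_le le_normalizer))
  have hfix : ∀ m : ℕ, ∀ a, a ∈ A → (h * h) ^ m * a * ((h * h) ^ m)⁻¹ ∈ A := by
    intro m
    induction m with
    | zero => intro a ha; simpa using ha
    | succ m ih =>
      intro a ha
      have hi := ih a ha
      generalize hp : (h * h) ^ m = p at hi
      rw [pow_succ', hp, show h * h * p * a * (h * h * p)⁻¹ = h * h * (p * a * p⁻¹) * (h * h)⁻¹ by group]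
      exact (SetLike.ext_iff.1 hsq _).1 ⟨_, hi, rfl⟩
  obtain ⟨a, ha, haB⟩ := hT.exA
  rw [hj, pow_succ', pow_mul, pow_two] at hk
  have h1 : h * ((h * h) ^ j * a * ((h * h) ^ j)⁻¹) * h⁻¹ ∈ B := hhA ▸ ⟨_, hfix j a ha, rfl⟩
  have h2 : h * (h * h) ^ j * a * (h * (h * h) ^ j)⁻¹ ∈ A := (mem_normalizer_iff.1 (hT.normA hk) a).1 ha
  -- conjugation by `hk` maps `a` into `B` and preserves `B`
  refine haB ((mem_normalizer_iff.1 (hT.symm.normA hk) a).2 ?_)
  rw [show h * (h * h) ^ j * a * (h * (h * h) ^ j)⁻¹ = h * ((h * h) ^ j * a * ((h * h) ^ j)⁻¹) * h⁻¹ by group]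
  exact h1

/-- A conjugate of `A` in the Sylow subgroup is `A`. -/
theorem conj_eq {h : G} (hle : A.map (MulAut.conj h).toMonoidHom ≤ (S : Subgroup G)) :
    A.map (MulAut.conj h).toMonoidHom = A := by
  obtain ⟨E, hEdef⟩ : ∃ E, E = A.map (MulAut.conj h).toMonoidHom := ⟨_, rfl⟩
  rw [← hEdef] at hle ⊢
  have hE2 : ∀ e ∈ E, e * e = 1 := by
    rw [hEdef]
    rintro _ ⟨a, ha, rfl⟩
    rw [← map_mul, hT.sqA a ha, map_one]
  have hmax : ∀ E' : Subgroup G, IsPGroup 2 E' → (∀ e ∈ E', e * e = 1) → E ≤ E' → E' = E := by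
    intro E' hp he2 hle'
    have h1 : E'.map (MulAut.conj h⁻¹).toMonoidHom = A := by
      refine hT.two_cent (hp.map _) (fun a ha => ⟨h * a * h⁻¹, hle' (hEdef ▸ ⟨a, ha, rfl⟩), by
        simp [mul_assoc]⟩) ?_
      rintro _ ⟨e, he, rfl⟩ a ha
      have ha' : h * a * h⁻¹ ∈ E' := hle' (hEdef ▸ ⟨a, ha, rfl⟩)
      have e3 : Commute e (h * a * h⁻¹) := by
        show e * (h * a * h⁻¹) = h * a * h⁻¹ * e
        calc e * (h * a * h⁻¹) = (e * (h * a * h⁻¹))⁻¹ :=
              (inv_eq_of_mul_eq_one_right (he2 _ (mul_mem he ha'))).symm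
          _ = _ := by
            rw [mul_inv_rev, inv_eq_of_mul_eq_one_right (he2 e he), inv_eq_of_mul_eq_one_right (he2 _ ha')]
      have e4 := e3.map (MulAut.conj h⁻¹).toMonoidHom
      simpa [mul_assoc] using e4
    refine le_antisymm (fun e he => ?_) hle'
    have hm : h⁻¹ * e * h ∈ A := h1 ▸ ⟨e, he, by simp⟩
    rw [hEdef]
    exact ⟨_, hm, by simp [mul_assoc]⟩
  rcases hT.le_or hle hE2 with h' | h'
  · exact (hmax A (S.isPGroup'.to_le hT.leA) hT.sqA h').symm
  · exact absurd (hEdef ▸ (hmax B (S.isPGroup'.to_le hT.leB) hT.sqB h').symm) (hT.not_conj h)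

theorem mem_normalizer_of_map {h : G} (hh : A.map (MulAut.conj h).toMonoidHom = A) :
    h ∈ normalizer (A : Set G) :=
  mem_normalizer_fintype fun a ha => (SetLike.ext_iff.1 hh _).1 ⟨a, ha, rfl⟩

/-- Fusion from `A` into `A ⊓ B` happens in the normaliser of `A`. -/
theorem conj_in_normalizer {a g : G} (ha : a ∈ A) (hg : g * a * g⁻¹ ∈ A ⊓ B) :
    ∃ x ∈ normalizer (A : Set G), x * a * x⁻¹ = g * a * g⁻¹ := by
  haveI : Fact (Nat.Prime 2) := ⟨Nat.prime_two⟩
  obtain ⟨z, hz⟩ : ∃ z, z = g * a * g⁻¹ := ⟨_, rfl⟩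
  rw [← hz] at hg ⊢
  have hSC : (S : Subgroup G) ≤ centralizer ({z} : Set G) := fun s hs =>
    mem_centralizer_singleton_iff.2 (hT.central hg hs).eq
  have hle : A.map (MulAut.conj g).toMonoidHom ≤ centralizer ({z} : Set G) := by
    rintro _ ⟨a', ha', rfl⟩
    refine mem_centralizer_singleton_iff.2 ?_
    rw [hz]
    exact ((show Commute a' a from hT.comm_left ha' ha).map (MulAut.conj g).toMonoidHom).eq
  obtain ⟨n, hn, hn'⟩ := LESylow.exists_conj_le_of_le hle
    ((S.isPGroup'.to_le hT.leA).map _) (S.subtype hSC)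
  have hleS : A.map (MulAut.conj (n * g)).toMonoidHom ≤ (S : Subgroup G) := by
    rintro _ ⟨a', ha', rfl⟩
    have := hn' ⟨g * a' * g⁻¹, ⟨a', ha', rfl⟩, rfl⟩
    rw [Sylow.coe_subtype, subgroupOf_map_subtype] at this
    have h1 : _ ∈ (S : Subgroup G) := this.1
    simpa [mul_assoc] using h1
  refine ⟨n * g, hT.mem_normalizer_of_map (hT.conj_eq hleS), ?_⟩
  rw [show n * g * a * (n * g)⁻¹ = n * (g * a * g⁻¹) * n⁻¹ by group, ← hz,
    mem_centralizer_singleton_iff.1 hn, mul_inv_cancel_right]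

/-- If the normaliser of `A` does not move `A ⊓ B`, then `B` is strongly closed. -/
theorem closed_of_not_moved
    (hc : ∀ x ∈ normalizer (A : Set G), ∀ z ∈ A ⊓ B, x * z * x⁻¹ ∈ A ⊓ B) :
    SC S B := by
  haveI : Fact (Nat.Prime 2) := ⟨Nat.prime_two⟩
  have hfus : ∀ a ∈ A, ∀ g : G, g * a * g⁻¹ ∈ A ⊓ B → a ∈ B := by
    intro a ha g hg
    obtain ⟨x, hx, e⟩ := hT.conj_in_normalizer ha hg
    rw [← e] at hg
    have h1 := hc x⁻¹ (inv_mem hx) _ hg
    simp only [inv_inv, ← mul_assoc, inv_mul_cancel, one_mul, inv_mul_cancel_right] at h1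
    exact h1.2
  refine ⟨fun b hb b' hb' => hT.comm_right hb hb', hT.leB, fun b hb g hg => ?_⟩
  set c := g * b * g⁻¹ with hc'
  have hcc : c * c = 1 := by
    rw [hc', show g * b * g⁻¹ * (g * b * g⁻¹) = g * (b * b) * g⁻¹ by group, hT.sqB b hb]; group
  rcases hT.mem_or hg hcc with hcA | hcB
  swap
  · exact hcB
  by_contra hcB
  have hbA : b ∉ A := fun hbA => hcB (hfus c hcA g⁻¹ (by
    rw [hc', show g⁻¹ * (g * b * g⁻¹) * g⁻¹⁻¹ = b by group]; exact ⟨hbA, hb⟩))
  -- `A` is a Sylow subgroup of the centraliser of `c`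
  have hle : B.map (MulAut.conj g).toMonoidHom ≤ centralizer ({c} : Set G) := by
    rintro _ ⟨b', hb', rfl⟩
    refine mem_centralizer_singleton_iff.2 ?_
    exact ((show Commute b' b from hT.comm_right hb' hb).map (MulAut.conj g).toMonoidHom).eq
  have hAC : A ≤ centralizer ({c} : Set G) := fun a ha =>
    mem_centralizer_singleton_iff.2 (hT.comm_left ha hcA)
  have hAsyl : ∀ R : Subgroup G, IsPGroup 2 R → A ≤ R → R ≤ centralizer ({c} : Set G) → R = A := by
    intro R hR hAR hRC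
    obtain ⟨P, hP⟩ := hR.exists_le_sylow
    obtain ⟨k, hk⟩ := LESylow.exists_conj_eq P S
    have hkS : ∀ x ∈ R, k * x * k⁻¹ ∈ (S : Subgroup G) := fun x hx => hk ▸ ⟨x, hP hx, rfl⟩
    have hkN : k ∈ normalizer (A : Set G) := hT.mem_normalizer_of_map (hT.conj_eq (by
      rintro _ ⟨a, ha, rfl⟩; exact hkS a (hAR ha)))
    refine le_antisymm (fun x hx => ?_) hAR
    have hkx : k * x * k⁻¹ ∈ A := by
      by_contra hn
      have h1 : k * c * k⁻¹ ∈ A := (mem_normalizer_iff.1 hkN c).1 hcA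
      refine hcB (hfus c hcA k (hT.self (hkS x hx) hn h1 ?_))
      exact (show Commute x c from mem_centralizer_singleton_iff.1 (hRC hx)).map
        (MulAut.conj k).toMonoidHom
    simpa [mul_assoc] using (mem_normalizer_iff.1 (inv_mem hkN) _).1 hkx
  obtain ⟨R, hR⟩ := ((S.isPGroup'.to_le hT.leA).comap_of_injective (centralizer ({c} : Set G)).subtype
    (subtype_injective _)).exists_le_sylow
  have hRA : (R : Subgroup _).map (centralizer ({c} : Set G)).subtype = A :=
    hAsyl _ (R.isPGroup'.map _) (fun a ha => ⟨⟨a, hAC ha⟩, hR ha, rfl⟩) (map_subtype_le _)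
  obtain ⟨m, hm, hm'⟩ := LESylow.exists_conj_le_of_le hle ((S.isPGroup'.to_le hT.leB).map _) R
  rw [hRA] at hm'
  have hleS : B.map (MulAut.conj (m * g)).toMonoidHom ≤ A := by
    rintro _ ⟨b', hb', rfl⟩
    have := hm' ⟨g * b' * g⁻¹, ⟨b', hb', rfl⟩, rfl⟩
    simpa [mul_assoc] using this
  have h1 := hT.symm.conj_eq (hleS.trans hT.leA)
  obtain ⟨b0, hb0, hb0A⟩ := hT.exB
  exact hb0A (hleS (h1.symm ▸ hb0))

theorem sup_eq : A ⊔ B = (S : Subgroup G) := by
  refine le_antisymm (sup_le hT.leA hT.leB) fun s hs => ?_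
  obtain ⟨a, ha, b, hb, rfl⟩ := hT.prod s hs
  exact mul_mem_sup ha hb

/-- The side of `A`, when the normaliser of `A` moves `A ⊓ B`. -/
theorem sideHyp (h4 : 4 ≤ A.relIndex (S : Subgroup G))
    (ho : ∃ x ∈ normalizer (A : Set G), ∃ z ∈ A ⊓ B, x * z * x⁻¹ ∉ A ⊓ B) :
    SideHyp (S : Subgroup G) A (A ⊓ B) where
  index := S.not_dvd_index
  two := S.isPGroup'
  A_le := hT.leA
  Z_le := inf_le_left
  sq := hT.sqA
  norm := hT.normA
  central _ hs _ hz := hT.central hz hs
  quad _ hs _ ha := hT.quad hs ha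
  self _ hs hn _ ha hc := hT.self hs hn ha hc
  four := h4
  open_ := ho

theorem closed_or_side (h4 : 4 ≤ A.relIndex (S : Subgroup G)) :
    SC S B ∨ SideHyp (S : Subgroup G) A (A ⊓ B) := by
  by_cases ho : ∃ x ∈ normalizer (A : Set G), ∃ z ∈ A ⊓ B, x * z * x⁻¹ ∉ A ⊓ B
  · exact Or.inr (hT.sideHyp h4 ho)
  · push Not at ho
    exact Or.inl (hT.closed_of_not_moved ho)

theorem two_le_relIndex : 2 ≤ A.relIndex (S : Subgroup G) := by
  rcases Nat.lt_or_ge (A.relIndex (S : Subgroup G)) 2 with h | h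
  swap
  · exact h
  have h0 : A.relIndex (S : Subgroup G) ≠ 0 := index_ne_zero_of_finite
  have h1 : A.relIndex (S : Subgroup G) = 1 := by omega
  obtain ⟨b, hb, hbA⟩ := hT.exB
  exact absurd (relIndex_eq_one.1 h1 (hT.leB hb)) hbA

theorem relIndex_two_or_four : A.relIndex (S : Subgroup G) = 2 ∨ 4 ≤ A.relIndex (S : Subgroup G) := by
  haveI : Fact (Nat.Prime 2) := ⟨Nat.prime_two⟩
  obtain ⟨n, hn⟩ := S.isPGroup'.index (A.subgroupOf (S : Subgroup G))
  have h2 := hT.two_le_relIndex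
  rw [show A.relIndex (S : Subgroup G) = 2 ^ n from hn] at h2 ⊢
  rcases n with _ | _ | n
  · omega
  · exact Or.inl rfl
  · exact Or.inr (by rw [pow_succ, pow_succ]; have := Nat.one_le_two_pow (n := n); omega)

/-- The four cases. -/
theorem cases : SC S A ∨ SC S B ∨
    (A.relIndex (S : Subgroup G) = 2 ∧ B.relIndex (S : Subgroup G) = 2) ∨
    (SideHyp (S : Subgroup G) A (A ⊓ B) ∧ SideHyp (S : Subgroup G) B (A ⊓ B) ∧
      A.relIndex (S : Subgroup G) = B.relIndex (S : Subgroup G)) := by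
  have hsymm : B ⊓ A = A ⊓ B := inf_comm _ _
  have eB : B.relIndex (S : Subgroup G) = (A ⊓ B).relIndex A :=
    (relIndex_of_sup hT.symm.normA ((sup_comm B A).trans hT.sup_eq)).trans (by rw [hsymm])
  have eA : A.relIndex (S : Subgroup G) = (A ⊓ B).relIndex B := relIndex_of_sup hT.normA hT.sup_eq
  rcases hT.relIndex_two_or_four with ha | ha
  · rcases hT.symm.relIndex_two_or_four with hb | hb
    · exact Or.inr (Or.inr (Or.inl ⟨ha, hb⟩))
    · rcases hT.symm.closed_or_side hb with h | h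
      · exact Or.inl h
      · exfalso
        rw [hsymm] at h
        have := h.card_le
        omega
  rcases hT.closed_or_side ha with h | h
  · exact Or.inr (Or.inl h)
  rcases hT.symm.relIndex_two_or_four with hb | hb
  · exfalso
    have := h.card_le
    omega
  rcases hT.symm.closed_or_side hb with h' | h'
  · exact Or.inl h'
  · rw [hsymm] at h'
    exact Or.inr (Or.inr (Or.inr ⟨h, h', (eq_of_both h h' hT.sup_eq rfl).2.2⟩))

end TwoEA

end Cfsg.Agent.ABRec
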