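import Cfsg.Agent.Lib.ABRec.PlaneScalar
import Cfsg.Agent.Lib.SymDesign.Main

/-!
Type `L₃` recognised: any two points are collinear, so points and lines form a design with `λ = 1` on which the
group is 2-transitive, and the theorem of Ito gives `PSL₃(F)`, `|F| = q`.
-/

set_option autoImplicit false
set_option linter.style.haveILetI false
set_option linter.unusedSectionVars false

namespace Cfsg.Agent.ABRec

open Subgroup
open scoped Matrix

universe u

section Perms

variable {α : Type*} [DecidableEq α] {a b c d e : α}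

theorem swap_pair_invol (hab : a ≠ b) (had : a ≠ d) (hae : a ≠ e) (hbd : b ≠ d) (hbe : b ≠ e) (hde : d ≠ e) (y : α) :
    (Equiv.swap a b * Equiv.swap d e) ((Equiv.swap a b * Equiv.swap d e) y) = y := by
  simp only [Equiv.Perm.mul_apply, Equiv.swap_apply_def]
  grind

theorem swap_pair_fix (had : a ≠ d) (hae : a ≠ e) (hbd : b ≠ d) (hbe : b ≠ e) (y : α) :
    ((Equiv.swap a b * Equiv.swap d e) y = d ∨ (Equiv.swap a b * Equiv.swap d e) y = e) ↔ (y = d ∨ y = e) := by
  simp only [Equiv.Perm.mul_apply, Equiv.swap_apply_def]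
  grind

theorem swap_pair_cycle (hab : a ≠ b) (hac : a ≠ c) (hbc : b ≠ c) (had : a ≠ d) (hae : a ≠ e) (hbd : b ≠ d)
    (hbe : b ≠ e) (hcd : c ≠ d) (hce : c ≠ e) (hde : d ≠ e) :
    Equiv.swap b c * Equiv.swap d e * (Equiv.swap a b * Equiv.swap d e) =
      Equiv.swap b c * Equiv.swap a b := by
  ext y
  simp only [Equiv.Perm.mul_apply, Equiv.swap_apply_def]
  grind

theorem swap_swap_cube (hab : a ≠ b) (hac : a ≠ c) (hbc : b ≠ c) :
    Equiv.swap b c * Equiv.swap a b * (Equiv.swap b c * Equiv.swap a b * (Equiv.swap b c * Equiv.swap a b)) = 1 := by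
  ext y
  simp only [Equiv.Perm.mul_apply, Equiv.swap_apply_def, Equiv.Perm.one_apply]
  grind

end Perms

/-- In `PSL(k, F)`, `k ≥ 5`, odd characteristic, two involutions with product of order three commute with a third. -/
theorem exists_involutions_psl (F : Type) [Field F] [Fintype F] (h2 : (2 : F) ≠ 0) {k : ℕ} (hk : 5 ≤ k) :
    ∃ z i j : Matrix.ProjectiveSpecialLinearGroup (Fin k) F, z * z = 1 ∧ z ≠ 1 ∧ i * i = 1 ∧ j * j = 1 ∧
      Commute i z ∧ Commute j z ∧ (i * j) ^ 3 = 1 ∧ i * j ≠ 1 := by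
  classical
  let x : Fin 5 → Fin k := Fin.castLE hk
  have hx : ∀ {a b : Fin 5}, a ≠ b → x a ≠ x b := fun h e => h (Fin.castLE_injective hk e)
  let σ : Equiv.Perm (Fin k) := Equiv.swap (x 0) (x 1) * Equiv.swap (x 3) (x 4)
  let τ : Equiv.Perm (Fin k) := Equiv.swap (x 1) (x 2) * Equiv.swap (x 3) (x 4)
  let d : Fin k → F := fun a => if a = x 3 ∨ a = x 4 then -1 else 1
  have hdet : ∀ π : Equiv.Perm (Fin k), Equiv.Perm.sign π = 1 → (π.permMatrix F).det = 1 := fun π h => by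
    rw [Matrix.det_permutation, h]; simp
  have hσ : Equiv.Perm.sign σ = 1 := by
    simp [σ, Equiv.Perm.sign_swap (hx (show (0 : Fin 5) ≠ 1 by decide)),
      Equiv.Perm.sign_swap (hx (show (3 : Fin 5) ≠ 4 by decide))]
  have hτ : Equiv.Perm.sign τ = 1 := by
    simp [τ, Equiv.Perm.sign_swap (hx (show (1 : Fin 5) ≠ 2 by decide)),
      Equiv.Perm.sign_swap (hx (show (3 : Fin 5) ≠ 4 by decide))]
  have hd : (Matrix.diagonal d).det = 1 := by
    rw [Matrix.det_diagonal, Finset.prod_ite, Finset.prod_const_one, mul_one, Finset.prod_const]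
    have : (Finset.univ.filter fun a => a = x 3 ∨ a = x 4) = {x 3, x 4} := by ext a; simp
    rw [this, Finset.card_pair (hx (show (3 : Fin 5) ≠ 4 by decide))]
    ring
  let P : ∀ π : Equiv.Perm (Fin k), Equiv.Perm.sign π = 1 → Matrix.SpecialLinearGroup (Fin k) F :=
    fun π h => ⟨π.permMatrix F, hdet π h⟩
  let D : Matrix.SpecialLinearGroup (Fin k) F := ⟨Matrix.diagonal d, hd⟩
  have hσσ : ∀ a, σ (σ a) = a := swap_pair_invol (hx (show (0 : Fin 5) ≠ 1 by decide)) (hx (show (0 : Fin 5) ≠ 3 by decide)) (hx (show (0 : Fin 5) ≠ 4 by decide)) (hx (show (1 : Fin 5) ≠ 3 by decide)) (hx (show (1 : Fin 5) ≠ 4 by decide)) (hx (show (3 : Fin 5) ≠ 4 by decide))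
  have hττ : ∀ a, τ (τ a) = a := swap_pair_invol (hx (show (1 : Fin 5) ≠ 2 by decide)) (hx (show (1 : Fin 5) ≠ 3 by decide)) (hx (show (1 : Fin 5) ≠ 4 by decide)) (hx (show (2 : Fin 5) ≠ 3 by decide)) (hx (show (2 : Fin 5) ≠ 4 by decide)) (hx (show (3 : Fin 5) ≠ 4 by decide))
  have hmul : ∀ (π π' : Equiv.Perm (Fin k)) h h', ((P π h * P π' h' : Matrix.SpecialLinearGroup (Fin k) F) :
      Matrix (Fin k) (Fin k) F) = (π' * π).permMatrix F := fun π π' h h' => by
    rw [Matrix.permMatrix_mul]; rfl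
  have hcomm : ∀ (π : Equiv.Perm (Fin k)) h, (∀ a, d (π a) = d a) → Commute (P π h) D := fun π h hπ => by
    refine Subtype.ext ?_
    show π.permMatrix F * Matrix.diagonal d = Matrix.diagonal d * π.permMatrix F
    ext a b
    rw [Matrix.mul_diagonal, Matrix.diagonal_mul]
    by_cases hab : π a = b
    · subst hab; simp [Equiv.Perm.permMatrix, PEquiv.toMatrix_apply, hπ]
    · simp [Equiv.Perm.permMatrix, PEquiv.toMatrix_apply, hab]
  have hdσ : ∀ a, d (σ a) = d a := fun a =>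
    if_congr (swap_pair_fix (hx (show (0 : Fin 5) ≠ 3 by decide)) (hx (show (0 : Fin 5) ≠ 4 by decide)) (hx (show (1 : Fin 5) ≠ 3 by decide)) (hx (show (1 : Fin 5) ≠ 4 by decide)) a) rfl rfl
  have hdτ : ∀ a, d (τ a) = d a := fun a =>
    if_congr (swap_pair_fix (hx (show (1 : Fin 5) ≠ 3 by decide)) (hx (show (1 : Fin 5) ≠ 4 by decide)) (hx (show (2 : Fin 5) ≠ 3 by decide)) (hx (show (2 : Fin 5) ≠ 4 by decide)) a) rfl rfl
  have hts : τ * σ = Equiv.swap (x 1) (x 2) * Equiv.swap (x 0) (x 1) :=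
    swap_pair_cycle (hx (show (0 : Fin 5) ≠ 1 by decide)) (hx (show (0 : Fin 5) ≠ 2 by decide)) (hx (show (1 : Fin 5) ≠ 2 by decide)) (hx (show (0 : Fin 5) ≠ 3 by decide)) (hx (show (0 : Fin 5) ≠ 4 by decide)) (hx (show (1 : Fin 5) ≠ 3 by decide)) (hx (show (1 : Fin 5) ≠ 4 by decide)) (hx (show (2 : Fin 5) ≠ 3 by decide)) (hx (show (2 : Fin 5) ≠ 4 by decide)) (hx (show (3 : Fin 5) ≠ 4 by decide))
  have hcyc : τ * σ * (τ * σ * (τ * σ)) = 1 := by
    rw [hts]
    exact swap_swap_cube (hx (show (0 : Fin 5) ≠ 1 by decide)) (hx (show (0 : Fin 5) ≠ 2 by decide)) (hx (show (1 : Fin 5) ≠ 2 by decide))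
  let mk := QuotientGroup.mk' (Subgroup.center (Matrix.SpecialLinearGroup (Fin k) F))
  refine ⟨mk D, mk (P σ hσ), mk (P τ hτ), ?_, ?_, ?_, ?_, (hcomm σ hσ hdσ).map mk, (hcomm τ hτ hdτ).map mk, ?_, ?_⟩
  · rw [← map_mul, show D * D = 1 from Subtype.ext (by
      show Matrix.diagonal d * Matrix.diagonal d = 1
      rw [Matrix.diagonal_mul_diagonal, show (fun i => d i * d i) = fun _ => (1 : F) from funext fun a => by
        simp only [d]; split <;> ring, Matrix.diagonal_one]), map_one]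
  · intro h
    obtain ⟨r, -, hr⟩ := Matrix.SpecialLinearGroup.mem_center_iff.1 ((QuotientGroup.eq_one_iff D).1 h)
    have e0 : Matrix.scalar (Fin k) r (x 0) (x 0) = Matrix.diagonal d (x 0) (x 0) := by rw [hr]
    have e3 : Matrix.scalar (Fin k) r (x 3) (x 3) = Matrix.diagonal d (x 3) (x 3) := by rw [hr]
    simp [d, hx (show (0 : Fin 5) ≠ 3 by decide), hx (show (0 : Fin 5) ≠ 4 by decide)] at e0 e3
    exact h2 (by linear_combination e3 - e0)
  · rw [← map_mul, show P σ hσ * P σ hσ = 1 from Subtype.ext (by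
      rw [hmul σ σ hσ hσ, show σ * σ = 1 from Equiv.ext hσσ, Matrix.permMatrix_one]; rfl), map_one]
  · rw [← map_mul, show P τ hτ * P τ hτ = 1 from Subtype.ext (by
      rw [hmul τ τ hτ hτ, show τ * τ = 1 from Equiv.ext hττ, Matrix.permMatrix_one]; rfl), map_one]
  · have h3 : (P σ hσ * P τ hτ) ^ 3 = 1 := Subtype.ext (by
      rw [Matrix.SpecialLinearGroup.coe_pow, hmul σ τ hσ hτ, pow_succ, pow_two, ← Matrix.permMatrix_mul,
        ← Matrix.permMatrix_mul, hcyc, Matrix.permMatrix_one]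
      rfl)
    rw [← map_mul, ← map_pow, h3, map_one]
  · intro h
    rw [← map_mul] at h
    obtain ⟨r, -, hr⟩ := Matrix.SpecialLinearGroup.mem_center_iff.1 ((QuotientGroup.eq_one_iff _).1 h)
    rw [hmul σ τ hσ hτ] at hr
    have h01 : (τ * σ) (x 0) = x 2 := by
      rw [hts, Equiv.Perm.mul_apply, Equiv.swap_apply_left, Equiv.swap_apply_left]
    have e : Matrix.scalar (Fin k) r (x 0) (x 2) = (τ * σ).permMatrix F (x 0) (x 2) := by rw [hr]
    simp [Equiv.Perm.permMatrix, PEquiv.toMatrix_apply, hx (show (0 : Fin 5) ≠ 2 by decide)] at e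
    simp [Equiv.Perm.mul_apply] at h01
    exact e h01

variable {G : Type u} [Group G] [Finite G] {S : Sylow 2 G} {A B : Subgroup G} {q : ℕ}

namespace L3

variable (H : L3 S A B q)
include H

/-- Any two points are collinear. -/
theorem col_all (g : G) : Col A B g := by
  classical
  obtain ⟨F, i1, i2, i3, hF, ⟨c⟩⟩ := H.exists_coord
  set NA := normalizer (A : Set G) with hNA
  haveI : Fintype (G ⧸ NA) := Fintype.ofFinite _
  haveI := Fintype.ofFinite G
  have hout : ∀ a : G, a⁻¹ * ((a : G ⧸ NA)).out ∈ NA := fun a =>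
    QuotientGroup.eq.1 (QuotientGroup.out_eq' (a : G ⧸ NA)).symm
  have hcol : ∀ a b : G, Col A B (((a : G ⧸ NA)).out⁻¹ * ((b : G ⧸ NA)).out) ↔ Col A B (a⁻¹ * b) := fun a b => by
    rw [show ((a : G ⧸ NA)).out⁻¹ * ((b : G ⧸ NA)).out =
      (a⁻¹ * ((a : G ⧸ NA)).out)⁻¹ * (a⁻¹ * b) * (b⁻¹ * ((b : G ⧸ NA)).out) by group,
      col_mul_right_iff (hout b), col_mul_left_iff (inv_mem (hout a))]
  by_contra hg
  let R : G ⧸ NA → G ⧸ NA → Prop := fun x y => ¬ Col A B (x.out⁻¹ * y.out)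
  let M := (Finset.univ.filter fun x : G ⧸ NA => ¬ Col A B x.out).card
  have hM : ∀ x : G ⧸ NA, (Finset.univ.filter fun y => R x y).card = M := by
    intro x
    refine Finset.card_equiv (MulAction.toPerm x.out⁻¹) fun y => ?_
    simp only [Finset.mem_filter, Finset.mem_univ, true_and, R, MulAction.toPerm_apply]
    obtain ⟨b, rfl⟩ := QuotientGroup.mk_surjective y
    rw [MulAction.Quotient.smul_coe, smul_eq_mul]
    refine not_congr ?_
    rw [show x.out⁻¹ * (b : G ⧸ NA).out = x.out⁻¹ * b * (b⁻¹ * (b : G ⧸ NA).out) by group, col_mul_right_iff (hout b),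
      show ((x.out⁻¹ * b : G) : G ⧸ NA).out =
        x.out⁻¹ * b * ((x.out⁻¹ * b)⁻¹ * ((x.out⁻¹ * b : G) : G ⧸ NA).out) by group,
      col_mul_right_iff (hout (x.out⁻¹ * b))]
  have hMpos : 0 < M := Finset.card_pos.2 ⟨(g : G ⧸ NA), by
    simp only [Finset.mem_filter, Finset.mem_univ, true_and]
    rw [show ((g : G ⧸ NA)).out = g * (g⁻¹ * ((g : G ⧸ NA)).out) by group, col_mul_right_iff (hout g)]
    exact hg⟩
  let T : Finset G := Finset.univ.filter fun t => t * t = 1 ∧ t ≠ 1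
  have hT : ∀ {t}, t ∈ T ↔ t * t = 1 ∧ t ≠ 1 := by simp [T]
  have h1 : ∀ t ∈ T, (Finset.univ.filter fun x : G ⧸ NA => R x (t • x)).card = M := by
    intro t ht
    obtain ⟨htt, ht1⟩ := hT.1 ht
    obtain ⟨h, hh⟩ := H.exists_centre htt
    rw [← hM (h : G ⧸ NA)]
    refine congrArg Finset.card (Finset.filter_congr fun x _ => not_congr ?_)
    obtain ⟨a, rfl⟩ := QuotientGroup.mk_surjective x
    rw [MulAction.Quotient.smul_coe, smul_eq_mul, hcol, hcol, ← mul_assoc]
    exact H.col_conj_iff htt ht1 hh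
  have h3 : T.card = Fintype.card (G ⧸ NA) * (q * q - 1) := by
    rw [← H.card_A, Nat.card_eq_fintype_card, ← Finset.card_univ (α := G ⧸ NA),
      ← Finset.card_univ (α := A), ← Finset.card_erase_of_mem (Finset.mem_univ (1 : A)), ← Finset.card_product]
    refine (Finset.card_bij (fun p _ => p.1.out * (p.2 : G) * p.1.out⁻¹) ?_ ?_ ?_).symm
    · rintro ⟨x, a⟩ hp
      have ha := Finset.ne_of_mem_erase (Finset.mem_product.1 hp).2
      refine hT.2 ⟨?_, fun e => ha (Subtype.ext (by simpa using e))⟩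
      rw [show x.out * (a : G) * x.out⁻¹ * (x.out * a * x.out⁻¹) = x.out * ((a : G) * a) * x.out⁻¹ by group,
        H.two.cfg.sqA a.2, mul_one, mul_inv_cancel]
    · rintro ⟨x, a⟩ hp ⟨y, b⟩ hp' e
      have ha := Finset.ne_of_mem_erase (Finset.mem_product.1 hp).2
      have hN := H.centre_unique (t := x.out * (a : G) * x.out⁻¹) (g := x.out) (h := y.out)
        (fun e1 => ha (Subtype.ext (by simpa using e1)))
        (by rw [show x.out⁻¹ * (x.out * (a : G) * x.out⁻¹) * x.out = a by group]; exact a.2)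
        (by
          rw [show x.out * (a : G) * x.out⁻¹ = y.out * (b : G) * y.out⁻¹ from e,
            show y.out⁻¹ * (y.out * (b : G) * y.out⁻¹) * y.out = b by group]
          exact b.2)
      obtain rfl : x = y := by rw [← QuotientGroup.out_eq' x, ← QuotientGroup.out_eq' y]; exact QuotientGroup.eq.2 hN
      exact Prod.ext rfl (Subtype.ext (mul_left_cancel (mul_right_cancel e)))
    · intro t ht
      obtain ⟨htt, ht1⟩ := hT.1 ht
      obtain ⟨h, hh⟩ := H.exists_centre htt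
      have ha := (mem_normalizer_iff.1 (inv_mem (hout h)) _).1 hh
      rw [show (h⁻¹ * ((h : G ⧸ NA)).out)⁻¹ * (h⁻¹ * t * h) * (h⁻¹ * ((h : G ⧸ NA)).out)⁻¹⁻¹ =
        ((h : G ⧸ NA)).out⁻¹ * t * ((h : G ⧸ NA)).out by group] at ha
      refine ⟨((h : G ⧸ NA), ⟨_, ha⟩), Finset.mem_product.2 ⟨Finset.mem_univ _, Finset.mem_erase.2 ⟨fun e => ht1 ?_,
        Finset.mem_univ _⟩⟩, by group⟩
      have := congrArg (fun z : A => ((h : G ⧸ NA)).out * (z : G) * ((h : G ⧸ NA)).out⁻¹) e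
      simpa [mul_assoc] using this
  obtain ⟨x, y, hR, hj⟩ := exists_heavy_pair T (fun t z => t • z) R hMpos h1 hM h3
  set h := x.out⁻¹ * y.out with hh
  let T' : Finset G := (T.filter fun t => t • x = y).image fun t => x.out⁻¹ * t * x.out
  have hT' : ∀ t ∈ T', t * t = 1 ∧ t ≠ 1 ∧ t⁻¹ * h ∈ NA := by
    intro t' ht'
    obtain ⟨t, ht, rfl⟩ := Finset.mem_image.1 ht'
    obtain ⟨htT, htx⟩ := Finset.mem_filter.1 ht
    obtain ⟨htt, ht1⟩ := hT.1 htT
    refine ⟨?_, fun e => ht1 ?_, ?_⟩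
    · rw [show x.out⁻¹ * t * x.out * (x.out⁻¹ * t * x.out) = x.out⁻¹ * (t * t) * x.out by group, htt, mul_one,
        inv_mul_cancel]
    · have := congrArg (fun z => x.out * z * x.out⁻¹) e
      simpa [mul_assoc] using this
    · rw [← QuotientGroup.out_eq' x, ← QuotientGroup.out_eq' y, MulAction.Quotient.smul_coe, smul_eq_mul] at htx
      have := QuotientGroup.eq.1 htx
      rwa [show (x.out⁻¹ * t * x.out)⁻¹ * h = (t * x.out)⁻¹ * y.out by rw [hh]; group]
  refine absurd (c.swap_bound H hF hR T' (fun t ht => ⟨(hT' t ht).1, (hT' t ht).2.2⟩) ?_) (by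
    rw [Finset.card_image_of_injective _ fun a b e => mul_left_cancel (mul_right_cancel e)]
    omega)
  intro t₀ ht₀ t₁ ht₁ t₂ ht₂ γ hk
  obtain ⟨h00, -, hh0⟩ := hT' t₀ ht₀
  obtain ⟨h11, -, hh1⟩ := hT' t₁ ht₁
  obtain ⟨h22, -, hh2⟩ := hT' t₂ ht₂
  obtain ⟨k, hkdef⟩ : ∃ k, k = (t₀ * t₂)⁻¹ * (t₀ * t₁) := ⟨_, rfl⟩
  rw [← hkdef] at hk
  have i0 := inv_eq_of_mul_eq_one_right h00
  have i1 := inv_eq_of_mul_eq_one_right h11
  have i2 := inv_eq_of_mul_eq_one_right h22
  have hk12 : k = t₂ * t₁ := by rw [hkdef]; group; rw [zpow_neg, zpow_one, i2]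
  by_contra hne
  have hk1 : k ≠ 1 := fun e => hne ((eq_inv_of_mul_eq_one_left (hk12 ▸ e)).trans i1).symm
  have hkodd : Odd (orderOf k) := H.odd_of_fixed hR hk.1 (by
    rw [hk12, show h⁻¹ * (t₂ * t₁) * h = (t₂⁻¹ * h)⁻¹ * (t₁⁻¹ * h) by rw [i1]; group]
    exact mul_mem (inv_mem hh2) hh1)
  have hγ : γ ≠ 1 := fun e => by
    have hkA := c.mem_A H hk.1 fun v => by rw [hk.2, e, one_smul]
    have hd2 : orderOf k ∣ 2 := orderOf_dvd_of_pow_eq_one (by rw [pow_two, H.two.cfg.sqA hkA])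
    rcases (Nat.dvd_prime Nat.prime_two).1 hd2 with h' | h'
    · exact hk1 (orderOf_eq_one_iff.1 h')
    · rw [h'] at hkodd; exact absurd hkodd (by decide)
  have hd : t₀ * t₂ ∈ NA := by
    have := mul_mem hh0 (inv_mem hh2)
    simpa [mul_assoc, i0] using this
  obtain ⟨γ', hkd, hγ'⟩ := c.scalar_conj H hk hd
  have hcd := c.centralizer_scalar_le H hF hkd (hγ' hγ)
  obtain ⟨b, hb, hbA⟩ := H.two.cfg.twoEA.exB
  obtain ⟨u, huB, hue, huA⟩ := c.exists_fixed H hk hγ (H.two.cfg.B_le hb)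
  have hu1 : u ≠ 1 := fun e => hbA (by simpa [e] using huA)
  have hmem : t₀ * u * t₀ ∈ NA := by
    refine hcd (mem_centralizer_singleton_iff.2 ?_)
    have e1 : t₀ * t₂ * k * (t₀ * t₂)⁻¹ = (t₀ * k * t₀)⁻¹ := by
      rw [hk12]
      simp only [mul_inv_rev, i0, i1, i2, mul_assoc]
      rw [← mul_assoc t₂ t₂, h22, one_mul]
    rw [e1]
    have := (hue.map (MulAut.conj t₀).toMonoidHom)
    simp only [MulEquiv.toMonoidHom_eq_coe, MonoidHom.coe_coe, MulAut.conj_apply, i0] at this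
    exact this.inv_left.symm.eq
  refine hR (H.col_of_fixed hu1 (H.two.cfg.sqB huB) (H.two.cfg.twoEA.normA (H.two.cfg.B_le huB)) ?_)
  have := mul_mem (mul_mem (inv_mem hh0) hmem) hh0
  rwa [show (t₀⁻¹ * h)⁻¹ * (t₀ * u * t₀) * (t₀⁻¹ * h) = h⁻¹ * (t₀ * t₀) * u * (t₀ * t₀⁻¹) * h by group,
    h00, mul_one, mul_inv_cancel, mul_one] at this

theorem card_points : Nat.card (G ⧸ normalizer (A : Set G)) = 1 + (q + 1) * q := by
  rw [← H.card_colPts, show colPts A B = Set.univ from Set.eq_univ_of_forall fun x => by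
    obtain ⟨a, rfl⟩ := QuotientGroup.mk_surjective x
    exact mem_colPts.2 (H.col_all a), Set.ncard_univ]

/-- Recognition of type `L₃`. -/
theorem plane [IsSimpleGroup G] :
    ∃ (F : Type) (_ : Field F) (_ : Fintype F), Fintype.card F = q ∧
      Nonempty (G ≃* Matrix.ProjectiveSpecialLinearGroup (Fin 3) F) := by
  classical
  have hq4 := H.two.four_le
  set NA := normalizer (A : Set G) with hNA
  set NB := normalizer (B : Set G) with hNB
  haveI : Fintype (G ⧸ NA) := Fintype.ofFinite _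
  obtain ⟨w', hw', hw'A, hcov, -⟩ := H.symm.cent.lines H.symm.two
  obtain ⟨w, hw, hwB, hcovA, -⟩ := H.cent.lines H.two
  let o : G ⧸ NA := ((1 : G) : G ⧸ NA)
  have hSA : (S : Subgroup G) ≤ NA := H.two.cfg.twoEA.normA
  have hSB : (S : Subgroup G) ≤ NB := H.symm.two.cfg.twoEA.normA
  -- other points of the line `B`
  have hline : ∀ m ∈ NB, m ∉ NA → ∃ s ∈ (S : Subgroup G), (m : G ⧸ NA) = ((s * w' : G) : G ⧸ NA) := by
    intro m hm hmA
    obtain ⟨s, hs, h⟩ := (hcov m hm).resolve_left hmA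
    exact ⟨s, hs, (QuotientGroup.eq.2 h).symm⟩
  have hother : ∀ x : G ⧸ NA, x ≠ o → ∃ n ∈ NA, n • ((w' : G) : G ⧸ NA) = x := by
    intro x hx
    obtain ⟨a, rfl⟩ := QuotientGroup.mk_surjective x
    obtain ⟨n, hn, m, hm, r⟩ := H.col_all a
    have hmA : m ∉ NA := fun hmA => hx (QuotientGroup.eq.2 (by
      have h' := mul_mem (mul_mem hn hmA) r
      rw [mul_inv_cancel_left] at h'
      simpa using inv_mem h'))
    obtain ⟨s, hs, e⟩ := hline m hm hmA
    refine ⟨n * s, mul_mem hn (hSA hs), ?_⟩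
    rw [MulAction.Quotient.smul_coe, smul_eq_mul, mul_assoc]
    have : ((n * m : G) : G ⧸ NA) = ((a : G) : G ⧸ NA) := QuotientGroup.eq.2 r
    rw [← this, ← smul_eq_mul, ← smul_eq_mul n m, ← MulAction.Quotient.smul_coe, ← MulAction.Quotient.smul_coe, e]
  have horb : ∀ x : G ⧸ NA, x ∈ MulAction.orbit NB o ↔ x ∈ (fun m : G => (m : G ⧸ NA)) '' (NB : Set G) := by
    intro x
    constructor
    · rintro ⟨⟨m, hm⟩, rfl⟩
      exact ⟨m, hm, by show (m : G ⧸ NA) = m • o; rw [MulAction.Quotient.smul_coe, smul_eq_mul, mul_one]⟩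
    · rintro ⟨m, hm, rfl⟩
      exact ⟨⟨m, hm⟩, by show m • o = (m : G ⧸ NA); rw [MulAction.Quotient.smul_coe, smul_eq_mul, mul_one]⟩
  have horbcard : (MulAction.orbit NB o).ncard = q + 1 := by
    rw [show MulAction.orbit NB o = (fun m : G => (m : G ⧸ NA)) '' (NB : Set G) from Set.ext horb]
    exact H.symm.cent.card_lines H.symm.two
  have hoff : ∀ x : G ⧸ NA, x ∉ MulAction.orbit NB o → ∃ t ∈ NB, t • ((w * w' : G) : G ⧸ NA) = x := by
    intro x hx
    obtain ⟨a, rfl⟩ := QuotientGroup.mk_surjective x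
    obtain ⟨n, hn, m, hm, r⟩ := H.col_all a
    rw [horb] at hx
    have hnB : n ∉ NB := fun h => hx ⟨n * m, mul_mem h hm, QuotientGroup.eq.2 r⟩
    obtain ⟨s, hs, hsn⟩ := (hcovA n hn).resolve_left hnB
    have hr1 : (s * w)⁻¹ * n * m ∉ NA := fun h => hx ⟨1, one_mem _, QuotientGroup.eq.2 (by
      have := mul_mem (mul_mem (mul_mem (hSA hs) hw) h) r
      simpa [mul_assoc] using this)⟩
    obtain ⟨s', hs', e⟩ := hline _ (mul_mem hsn hm) hr1
    obtain ⟨a', ha', b, hb, rfl⟩ := H.two.cfg.prod s' hs'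
    refine ⟨s * (w * a' * w⁻¹), hSB (mul_mem hs (H.two.cfg.A_le ((mem_normalizer_iff.1 hw _).1 ha'))), ?_⟩
    have hbw : ((b * w' : G) : G ⧸ NA) = ((w' : G) : G ⧸ NA) := (QuotientGroup.eq.2 (by
      rw [← mul_assoc]
      have := (mem_normalizer_iff.1 (inv_mem hw') _).1 hb
      simpa using hSA (H.two.cfg.B_le this))).symm
    have e2 : ((a : G) : G ⧸ NA) = (s * w * a') • ((w' : G) : G ⧸ NA) := by
      rw [← hbw, MulAction.Quotient.smul_coe, smul_eq_mul,
        show s * w * a' * (b * w') = (s * w) • (a' * b * w') by rw [smul_eq_mul]; group,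
        ← MulAction.Quotient.smul_coe, ← e, MulAction.Quotient.smul_coe, smul_eq_mul,
        show s * w * ((s * w)⁻¹ * n * m) = n * m by group]
      exact (QuotientGroup.eq.2 r).symm
    rw [e2, MulAction.Quotient.smul_coe, MulAction.Quotient.smul_coe, smul_eq_mul, smul_eq_mul]
    exact congrArg _ (by group)
  have hidx : NB.index = Nat.card (G ⧸ NA) := by rw [H.card_points, Subgroup.index, H.symm.card_points]
  have hcompl : (MulAction.orbit NB o)ᶜ.ncard = q * q := by
    rw [Set.ncard_compl, H.card_points, horbcard, add_mul, one_mul]; omega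
  let d : SymDesign.Datum G (G ⧸ NA) :=
    { H := NB
      B := MulAction.orbit NB o
      a := o
      h2 := fun {a b c e} hab hce => by
        obtain ⟨ga, rfl⟩ := QuotientGroup.mk_surjective a
        obtain ⟨gc, rfl⟩ := QuotientGroup.mk_surjective c
        have h1 : ∀ (g : G) (x : G ⧸ NA), (g : G ⧸ NA) ≠ x → g⁻¹ • x ≠ o := fun g x hne e' => hne (by
          rw [← smul_inv_smul g x, e']
          show _ = g • ((1 : G) : G ⧸ NA)
          rw [MulAction.Quotient.smul_coe, smul_eq_mul, mul_one])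
        obtain ⟨n, hn, en⟩ := hother _ (h1 ga b hab)
        obtain ⟨n', hn', en'⟩ := hother _ (h1 gc e hce)
        refine ⟨gc * n' * n⁻¹ * ga⁻¹, ?_, ?_⟩
        · rw [MulAction.Quotient.smul_coe, smul_eq_mul, show gc * n' * n⁻¹ * ga⁻¹ * ga = gc * (n' * n⁻¹) by group]
          exact QuotientGroup.eq.2 (by simpa using inv_mem (mul_mem hn' (inv_mem hn)))
        · rw [mul_smul, ← en, mul_smul, inv_smul_smul, mul_smul, en', smul_inv_smul]
      idx := hidx
      hB := rfl
      trans_compl := fun x y hx hy => by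
        obtain ⟨t, ht, rfl⟩ := hoff x hx
        obtain ⟨t', ht', rfl⟩ := hoff y hy
        exact ⟨t' * t⁻¹, mul_mem ht' (inv_mem ht), by rw [smul_smul, mul_assoc, inv_mul_cancel, mul_one]⟩
      two_le := by rw [horbcard]; omega
      two_le_compl := by
        rw [hcompl]
        have := Nat.mul_le_mul hq4 hq4
        omega }
  haveI : Fintype (G ⧸ d.H) := Fintype.ofFinite _
  have hne : NA ≠ ⊤ := fun h => by
    have hc := H.card_points
    haveI := QuotientGroup.subsingleton_iff.2 h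
    rw [Nat.card_unique] at hc
    have := Nat.mul_le_mul (show 1 ≤ q + 1 by omega) hq4
    omega
  haveI : FaithfulSMul G (G ⧸ NA) := by
    refine ⟨fun {a b} hab => ?_⟩
    have hk : a⁻¹ * b ∈ (MulAction.toPermHom G (G ⧸ NA)).ker := MonoidHom.mem_ker.2 (Equiv.ext fun x => by
      simp [mul_smul, ← hab x])
    rcases (inferInstance : (MulAction.toPermHom G (G ⧸ NA)).ker.Normal).eq_bot_or_eq_top with h | h
    · rw [h, mem_bot, inv_mul_eq_one] at hk; exact hk
    · refine absurd ((Subgroup.eq_top_iff' _).2 fun t => ?_) hne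
      have ht : t ∈ (MulAction.toPermHom G (G ⧸ NA)).ker := h ▸ mem_top t
      have := Equiv.congr_fun (MonoidHom.mem_ker.1 ht) o
      simp only [MulAction.toPermHom_apply, MulAction.toPerm_apply, Equiv.Perm.one_apply, o,
        MulAction.Quotient.smul_coe, smul_eq_mul, mul_one] at this
      simpa using inv_mem (QuotientGroup.eq.1 this)
  have hlam : d.lam = 1 := by
    have hk := d.k_mul
    have hkq : d.k = q + 1 := horbcard
    have hnq : d.n = 1 + (q + 1) * q := H.card_points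
    rw [hkq, hnq, Nat.add_sub_cancel_left, Nat.add_sub_cancel] at hk
    exact (Nat.eq_of_mul_eq_mul_right (Nat.mul_pos (by omega) (by omega)) ((one_mul _).trans hk)).symm
  obtain ⟨z, hz, hz1⟩ : ∃ z ∈ A ⊓ B, z ≠ 1 := by
    refine (A ⊓ B).bot_or_exists_ne_one.resolve_left fun h => ?_
    have := H.card_Z
    rw [h, card_bot] at this
    omega
  obtain ⟨p, Z, hZ⟩ := d.exists_elem ⟨z, hz1, fun x hx => by
    obtain ⟨m, hm, rfl⟩ := (horb x).1 hx
    show z • ((m : G) : G ⧸ NA) = (m : G ⧸ NA)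
    rw [MulAction.Quotient.smul_coe, smul_eq_mul]
    refine (QuotientGroup.eq.2 ?_).symm
    have := (mem_normalizer_iff.1 (inv_mem hm) _).1 hz.2
    simpa [mul_assoc] using hSA (H.two.cfg.B_le this)⟩
  obtain ⟨m, F, iF, iT, hm, hcard, N, hN, ⟨e⟩, hcen⟩ := SymDesign.Datum.conclusion hZ
    (SymDesign.Datum.hasCoords_of_plane hlam)
  have hNtop : N = ⊤ := by
    refine hN.eq_bot_or_eq_top.resolve_left fun h => ?_
    rw [h] at hcen
    obtain ⟨g, hg⟩ := exists_ne (1 : G)
    refine hg ((Subgroup.eq_bot_iff_forall _).1 hcen g ?_)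
    exact mem_centralizer_iff.2 fun x hx => by rw [mem_bot.1 hx, one_mul, mul_one]
  let e' : G ≃* Matrix.ProjectiveSpecialLinearGroup (Fin (m + 1)) F :=
    (Subgroup.topEquiv.symm.trans (MulEquiv.subgroupCongr hNtop.symm)).trans e
  have hQ : 2 ≤ Fintype.card F := Fintype.one_lt_card
  set Q := Fintype.card F with hQdef
  rw [H.card_points, ← Nat.geomSum_eq hQ, geom_sum_succ] at hcard
  set Sm := ∑ i ∈ Finset.range m, Q ^ i with hSm
  have hkey : Q * Sm = (q + 1) * q := by omega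
  have hSm1 : ∀ j, m = j + 1 → Sm = Q * (∑ i ∈ Finset.range j, Q ^ i) + 1 := fun j hj => by
    rw [hSm, hj, geom_sum_succ]
  have hqeven : 2 ∣ q := by
    obtain ⟨F', i1, i2, i3, hF', -⟩ := H.exists_coord
    obtain ⟨n, -, hn⟩ := FiniteField.card F' 2
    rw [← hF', hn]
    exact dvd_pow_self 2 n.pos.ne'
  obtain ⟨j, hj⟩ : ∃ j, m = j + 1 := ⟨m - 1, by omega⟩
  by_cases hQ2 : 2 ∣ Q
  · -- even: the 2-parts agree
    have hQq : Q = q := by
      obtain ⟨F', i1, i2, i3, hF', -⟩ := H.exists_coord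
      obtain ⟨n, -, hn⟩ := FiniteField.card F' 2
      obtain ⟨p', hp'⟩ := CharP.exists F
      obtain ⟨r, hp, hr⟩ := FiniteField.card F p'
      have hp2 : p' = 2 := by
        have h2 : 2 ∣ p' ^ (r : ℕ) := hr ▸ hQ2
        exact ((Nat.prime_dvd_prime_iff_eq Nat.prime_two hp).1 (Nat.prime_two.dvd_of_dvd_pow h2)).symm
      rw [hF'] at hn
      rw [hp2] at hr
      refine Nat.dvd_antisymm ?_ ?_
      · refine Nat.Coprime.dvd_of_dvd_mul_left ?_ ⟨Sm, hkey.symm⟩
        rw [hQdef, hr]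
        exact Nat.Coprime.pow_left _ (Nat.prime_two.coprime_iff_not_dvd.2 (by omega))
      · refine Nat.Coprime.dvd_of_dvd_mul_right ?_ ⟨q + 1, hkey.trans (mul_comm _ _)⟩
        rw [hn]
        refine Nat.Coprime.pow_left _ (Nat.prime_two.coprime_iff_not_dvd.2 fun h2 => ?_)
        rw [hSm1 j hj] at h2
        have : 2 ∣ Q * (∑ i ∈ Finset.range j, Q ^ i) := dvd_mul_of_dvd_left hQ2 _
        omega
    rw [hQq] at hkey
    have hSq : Sm = q + 1 := Nat.eq_of_mul_eq_mul_left (by omega) (hkey.trans (mul_comm _ _))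
    rw [hSm1 j hj, hQq] at hSq
    have hT1 : ∑ i ∈ Finset.range j, q ^ i = 1 :=
      Nat.eq_of_mul_eq_mul_left (show 0 < q by omega) (by omega)
    rcases j with _ | _ | j
    · omega
    · subst hj
      exact ⟨F, iF, iT, hQq, ⟨e'⟩⟩
    · rw [geom_sum_succ, geom_sum_succ] at hT1
      have : 0 < q * (q * (∑ i ∈ Finset.range j, q ^ i) + 1) := Nat.mul_pos (by omega) (by omega)
      omega
  · exfalso
    have heven : 2 ∣ Q * Sm := hkey ▸ dvd_mul_of_dvd_right hqeven _
    have hSmev : 2 ∣ Sm := (Nat.prime_two.dvd_mul.1 heven).resolve_left hQ2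
    by_cases hm2 : m = 2
    · subst hm2
      rw [hSm, Finset.sum_range_succ, Finset.sum_range_one, pow_zero, pow_one] at hkey
      rcases lt_trichotomy Q q with h | h | h
      · have := Nat.mul_lt_mul_of_lt_of_lt h (show 1 + Q < q + 1 by omega)
        rw [mul_comm q (q + 1)] at this
        omega
      · exact hQ2 (h ▸ hqeven)
      · have := Nat.mul_lt_mul_of_lt_of_lt h (show q + 1 < 1 + Q by omega)
        rw [mul_comm q (q + 1)] at this
        omega
    have hm4 : 4 ≤ m := by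
      rcases Nat.lt_or_ge m 4 with h | h
      · exfalso
        have h3 : m = 3 := by omega
        subst h3
        rw [hSm, Finset.sum_range_succ, Finset.sum_range_succ, Finset.sum_range_one, pow_zero, pow_one] at hSmev
        rw [Nat.two_dvd_ne_zero] at hQ2
        have h22 : Q ^ 2 % 2 = 1 := by rw [Nat.pow_mod, hQ2]
        omega
      · exact h
    have h2F : (2 : F) ≠ 0 := fun h => by
      haveI : CharP F 2 := CharTwo.of_one_ne_zero_of_two_eq_zero one_ne_zero h
      obtain ⟨n, -, hn⟩ := FiniteField.card F 2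
      exact hQ2 (hQdef ▸ hn ▸ dvd_pow_self 2 n.pos.ne')
    obtain ⟨z', i, j', hzz, hz'1, hii, hjj, hiz, hjz, h3, hij⟩ :=
      exists_involutions_psl F h2F (show 5 ≤ m + 1 by omega)
    obtain ⟨g, hg⟩ := H.exists_centre (t := e'.symm z') (by rw [← map_mul, hzz, map_one])
    have hg1 : g⁻¹ * e'.symm z' * g ≠ 1 := fun h => hz'1 (e'.symm.injective (by
      rw [map_one]
      have := congrArg (fun x => g * x * g⁻¹) h
      simpa [mul_assoc] using this))
    obtain ⟨l, -, hl, hl1⟩ := H.fuseA hg hg1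
    let φ : Matrix.ProjectiveSpecialLinearGroup (Fin (m + 1)) F →* G :=
      (MulAut.conj (l * g⁻¹)).toMonoidHom.comp e'.symm.toMonoidHom
    have hφz : φ z' = l * (g⁻¹ * e'.symm z' * g) * l⁻¹ := by
      show l * g⁻¹ * e'.symm z' * (l * g⁻¹)⁻¹ = _
      group
    have hinS : ∀ x, x * x = 1 → Commute x z' → φ x ∈ (S : Subgroup G) := by
      intro x hx hc
      have hN := H.cent.mixed (φ z') (hφz ▸ hl) (hφz ▸ (H.not_side hl1).1) (hφz ▸ (H.not_side hl1).2)
        (mem_centralizer_singleton_iff.2 (hc.map φ).eq)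
      refine mem_sylow_of_normalizer (P := zpowers (φ x)) (IsPGroup.of_card_dvd_pow (n := 1) ?_)
        (zpowers_le.2 hN) (mem_zpowers _)
      rw [Nat.card_zpowers, pow_one]
      exact orderOf_dvd_of_pow_eq_one (by rw [pow_two, ← map_mul, hx, map_one])
    haveI : Fact (Nat.Prime 2) := ⟨Nat.prime_two⟩
    obtain ⟨r, hr⟩ := S.isPGroup' ⟨φ i * φ j', mul_mem (hinS i hii hiz) (hinS j' hjj hjz)⟩
    have h2r : (φ (i * j')) ^ 2 ^ r = 1 := by
      rw [map_mul]; exact congrArg Subtype.val hr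
    have h3r : (φ (i * j')) ^ 3 = 1 := by rw [← map_pow, h3, map_one]
    have hord : orderOf (φ (i * j')) = 1 := Nat.dvd_one.1 (by
      have := Nat.dvd_gcd (orderOf_dvd_of_pow_eq_one h2r) (orderOf_dvd_of_pow_eq_one h3r)
      rwa [(Nat.Coprime.pow_left r (show Nat.Coprime 2 3 by norm_num)).gcd_eq_one] at this)
    have hφinj : Function.Injective φ := (MulAut.conj (l * g⁻¹)).injective.comp e'.symm.injective
    exact hij (hφinj ((orderOf_eq_one_iff.1 hord).trans (map_one φ).symm))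

end L3

/-- The statement for type `L₃`. -/
theorem planeStmt : PlaneStmt.{u} := fun _ _ _ _ _ _ _ _ h2 hC hA => L3.plane ⟨h2, hC, hA⟩

end Cfsg.Agent.ABRec
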