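import Cfsg.Agent.Lib.ABRec.Geo

/-!
The configuration of type `L₃`: every involution has a unique centre; two points lie on at most one line; a point
is collinear with `q (q + 1)` others; an involution fixing a point and moved by it stays within the lines at its
centre; two points that are not collinear are fixed together by no involution.
-/

set_option autoImplicit false
set_option linter.style.haveILetI false
set_option linter.unusedSectionVars false

namespace Cfsg.Agent.ABRec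

open Subgroup

universe u

variable {G : Type u} [Group G] [Finite G] {S : Sylow 2 G} {A B : Subgroup G} {q : ℕ}

/-- Type `L₃`. -/
structure L3 (S : Sylow 2 G) (A B : Subgroup G) (q : ℕ) : Prop where
  two : Two S A B q
  cent : Cent S A B
  sideA : sideC (S : Subgroup G) A = ⊥

/-- The point of `g` is collinear with or equal to the base point. -/
def Col (A B : Subgroup G) (g : G) : Prop :=
  ∃ n ∈ normalizer (A : Set G), ∃ m ∈ normalizer (B : Set G), (n * m)⁻¹ * g ∈ normalizer (A : Set G)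

theorem Col.of_mem {g : G} (hg : g ∈ normalizer (A : Set G)) : Col A B g :=
  ⟨1, one_mem _, 1, one_mem _, by simpa using hg⟩

theorem Col.mul_left {g n : G} (hn : n ∈ normalizer (A : Set G)) (h : Col A B g) : Col A B (n * g) := by
  obtain ⟨n', hn', m, hm, e⟩ := h
  exact ⟨n * n', mul_mem hn hn', m, hm, by simpa [mul_assoc] using e⟩

theorem col_mul_left_iff {g n : G} (hn : n ∈ normalizer (A : Set G)) : Col A B (n * g) ↔ Col A B g :=
  ⟨fun h => by simpa using h.mul_left (inv_mem hn), Col.mul_left hn⟩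

theorem col_mul_right_iff {g n : G} (hn : n ∈ normalizer (A : Set G)) : Col A B (g * n) ↔ Col A B g := by
  constructor
  · rintro ⟨n', hn', m, hm, e⟩
    exact ⟨n', hn', m, hm, by simpa [mul_assoc] using mul_mem e (inv_mem hn)⟩
  · rintro ⟨n', hn', m, hm, e⟩
    exact ⟨n', hn', m, hm, by simpa [mul_assoc] using mul_mem e hn⟩

theorem Col.inv {g : G} (h : Col A B g) : Col A B g⁻¹ := by
  obtain ⟨n, hn, m, hm, e⟩ := h
  refine ⟨((n * m)⁻¹ * g)⁻¹, inv_mem e, m⁻¹, inv_mem hm, ?_⟩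
  rw [show (((n * m)⁻¹ * g)⁻¹ * m⁻¹)⁻¹ * g⁻¹ = n⁻¹ by group]
  exact inv_mem hn

theorem col_inv_iff {g : G} : Col A B g⁻¹ ↔ Col A B g := ⟨fun h => by simpa using h.inv, Col.inv⟩

/-- The points collinear with or equal to the base point. -/
def colPts (A B : Subgroup G) : Set (G ⧸ normalizer (A : Set G)) :=
  (fun g : G => (g : G ⧸ normalizer (A : Set G))) '' {g | Col A B g}

theorem mem_colPts {g : G} : (g : G ⧸ normalizer (A : Set G)) ∈ colPts A B ↔ Col A B g := by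
  refine ⟨fun ⟨h, hh, e⟩ => ?_, fun h => ⟨g, h, rfl⟩⟩
  have hm : h⁻¹ * g ∈ normalizer (A : Set G) := QuotientGroup.eq.1 e
  simpa using (col_mul_right_iff hm).2 hh

namespace L3

variable (H : L3 S A B q)
include H

theorem sideB : sideC (S : Subgroup G) B = ⊥ := by
  rcases H.two.type with ⟨-, h, -⟩ | ⟨hq, -⟩
  · exact h
  · rw [H.sideA, card_bot] at hq
    exact absurd hq (by have := H.two.four_le; omega)

theorem symm : L3 S B A q := ⟨H.two.symm, H.cent.symm, H.sideB⟩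

theorem card_Z : Nat.card ↥(A ⊓ B) = q := by
  rcases H.two.type with ⟨-, -, h⟩ | ⟨hq, -⟩
  · exact h
  · rw [H.sideA, card_bot] at hq
    exact absurd hq (by have := H.two.four_le; omega)

theorem card_A : Nat.card A = q * q := by rw [H.two.card_A, H.card_Z]

theorem not_side {x : G} (hx : x ≠ 1) : x ∉ sideC (S : Subgroup G) A ∧ x ∉ sideC (S : Subgroup G) B := by
  rw [H.sideA, H.sideB, mem_bot]
  exact ⟨hx, hx⟩

theorem mixed {z : G} (hz : z ∈ A ⊓ B) (h1 : z ≠ 1) : Mixed S A B z := ⟨hz, H.not_side h1⟩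

theorem normS {g : G} (hA : g ∈ normalizer (A : Set G)) (hB : g ∈ normalizer (B : Set G)) {z : G}
    (hz : z ∈ A ⊓ B) : g * z * g⁻¹ ∈ A ⊓ B :=
  ⟨(mem_normalizer_iff.1 hA z).1 hz.1, (mem_normalizer_iff.1 hB z).1 hz.2⟩

theorem fuseA {a : G} (ha : a ∈ A) (h1 : a ≠ 1) :
    ∃ n ∈ normalizer (A : Set G), n * a * n⁻¹ ∈ A ⊓ B ∧ n * a * n⁻¹ ≠ 1 := by
  obtain ⟨n, hn, h, -⟩ := H.two.fuse ha (H.not_side h1).1
  exact ⟨n, hn, h, fun e => h1 (by simpa using e)⟩

/-- Every involution has a centre. -/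
theorem exists_centre {t : G} (htt : t * t = 1) : ∃ g, g⁻¹ * t * g ∈ A := by
  haveI : Fact (Nat.Prime 2) := ⟨Nat.prime_two⟩
  have hp : IsPGroup 2 (zpowers t) := IsPGroup.of_card_dvd_pow (n := 1) <| by
    rw [Nat.card_zpowers, pow_one]
    exact orderOf_dvd_of_pow_eq_one (by rw [pow_two, htt])
  obtain ⟨P, hP⟩ := hp.exists_le_sylow
  obtain ⟨k, hk⟩ := LESylow.exists_conj_eq P S
  have hS : k * t * k⁻¹ ∈ (S : Subgroup G) := hk ▸ ⟨t, hP (mem_zpowers t), rfl⟩
  have h2 : k * t * k⁻¹ * (k * t * k⁻¹) = 1 := by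
    rw [show k * t * k⁻¹ * (k * t * k⁻¹) = k * (t * t) * k⁻¹ by group, htt, mul_one, mul_inv_cancel]
  rcases H.two.cfg.twoEA.mem_or hS h2 with h | h
  · exact ⟨k⁻¹, by simpa [mul_assoc] using h⟩
  · rcases eq_or_ne (k * t * k⁻¹) 1 with e | e
    · exact ⟨k⁻¹, by simp [mul_assoc] at e ⊢; simp [e]⟩
    · obtain ⟨m, -, hm, -⟩ := H.symm.fuseA h e
      exact ⟨k⁻¹ * m⁻¹, by simpa [mul_assoc] using hm.2⟩

/-- The centre is unique. -/
theorem centre_unique {t g h : G} (h1 : t ≠ 1) (hg : g⁻¹ * t * g ∈ A) (hh : h⁻¹ * t * h ∈ A) :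
    g⁻¹ * h ∈ normalizer (A : Set G) := by
  obtain ⟨n, hn, hz, hz1⟩ := H.fuseA hg (fun e => h1 (by
    have := congrArg (fun y => g * y * g⁻¹) e
    simpa [mul_assoc] using this))
  have h' := H.cent.normA_of_mixed H.two (H.mixed hz hz1) (g := n * g⁻¹ * h) (by
    rwa [show (n * g⁻¹ * h)⁻¹ * (n * (g⁻¹ * t * g) * n⁻¹) * (n * g⁻¹ * h) = h⁻¹ * t * h by group])
  simpa [mul_assoc] using mul_mem (inv_mem hn) h'

/-- The fixed points of an element of `A ⊓ B` are on the line `B`. -/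
theorem fixed {z g : G} (hz : z ∈ A ⊓ B) (h1 : z ≠ 1) (hg : g⁻¹ * z * g ∈ normalizer (A : Set G)) :
    ∃ m ∈ normalizer (B : Set G), m⁻¹ * g ∈ normalizer (A : Set G) :=
  H.cent.fixed_mixed H.two (H.mixed hz h1) hg

/-- An involution fixing two points makes them collinear. -/
theorem col_of_fixed {u g : G} (h1 : u ≠ 1) (huu : u * u = 1) (hu : u ∈ normalizer (A : Set G))
    (hg : g⁻¹ * u * g ∈ normalizer (A : Set G)) : Col A B g := by
  obtain ⟨n, hn, h⟩ := H.two.inv_or hu huu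
  have hne : n * u * n⁻¹ ≠ 1 := fun e => h1 (by simpa using e)
  have e0 : (n * g)⁻¹ * (n * u * n⁻¹) * (n * g) = g⁻¹ * u * g := by group
  rw [← col_mul_left_iff hn]
  rcases h with h | h
  · obtain ⟨k, hk, hz, hz1⟩ := H.fuseA h hne
    obtain ⟨m, hm, e⟩ := H.fixed hz hz1 (g := k * (n * g)) (by
      rwa [show (k * (n * g))⁻¹ * (k * (n * u * n⁻¹) * k⁻¹) * (k * (n * g)) = g⁻¹ * u * g by group])
    exact (col_mul_left_iff hk).1 ⟨1, one_mem _, m, hm, by simpa using e⟩
  · obtain ⟨k, hk, hz, hz1⟩ := H.symm.fuseA h hne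
    obtain ⟨m, hm, e⟩ := H.fixed (g := k * (n * g)) (show k * (n * u * n⁻¹) * k⁻¹ ∈ A ⊓ B from ⟨hz.2, hz.1⟩) hz1
      (by rwa [show (k * (n * g))⁻¹ * (k * (n * u * n⁻¹) * k⁻¹) * (k * (n * g)) = g⁻¹ * u * g by group])
    exact ⟨1, one_mem _, k⁻¹ * m, mul_mem (inv_mem hk) hm, by simpa [mul_assoc] using e⟩

/-- Two points lie on at most one line. -/
theorem line_unique {n m m' : G} (hn : n ∈ normalizer (A : Set G)) (hm : m ∈ normalizer (B : Set G))
    (hm' : m' ∈ normalizer (B : Set G)) (hne : m ∉ normalizer (A : Set G))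
    (he : (n * m')⁻¹ * m ∈ normalizer (A : Set G)) : n ∈ normalizer (B : Set G) := by
  classical
  by_contra hnB
  set k := (n * m')⁻¹ * m with hk
  obtain ⟨Q, hQ⟩ : ∃ Q, Q = A.map (MulAut.conj m).toMonoidHom := ⟨_, rfl⟩
  have hcardQ : Nat.card Q = q * q := by
    rw [hQ, ← Nat.card_congr (equivMapOfInjective A _ (MulAut.conj m).injective).toEquiv, H.card_A]
  have h1 : ∀ z ∈ A ⊓ B, m * z * m⁻¹ ∈ normalizer (A : Set G) ∧ m * z * m⁻¹ ∈ Q := fun z hz =>
    ⟨H.two.cfg.twoEA.normA (H.two.cfg.B_le ((mem_normalizer_iff.1 hm z).1 hz.2)), hQ ▸ ⟨z, hz.1, rfl⟩⟩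
  have h2 : ∀ z ∈ A ⊓ B, (n * m') * z * (n * m')⁻¹ ∈ normalizer (A : Set G) ∧ (n * m') * z * (n * m')⁻¹ ∈ Q := by
    intro z hz
    refine ⟨?_, ?_⟩
    · rw [show n * m' * z * (n * m')⁻¹ = n * (m' * z * m'⁻¹) * n⁻¹ by group]
      exact mul_mem (mul_mem hn (H.two.cfg.twoEA.normA (H.two.cfg.B_le ((mem_normalizer_iff.1 hm' z).1 hz.2))))
        (inv_mem hn)
    · rw [hQ]
      refine ⟨k⁻¹ * z * k, by simpa using (mem_normalizer_iff.1 (inv_mem he) z).1 hz.1, ?_⟩
      show m * (k⁻¹ * z * k) * m⁻¹ = _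
      rw [hk]; group
  -- the two sections generate
  let f : (↥(A ⊓ B) × ↥(A ⊓ B)) → Q := fun p =>
    ⟨m * (p.1 : G) * m⁻¹ * ((n * m') * (p.2 : G) * (n * m')⁻¹), mul_mem (h1 _ p.1.2).2 (h2 _ p.2.2).2⟩
  have hf : Function.Injective f := by
    rintro ⟨a, b⟩ ⟨a', b'⟩ e
    have e' := congrArg Subtype.val e
    simp only [f] at e'
    have hb : (b' : G) * (b : G)⁻¹ = k * ((a' : G)⁻¹ * a) * k⁻¹ := by
      rw [hk]
      calc (b' : G) * (b : G)⁻¹ = (n * m')⁻¹ * (m * (a' : G) * m⁻¹)⁻¹ *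
            (m * a' * m⁻¹ * ((n * m') * b' * (n * m')⁻¹)) * ((n * m') * b * (n * m')⁻¹)⁻¹ * (n * m') := by group
        _ = _ := by rw [← e']; group
    by_cases ha : (a' : G)⁻¹ * a = 1
    · rw [ha, mul_one, mul_inv_cancel, mul_inv_eq_one] at hb
      exact Prod.ext (Subtype.ext (inv_mul_eq_one.1 ha).symm) (Subtype.ext hb.symm)
    · exfalso
      have hza : (a' : G)⁻¹ * a ∈ A ⊓ B := mul_mem (inv_mem a'.2) a.2
      have hzb : k * ((a' : G)⁻¹ * a) * k⁻¹ ∈ A ⊓ B := hb ▸ mul_mem b'.2 (inv_mem b.2)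
      have hkB : k⁻¹ ∈ normalizer (B : Set G) := H.cent.normB_of_mixed H.two (H.mixed hza ha) (by
        rw [inv_inv]; exact hzb.2)
      refine hnB ?_
      rw [show n = m * k⁻¹ * m'⁻¹ by rw [hk]; group]
      exact mul_mem (mul_mem hm hkB) (inv_mem hm')
  have hsurj := (Nat.bijective_iff_injective_and_card f).2
    ⟨hf, by rw [Nat.card_prod, H.card_Z, hcardQ]⟩
  refine hne ?_
  have hQN : Q.map (MulAut.conj (1 : G)).toMonoidHom ≤ normalizer (A : Set G) := by
    rintro _ ⟨x, hx, rfl⟩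
    obtain ⟨p, hp⟩ := hsurj.2 ⟨x, hx⟩
    have hp' := congrArg Subtype.val hp
    simp only [f] at hp'
    show 1 * x * 1⁻¹ ∈ _
    rw [one_mul, inv_one, mul_one, ← hp']
    exact mul_mem (h1 _ p.1.2).1 (h2 _ p.2.2).1
  haveI : Fact (Nat.Prime 2) := ⟨Nat.prime_two⟩
  have hQN' : Q ≤ normalizer (A : Set G) := fun x hx => hQN ⟨x, hx, by simp⟩
  obtain ⟨l, hl, hle⟩ := LESylow.exists_conj_le_of_le hQN'
    (by rw [hQ]; exact (S.isPGroup'.to_le H.two.cfg.A_le).map _) (S.subtype H.two.cfg.twoEA.normA)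
  have hlm : l * m ∈ normalizer (A : Set G) := by
    refine H.two.conjA_mem fun a ha => ?_
    have := hle ⟨m * a * m⁻¹, hQ ▸ ⟨a, ha, rfl⟩, rfl⟩
    rw [Sylow.coe_subtype, subgroupOf_map_subtype] at this
    have h' : l * (m * a * m⁻¹) * l⁻¹ ∈ (S : Subgroup G) := this.1
    simpa [mul_assoc] using le_normalizer (H := (S : Subgroup G)) h'
  simpa using mul_mem (inv_mem hl) hlm

/-- `1 + q (q + 1)` points are collinear with or equal to a point. -/
theorem card_colPts : (colPts A B).ncard = 1 + (q + 1) * q := by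
  classical
  haveI : Fintype (G ⧸ normalizer (A : Set G)) := Fintype.ofFinite _
  haveI : Fintype (G ⧸ normalizer (B : Set G)) := Fintype.ofFinite _
  haveI : Fintype G := Fintype.ofFinite G
  set NA := normalizer (A : Set G) with hNA
  set NB := normalizer (B : Set G) with hNB
  set LS : Set (G ⧸ NB) := (fun n : G => (n : G ⧸ NB)) '' (NA : Set G)
  set PS : Set (G ⧸ NA) := (fun m : G => (m : G ⧸ NA)) '' (NB : Set G)
  have hL : LS.ncard = q + 1 := H.cent.card_lines H.two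
  have hP : PS.ncard = q + 1 := H.symm.cent.card_lines H.symm.two
  have hPo : (PS \ {((1 : G) : G ⧸ NA)}).ncard = q := by
    have : ((1 : G) : G ⧸ NA) ∈ PS := ⟨1, one_mem _, rfl⟩
    rw [Set.ncard_sdiff_singleton_of_mem this, hP, Nat.add_sub_cancel]
  choose rep hrep hrep' using fun l : LS => l.2
  choose prep hprep hprep' using fun p : (PS \ {((1 : G) : G ⧸ NA)} : Set (G ⧸ NA)) => p.2.1
  have hpne : ∀ p, prep p ∉ NA := fun p hp => p.2.2 (by
    rw [Set.mem_singleton_iff, ← hprep' p]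
    exact QuotientGroup.eq.2 (by simpa using inv_mem hp))
  let f : LS × (PS \ {((1 : G) : G ⧸ NA)} : Set (G ⧸ NA)) → G ⧸ NA := fun x => ((rep x.1 * prep x.2 : G) : G ⧸ NA)
  have hf : Function.Injective f := by
    rintro ⟨l, p⟩ ⟨l', p'⟩ e
    have he : (rep l * prep p)⁻¹ * (rep l' * prep p') ∈ NA := QuotientGroup.eq.1 e
    have hl : l = l' := by
      refine Subtype.ext ?_
      rw [← hrep' l, ← hrep' l']
      refine QuotientGroup.eq.2 ?_
      have h' := H.line_unique (n := (rep l')⁻¹ * rep l) (mul_mem (inv_mem (hrep l')) (hrep l)) (hprep p')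
        (hprep p) (hpne p') (by simpa [mul_assoc] using he)
      simpa using inv_mem h'
    subst hl
    refine Prod.ext rfl (Subtype.ext ?_)
    rw [← hprep' p, ← hprep' p']
    exact QuotientGroup.eq.2 (by simpa [mul_assoc] using he)
  have hset : colPts A B = insert ((1 : G) : G ⧸ NA) (Set.range f) := by
    ext x
    constructor
    · rintro ⟨g, ⟨n, hn, m, hm, e⟩, rfl⟩
      by_cases hm1 : m ∈ NA
      · refine Or.inl (QuotientGroup.eq.2 ?_)
        have := mul_mem (mul_mem hn hm1) e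
        rw [mul_inv_cancel_left] at this
        simpa using inv_mem this
      refine Or.inr ?_
      obtain ⟨l, hl⟩ : ∃ l : LS, (l : G ⧸ NB) = (n : G ⧸ NB) := ⟨⟨_, n, hn, rfl⟩, rfl⟩
      have hlm : (rep l)⁻¹ * n ∈ NB := QuotientGroup.eq.1 ((hrep' l).trans hl)
      have hlA : (rep l)⁻¹ * n ∈ NA := mul_mem (inv_mem (hrep l)) hn
      have hm' : (rep l)⁻¹ * n * m ∉ NA := fun h => hm1 (by simpa [mul_assoc] using mul_mem (inv_mem hlA) h)
      obtain ⟨p, hp⟩ : ∃ p : (PS \ {((1 : G) : G ⧸ NA)} : Set (G ⧸ NA)),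
          (p : G ⧸ NA) = (((rep l)⁻¹ * n * m : G) : G ⧸ NA) :=
        ⟨⟨_, ⟨_, mul_mem hlm hm, rfl⟩, fun h => hm' (by
          have := QuotientGroup.eq.1 (Set.mem_singleton_iff.1 h)
          simpa using inv_mem this)⟩, rfl⟩
      refine ⟨(l, p), QuotientGroup.eq.2 ?_⟩
      have h' : (prep p)⁻¹ * ((rep l)⁻¹ * n * m) ∈ NA := QuotientGroup.eq.1 ((hprep' p).trans hp)
      have := mul_mem h' e
      simpa [mul_assoc] using this
    · rintro (rfl | ⟨⟨l, p⟩, rfl⟩)
      · exact mem_colPts.2 (Col.of_mem (one_mem _))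
      · exact mem_colPts.2 ⟨_, hrep l, _, hprep p, by simp⟩
  have hnot : ((1 : G) : G ⧸ NA) ∉ Set.range f := by
    rintro ⟨⟨l, p⟩, e⟩
    have h := QuotientGroup.eq.1 e
    simp only [mul_one, mul_inv_rev] at h
    exact hpne p (by simpa using inv_mem (mul_mem h (hrep l)))
  rw [hset, Set.ncard_insert_of_notMem hnot (Set.toFinite _), Set.ncard_range_of_injective hf, Nat.card_prod,
    Nat.card_coe_set_eq, Nat.card_coe_set_eq, hL, hPo, add_comm]

/-- An involution moves a point to a collinear one exactly when the point is collinear with the centre. -/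
theorem col_conj_iff {t g h : G} (htt : t * t = 1) (h1 : t ≠ 1) (hh : h⁻¹ * t * h ∈ A) :
    Col A B (g⁻¹ * t * g) ↔ Col A B (h⁻¹ * g) := by
  constructor
  · rintro ⟨n, hn, m, hm, e⟩
    obtain ⟨v, hv⟩ : ∃ v, v = n⁻¹ * (g⁻¹ * t * g) * n := ⟨_, rfl⟩
    have hvv : v * v = 1 := by
      rw [hv, show n⁻¹ * (g⁻¹ * t * g) * n * (n⁻¹ * (g⁻¹ * t * g) * n) = n⁻¹ * g⁻¹ * (t * t) * g * n by group, htt]
      group
    have hv1 : v ≠ 1 := fun e1 => h1 (by
      have := congrArg (fun y => g * n * y * n⁻¹ * g⁻¹) e1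
      simpa [hv, mul_assoc] using this)
    have hmv : m⁻¹ * v ∈ normalizer (A : Set G) := by
      rw [hv, show m⁻¹ * (n⁻¹ * (g⁻¹ * t * g) * n) = (n * m)⁻¹ * (g⁻¹ * t * g) * n by group]
      exact mul_mem e hn
    suffices hc : ∃ c, c⁻¹ * v * c ∈ A ∧ Col A B c by
      obtain ⟨c, hc, hcc⟩ := hc
      have hu : (h⁻¹ * g * n * c) ∈ normalizer (A : Set G) := by
        have := H.centre_unique h1 hh (h := g * n * c) (by
          rw [show (g * n * c)⁻¹ * t * (g * n * c) = c⁻¹ * (n⁻¹ * (g⁻¹ * t * g) * n) * c by group, ← hv]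
          exact hc)
        simpa [mul_assoc] using this
      have h2 : Col A B (h⁻¹ * g * n) := by
        have := (hcc.inv).mul_left hu
        simpa [mul_assoc] using this
      exact (col_mul_right_iff hn).1 h2
    by_cases hvN : v ∈ normalizer (A : Set G)
    · obtain ⟨c, hc⟩ := H.exists_centre hvv
      refine ⟨c, hc, H.col_of_fixed hv1 hvv hvN ?_⟩
      exact le_normalizer hc
    -- the involution interchanges two points of one line, so it normalises that line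
    have hmA : m ∉ normalizer (A : Set G) := fun hmA => hvN (by simpa using mul_mem hmA hmv)
    have hvB : v ∈ normalizer (B : Set G) := by
      have hn' : v⁻¹ * m ∈ normalizer (A : Set G) := by simpa using inv_mem hmv
      have hn'B := H.line_unique (n := v⁻¹ * m) (m := m) (m' := m⁻¹) hn' hm (inv_mem hm) hmA (by
        rw [mul_inv_cancel_right, inv_inv, show v * m = v⁻¹ * m by rw [inv_eq_of_mul_eq_one_right hvv]]
        exact hn')
      simpa using mul_mem hn'B (inv_mem hm)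
    obtain ⟨k, hk, hkv⟩ := H.symm.two.inv_or hvB hvv
    have hne : k * v * k⁻¹ ≠ 1 := fun e1 => hv1 (by simpa using e1)
    rcases hkv with hkv | hkv
    · obtain ⟨l, hl, hz, -⟩ := H.symm.fuseA hkv hne
      exact ⟨k⁻¹ * l⁻¹, by simpa [mul_assoc] using hz.2,
        ⟨1, one_mem _, k⁻¹ * l⁻¹, mul_mem (inv_mem hk) (inv_mem hl), by simp⟩⟩
    · exact ⟨k⁻¹, by simpa [mul_assoc] using hkv, ⟨1, one_mem _, k⁻¹, inv_mem hk, by simp⟩⟩
  · rintro ⟨n, hn, m, hm, e⟩
    obtain ⟨r, hr⟩ : ∃ r, r = (n * m)⁻¹ * (h⁻¹ * g) := ⟨_, rfl⟩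
    rw [← hr] at e
    have ha : n⁻¹ * (h⁻¹ * t * h) * n ∈ A := by simpa using (mem_normalizer_iff.1 (inv_mem hn) _).1 hh
    have hB : m⁻¹ * (n⁻¹ * (h⁻¹ * t * h) * n) * m ∈ normalizer (B : Set G) :=
      mul_mem (mul_mem (inv_mem hm) (H.symm.two.cfg.twoEA.normA (H.two.cfg.A_le ha))) hm
    rw [show g⁻¹ * t * g = r⁻¹ * (m⁻¹ * (n⁻¹ * (h⁻¹ * t * h) * n) * m) * r by rw [hr]; group]
    exact (col_mul_right_iff e).2 ((Col.mul_left (inv_mem e)
      ⟨1, one_mem _, _, hB, by rw [one_mul, inv_mul_cancel]; exact one_mem _⟩))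

end L3

end Cfsg.Agent.ABRec
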