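import Cfsg.Agent.Lib.ABRec.PlaneBase
import Mathlib.FieldTheory.Fixed
import Mathlib.GroupTheory.Perm.Cycle.Type

/-!
Coordinates in type `L₃`: the normaliser of `A` acts on `A = F × F` by semilinear maps; scalars; a subgroup of
odd order has, among the linear maps, a line that only scalars fix; a field of order `2 ^ n` has at most `n`
automorphisms.
-/

set_option autoImplicit false
set_option linter.style.haveILetI false
set_option linter.unusedSectionVars false

namespace Cfsg.Agent.ABRec

open Subgroup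

universe u

variable {G : Type u} [Group G] [Finite G] {S : Sylow 2 G} {A B : Subgroup G} {q : ℕ}

/-- `A` in coordinates. -/
structure Coord (S : Sylow 2 G) (A B : Subgroup G) (F : Type) [Field F] where
  vec : F × F → G
  act : G → F × F → F × F
  r : F → G
  w : G
  τ : Fˣ → G
  vec_mem : ∀ v, vec v ∈ A
  vec_add : ∀ u v, vec (u + v) = vec u * vec v
  vec_inj : Function.Injective vec
  vec_surj : ∀ a ∈ A, ∃ v, vec v = a
  vec_Z : ∀ v, vec v ∈ A ⊓ B ↔ v.2 = 0
  act_spec : ∀ n ∈ normalizer (A : Set G), ∀ v, n * vec v * n⁻¹ = vec (act n v)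
  r_mem : ∀ x, r x ∈ (S : Subgroup G)
  r_surj : ∀ s ∈ (S : Subgroup G), ∃ x, (r x)⁻¹ * s ∈ A
  w_mem : w ∈ normalizer (A : Set G)
  τ_mem : ∀ t, τ t ∈ normalizer (A : Set G)
  act_r : ∀ x v, act (r x) v = (v.1 + x * v.2, v.2)
  act_w : ∀ v, act w v = (v.2, v.1)
  act_τ : ∀ (t : Fˣ) v, act (τ t) v = ((t : F) * v.1, (t : F)⁻¹ * v.2)

theorem L3.exists_coord (H : L3 S A B q) :
    ∃ (F : Type) (_ : Field F) (_ : Fintype F) (_ : CharP F 2), Fintype.card F = q ∧
      Nonempty (Coord S A B F) := by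
  classical
  obtain ⟨F, i1, i2, i3, ι, r, w, τ, hF, hs, hadd, hk, hZ, hrS, hsr, hw, hτ, hr, hwι, hτι, -⟩ := H.two.natural
  refine ⟨F, i1, i2, i3, hF, ?_⟩
  have hinj : Function.Injective ι := by
    intro a b e
    have h : ι (a * b) = 0 := by
      rw [hadd, e]
      exact Prod.ext (CharTwo.add_self_eq_zero _) (CharTwo.add_self_eq_zero _)
    rw [hk, H.sideA, mem_bot] at h
    have hb := H.two.cfg.sqA b.2
    refine Subtype.ext ?_
    have e' : ((a * b : A) : G) = 1 := h
    rw [Subgroup.coe_mul] at e'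
    exact (eq_inv_of_mul_eq_one_left e').trans (inv_eq_of_mul_eq_one_right hb)
  choose vec hvec using hs
  have hvec' : ∀ a : A, vec (ι a) = a := fun a => hinj (hvec (ι a))
  let act : G → F × F → F × F := fun n v =>
    if h : n ∈ normalizer (A : Set G) then ι ⟨n * vec v * n⁻¹, (mem_normalizer_iff.1 h _).1 (vec v).2⟩ else v
  refine ⟨⟨fun v => vec v, act, r, w, τ, fun v => (vec v).2, fun u v => ?_, fun u v e => ?_,
    fun a ha => ⟨ι ⟨a, ha⟩, congrArg Subtype.val (hvec' ⟨a, ha⟩)⟩, fun v => ?_, fun n hn v => ?_, hrS, hsr, hw,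
    fun t => (hτ t).1, fun x v => ?_, fun v => ?_, fun t v => ?_⟩⟩
  · have h : ι (vec u * vec v) = u + v := by rw [hadd, hvec, hvec]
    rw [← Subgroup.coe_mul]
    exact congrArg Subtype.val (by rw [← h, hvec'])
  · rw [← hvec u, ← hvec v, Subtype.ext e]
  · rw [hZ, hvec]
  · simp only [act, dif_pos hn]
    rw [hvec']
  · have hn : r x ∈ normalizer (A : Set G) := H.two.cfg.twoEA.normA (hrS x)
    simp only [act, dif_pos hn]
    rw [hr x (vec v) _ rfl, hvec]
  · simp only [act, dif_pos hw]
    rw [hwι (vec v) _ rfl, hvec]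
  · simp only [act, dif_pos (hτ t).1]
    rw [hτι t (vec v) _ rfl, hvec]

namespace Coord

variable {F : Type} [Field F] (c : Coord S A B F)

theorem act_eq {n : G} (hn : n ∈ normalizer (A : Set G)) {v u : F × F} (e : n * c.vec v * n⁻¹ = c.vec u) :
    c.act n v = u :=
  c.vec_inj ((c.act_spec n hn v).symm.trans e)

theorem vec_zero : c.vec 0 = 1 := by
  have h := c.vec_add 0 0
  rwa [add_zero, right_eq_mul] at h

theorem act_one (v : F × F) : c.act 1 v = v := c.act_eq (one_mem _) (by group)

theorem act_mul {n m : G} (hn : n ∈ normalizer (A : Set G)) (hm : m ∈ normalizer (A : Set G)) (v : F × F) :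
    c.act (n * m) v = c.act n (c.act m v) := c.act_eq (mul_mem hn hm) (by
  rw [← c.act_spec n hn, ← c.act_spec m hm]; group)

theorem act_add {n : G} (hn : n ∈ normalizer (A : Set G)) (u v : F × F) :
    c.act n (u + v) = c.act n u + c.act n v := c.act_eq hn (by
  rw [c.vec_add, c.vec_add, ← c.act_spec n hn, ← c.act_spec n hn]; group)

theorem act_inv {n : G} (hn : n ∈ normalizer (A : Set G)) (v : F × F) : c.act n (c.act n⁻¹ v) = v := by
  rw [← c.act_mul hn (inv_mem hn), mul_inv_cancel, c.act_one]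

theorem act_injective {n : G} (hn : n ∈ normalizer (A : Set G)) : Function.Injective (c.act n) :=
  Function.LeftInverse.injective (g := c.act n⁻¹) fun v => by
    rw [← c.act_mul (inv_mem hn) hn, inv_mul_cancel, c.act_one]

theorem act_zero {n : G} (hn : n ∈ normalizer (A : Set G)) : c.act n 0 = 0 := by
  have h := c.act_add hn 0 0
  rwa [add_zero, right_eq_add] at h

/-- Semilinear with respect to a field automorphism. -/
def Semi (n : G) (σ : F ≃+* F) : Prop := ∀ (l : F) v, c.act n (l • v) = σ l • c.act n v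

/-- Acting as a scalar. -/
def Scalar (n : G) (α : F) : Prop := n ∈ normalizer (A : Set G) ∧ ∀ v, c.act n v = α • v

variable {c}

theorem Semi.mul {n m : G} {σ τ : F ≃+* F} (hn : n ∈ normalizer (A : Set G)) (hm : m ∈ normalizer (A : Set G))
    (h : c.Semi n σ) (h' : c.Semi m τ) : c.Semi (n * m) (τ.trans σ) := fun l v => by
  rw [c.act_mul hn hm, c.act_mul hn hm, h', h]
  rfl

theorem Semi.inv {n : G} {σ : F ≃+* F} (hn : n ∈ normalizer (A : Set G)) (h : c.Semi n σ) :
    c.Semi n⁻¹ σ.symm := fun l v => c.act_injective hn <| by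
  rw [c.act_inv hn, h, c.act_inv hn, RingEquiv.apply_symm_apply]

theorem Semi.unique {n : G} {σ τ : F ≃+* F} (hn : n ∈ normalizer (A : Set G)) (h : c.Semi n σ) (h' : c.Semi n τ) :
    σ = τ := RingEquiv.ext fun l => by
  have hne : c.act n ((1 : F), (0 : F)) ≠ 0 := fun e => by
    have := c.act_injective hn (e.trans (c.act_zero hn).symm)
    simp at this
  exact smul_left_injective F hne ((h l _).symm.trans (h' l _))

variable (c)

theorem semi_r (x : F) : c.Semi (c.r x) (RingEquiv.refl F) := fun l v => by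
  rw [c.act_r, c.act_r, RingEquiv.refl_apply]
  ext <;> simp <;> ring

theorem semi_w : c.Semi c.w (RingEquiv.refl F) := fun l v => by
  rw [c.act_w, c.act_w, RingEquiv.refl_apply]; rfl

theorem semi_τ (t : Fˣ) : c.Semi (c.τ t) (RingEquiv.refl F) := fun l v => by
  rw [c.act_τ, c.act_τ, RingEquiv.refl_apply]
  ext <;> simp <;> ring

section

variable (H : L3 S A B q) [Fintype F] [CharP F 2]
include H

theorem mem_A {n : G} (hn : n ∈ normalizer (A : Set G)) (h : ∀ v, c.act n v = v) : n ∈ A := by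
  rw [← H.cent.selfA, mem_centralizer_iff]
  intro a ha
  obtain ⟨v, rfl⟩ := c.vec_surj a ha
  have e := c.act_spec n hn v
  rw [h, mul_inv_eq_iff_eq_mul] at e
  exact e.symm

theorem act_A {a : G} (ha : a ∈ A) (v : F × F) : c.act a v = v := c.act_eq (le_normalizer ha) (by
  rw [H.two.cfg.twoEA.comm_left ha (c.vec_mem v), mul_inv_cancel_right])

theorem semi_A {a : G} (ha : a ∈ A) : c.Semi a (RingEquiv.refl F) := fun l v => by
  rw [c.act_A H ha, c.act_A H ha, RingEquiv.refl_apply]

theorem normA_r (x : F) : c.r x ∈ normalizer (A : Set G) := H.two.cfg.twoEA.normA (c.r_mem x)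

theorem semi_S {s : G} (hs : s ∈ (S : Subgroup G)) : c.Semi s (RingEquiv.refl F) := by
  obtain ⟨x, hx⟩ := c.r_surj s hs
  have h := (c.semi_r x).mul (c.normA_r H x) (le_normalizer hx) (c.semi_A H hx)
  rwa [mul_inv_cancel_left] at h

/-- An element of `N(A)` fixing the line of `A ⊓ B` normalises `B`. -/
theorem normB_of_line {n : G} (hn : n ∈ normalizer (A : Set G)) {a : F} (ha : a ≠ 0)
    (h : (c.act n (a, 0)).2 = 0) : n ∈ normalizer (B : Set G) := by
  have hz : c.vec (c.act n (a, 0)) ∈ A ⊓ B := (c.vec_Z _).2 h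
  have h1 : c.vec (c.act n (a, 0)) ≠ 1 := fun e => by
    rw [← c.vec_zero] at e
    have := c.act_injective hn ((c.vec_inj e).trans (c.act_zero hn).symm)
    exact ha (congrArg Prod.fst this)
  refine H.cent.normB_of_meet H.two hn hz (H.not_side h1).1 ?_
  rw [← c.act_spec n hn, show n⁻¹ * (n * c.vec (a, 0) * n⁻¹) * n = c.vec (a, 0) by group]
  exact (c.vec_Z _).2 rfl

theorem line_of_normB {n : G} (hn : n ∈ normalizer (A : Set G)) (hB : n ∈ normalizer (B : Set G)) (a : F) :
    (c.act n (a, 0)).2 = 0 := by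
  rw [← c.vec_Z, ← c.act_spec n hn]
  exact H.normS hn hB ((c.vec_Z _).2 rfl)

/-- Every element of `N(A)` is semilinear. -/
theorem exists_semi {n : G} (hn : n ∈ normalizer (A : Set G)) : ∃ σ, c.Semi n σ := by
  classical
  -- reduce by linear elements to an element fixing the line of `A ⊓ B` and scaling two axes alike
  obtain ⟨g, hg, hgl, hg1, hg2⟩ : ∃ g, g ∈ normalizer (A : Set G) ∧ c.Semi g (RingEquiv.refl F) ∧
      (c.act (g * n) ((1 : F), (0 : F))).2 = 0 ∧
      ∃ α, c.act (g * n) ((1 : F), (0 : F)) = (α, 0) ∧ c.act (g * n) ((0 : F), (1 : F)) = ((0 : F), α) := by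
    obtain ⟨g1, hg1, hl1, ha⟩ : ∃ g1, g1 ∈ normalizer (A : Set G) ∧ c.Semi g1 (RingEquiv.refl F) ∧
        (c.act (g1 * n) ((1 : F), (0 : F))).2 = 0 := by
      by_cases h : (c.act n ((1 : F), (0 : F))).2 = 0
      · exact ⟨1, one_mem _, fun l v => by rw [c.act_one, c.act_one]; rfl, by rwa [one_mul]⟩
      refine ⟨c.w * c.r ((c.act n ((1 : F), (0 : F))).1 / (c.act n ((1 : F), (0 : F))).2),
        mul_mem c.w_mem (c.normA_r H _), c.semi_w.mul c.w_mem (c.normA_r H _) (c.semi_r _), ?_⟩
      rw [c.act_mul (mul_mem c.w_mem (c.normA_r H _)) hn, c.act_mul c.w_mem (c.normA_r H _), c.act_r, c.act_w]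
      show _ + _ * _ = (0 : F)
      rw [div_mul_cancel₀ _ h]
      exact CharTwo.add_self_eq_zero _
    set m := g1 * n with hm
    have hmA : m ∈ normalizer (A : Set G) := mul_mem hg1 hn
    obtain ⟨a, ha'⟩ : ∃ a, c.act m ((1 : F), (0 : F)) = (a, 0) := ⟨_, Prod.ext rfl ha⟩
    obtain ⟨b, d, hbd⟩ : ∃ b d, c.act m ((0 : F), (1 : F)) = (b, d) := ⟨_, _, rfl⟩
    have ha0 : a ≠ 0 := fun e => by
      rw [e] at ha'
      have := c.act_injective hmA (ha'.trans (c.act_zero hmA).symm)
      simp at this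
    have hd : d ≠ 0 := by
      intro e
      rw [e] at hbd
      have hB : m ∈ normalizer (B : Set G) := c.normB_of_line H hmA one_ne_zero ha
      have h' := c.line_of_normB H (inv_mem hmA) (inv_mem hB) b
      rw [← hbd, ← c.act_mul (inv_mem hmA) hmA, inv_mul_cancel, c.act_one] at h'
      exact one_ne_zero h'
    obtain ⟨t, ht⟩ := FiniteField.isSquare_of_char_two (F := F) (ringChar.eq F 2) (d / a)
    have ht0 : t ≠ 0 := fun e => by
      rw [e, mul_zero, div_eq_zero_iff] at ht
      exact ht.elim hd ha0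
    have hTr : c.τ (Units.mk0 t ht0) * c.r (b / d) ∈ normalizer (A : Set G) :=
      mul_mem (c.τ_mem _) (c.normA_r H _)
    refine ⟨c.τ (Units.mk0 t ht0) * c.r (b / d) * g1, mul_mem hTr hg1,
      ((c.semi_τ _).mul (c.τ_mem _) (c.normA_r H _) (c.semi_r _)).mul hTr hg1 hl1, ?_, t * a, ?_, ?_⟩
    · rw [mul_assoc, ← hm, c.act_mul hTr hmA, ha', c.act_mul (c.τ_mem _) (c.normA_r H _), c.act_r, c.act_τ]
      simp
    · rw [mul_assoc, ← hm, c.act_mul hTr hmA, ha', c.act_mul (c.τ_mem _) (c.normA_r H _), c.act_r, c.act_τ]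
      simp
    · rw [mul_assoc, ← hm, c.act_mul hTr hmA, hbd, c.act_mul (c.τ_mem _) (c.normA_r H _), c.act_r, c.act_τ]
      refine Prod.ext ?_ ?_
      · show t * (b + b / d * d) = 0
        rw [div_mul_cancel₀ _ hd, CharTwo.add_self_eq_zero, mul_zero]
      · show t⁻¹ * d = t * a
        rw [div_eq_iff ha0] at ht
        rw [ht]; field_simp
  obtain ⟨α, hα1, hα2⟩ := hg2
  set k := g * n with hk
  have hkA : k ∈ normalizer (A : Set G) := mul_mem hg hn
  have hα : α ≠ 0 := fun e => by
    rw [e] at hα1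
    have := c.act_injective hkA (hα1.trans (c.act_zero hkA).symm)
    simp at this
  have hkB : k ∈ normalizer (B : Set G) := c.normB_of_line H hkA one_ne_zero hg1
  obtain ⟨f, hf⟩ : ∃ f : F → F, ∀ a, c.act k (a, 0) = (f a, 0) :=
    ⟨fun a => (c.act k (a, 0)).1, fun a => Prod.ext rfl (c.line_of_normB H hkA hkB a)⟩
  obtain ⟨f', hf'⟩ : ∃ f' : F → F, ∀ b, c.act k (0, b) = (0, f' b) := by
    have hwk : c.w⁻¹ * k * c.w ∈ normalizer (A : Set G) := mul_mem (mul_mem (inv_mem c.w_mem) hkA) c.w_mem
    have hwinv : ∀ v, c.act c.w⁻¹ v = (v.2, v.1) := fun v => c.act_injective c.w_mem <| by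
      rw [c.act_inv c.w_mem, c.act_w]
    have hact : ∀ v, c.act (c.w⁻¹ * k * c.w) v = ((c.act k (v.2, v.1)).2, (c.act k (v.2, v.1)).1) := fun v => by
      rw [c.act_mul (mul_mem (inv_mem c.w_mem) hkA) c.w_mem, c.act_mul (inv_mem c.w_mem) hkA, hwinv, c.act_w]
    have hB' := c.normB_of_line H hwk one_ne_zero (by rw [hact, hα2])
    exact ⟨fun b => (c.act k (0, b)).2, fun b => Prod.ext (by
      have := c.line_of_normB H hwk hB' b
      rwa [hact] at this) rfl⟩
  have hfadd : ∀ a b, f (a + b) = f a + f b := fun a b => by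
    have h := c.act_add hkA (a, 0) (b, 0)
    rw [Prod.mk_add_mk, add_zero, hf, hf, hf] at h
    exact congrArg Prod.fst h
  have hf1 : f 1 = α := congrArg Prod.fst ((hf 1).symm.trans hα1)
  have hf'1 : f' 1 = α := congrArg Prod.snd ((hf' 1).symm.trans hα2)
  have hprod : ∀ v : F × F, c.act k v = (f v.1, f' v.2) := fun v => by
    rw [show v = (v.1, 0) + (0, v.2) by ext <;> simp, c.act_add hkA, hf, hf']
    simp
  have hmul : ∀ x b, f (x * b) * α = f x * f' b := fun x b => by
    have hs : k * c.r x * k⁻¹ ∈ (S : Subgroup G) :=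
      (mem_normalizer_iff.1 (H.two.mem_normS hkA hkB) _).1 (c.r_mem x)
    obtain ⟨y, hy⟩ := c.r_surj _ hs
    have key : ∀ v, c.act k (c.act (c.r x) v) = c.act (c.r y) (c.act k v) := fun v => by
      rw [← c.act_mul hkA (c.normA_r H x), show k * c.r x = c.r y * ((c.r y)⁻¹ * (k * c.r x * k⁻¹)) * k by group,
        c.act_mul (mul_mem (c.normA_r H y) (le_normalizer hy)) hkA,
        c.act_mul (c.normA_r H y) (le_normalizer hy), c.act_A H hy]
    have hyx : ∀ b, f (x * b) = y * f' b := fun b => by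
      have h := key (0, b)
      rw [c.act_r, hprod, hprod, c.act_r] at h
      have h' := congrArg Prod.fst h
      simp only [zero_add] at h'
      have hf0 : f 0 = 0 := congrArg Prod.fst ((hf 0).symm.trans (c.act_zero hkA))
      rwa [hf0, zero_add] at h'
    have hy1 := hyx 1
    rw [mul_one, hf'1] at hy1
    rw [hyx b, hy1]; ring
  have hff' : ∀ b, f' b = f b := fun b => by
    have h := hmul 1 b
    rw [one_mul, hf1, mul_comm α] at h
    exact (mul_right_cancel₀ hα h).symm
  let φ : F →+* F :=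
    { toFun := fun a => f a / α
      map_one' := by rw [hf1, div_self hα]
      map_mul' := fun a b => by
        have h := hmul a b
        rw [hff'] at h
        field_simp
        linear_combination h
      map_zero' := by
        have h := hfadd 0 0
        rw [add_zero, right_eq_add] at h
        rw [h, zero_div]
      map_add' := fun a b => by rw [hfadd, add_div] }
  have hsemi : c.Semi k (RingEquiv.ofBijective φ (Finite.injective_iff_bijective.1 φ.injective)) := fun l v => by
    rw [hprod, hprod]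
    have e : ∀ a, f (l * a) = f l / α * f a := fun a => by
      have h := hmul l a
      rw [hff'] at h
      field_simp
      linear_combination h
    refine Prod.ext ?_ ?_
    · show f (l * v.1) = f l / α * f v.1
      exact e _
    · show f' (l * v.2) = f l / α * f' v.2
      rw [hff', hff', e]
  have h := (hgl.inv hg).mul (inv_mem hg) hkA hsemi
  rw [hk, inv_mul_cancel_left] at h
  exact ⟨_, h⟩

theorem scalar_normB {e : G} {α : F} (he : c.Scalar e α) : e ∈ normalizer (B : Set G) :=
  c.normB_of_line H he.1 one_ne_zero (by rw [he.2]; simp)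

theorem scalar_conj {e n : G} {α : F} (he : c.Scalar e α) (hn : n ∈ normalizer (A : Set G)) :
    ∃ β, c.Scalar (n * e * n⁻¹) β ∧ (α ≠ 1 → β ≠ 1) := by
  obtain ⟨σ, hσ⟩ := c.exists_semi H hn
  refine ⟨σ α, ⟨mul_mem (mul_mem hn he.1) (inv_mem hn), fun v => ?_⟩, fun hα h => hα ?_⟩
  · rw [c.act_mul (mul_mem hn he.1) (inv_mem hn), c.act_mul hn he.1, he.2, hσ, c.act_inv hn]
  · exact σ.injective (h.trans (map_one σ).symm)

/-- A scalar centralises linear elements modulo `A`. -/
theorem scalar_comm {e s : G} {α : F} (he : c.Scalar e α) (hs : s ∈ normalizer (A : Set G))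
    (hl : c.Semi s (RingEquiv.refl F)) : e * s * e⁻¹ * s⁻¹ ∈ A := by
  refine c.mem_A H (mul_mem (mul_mem (mul_mem he.1 hs) (inv_mem he.1)) (inv_mem hs)) fun v => ?_
  rw [c.act_mul (mul_mem (mul_mem he.1 hs) (inv_mem he.1)) (inv_mem hs), c.act_mul (mul_mem he.1 hs) (inv_mem he.1),
    c.act_mul he.1 hs, he.2]
  rw [show α • c.act s (c.act e⁻¹ (c.act s⁻¹ v)) = c.act s (α • c.act e⁻¹ (c.act s⁻¹ v)) from (hl α _).symm,
    ← he.2, c.act_inv he.1, c.act_inv hs]

theorem eq_one_of_commute {e a : G} {α : F} (he : c.Scalar e α) (hα : α ≠ 1) (ha : a ∈ A) (h : Commute e a) :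
    a = 1 := by
  obtain ⟨v, rfl⟩ := c.vec_surj a ha
  have e1 : c.act e v = v := c.act_eq he.1 (by rw [h.eq, mul_inv_cancel_right])
  rw [he.2, ← sub_eq_zero] at e1
  rw [show α • v - v = (α - 1) • v by rw [sub_smul, one_smul], smul_eq_zero, sub_eq_zero] at e1
  rw [e1.resolve_left hα, c.vec_zero]

/-- A non-trivial scalar centralises an element of `B` in each coset of `A` in `S`. -/
theorem exists_fixed {e s : G} {α : F} (he : c.Scalar e α) (hα : α ≠ 1) (hs : s ∈ (S : Subgroup G)) :
    ∃ u ∈ B, Commute e u ∧ u⁻¹ * s ∈ A := by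
  have hsN := H.two.cfg.twoEA.normA hs
  obtain ⟨v₀, hv₀⟩ := c.vec_surj _ (c.scalar_comm H he hsN (c.semi_S H hs))
  obtain ⟨v, hv⟩ : ∃ v, α • v + v₀ = v := by
    refine ⟨(1 - α)⁻¹ • v₀, ?_⟩
    have h1 : (1 - α) ≠ 0 := sub_ne_zero.2 hα.symm
    ext <;> simp <;> field_simp <;> ring
  obtain ⟨u, hu⟩ : ∃ u, u = c.vec v * s := ⟨_, rfl⟩
  have hcomm : Commute e u := by
    show e * u = u * e
    have e1 : c.vec (c.act e v) * c.vec v₀ = c.vec v := by rw [he.2, ← c.vec_add, hv]
    rw [← c.act_spec e he.1, hv₀] at e1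
    rw [hu]
    calc e * (c.vec v * s) = (e * c.vec v * e⁻¹ * (e * s * e⁻¹ * s⁻¹)) * s * e := by group
      _ = c.vec v * s * e := by rw [e1]
  have huS : u ∈ (S : Subgroup G) := hu ▸ mul_mem (H.two.cfg.A_le (c.vec_mem v)) hs
  have huu : u * u ∈ A := by
    obtain ⟨a, ha, b, hb, e'⟩ := H.two.cfg.prod u huS
    rw [e', show a * b * (a * b) = a * (b * a * b⁻¹) * (b * b) by group, H.two.cfg.sqB hb, mul_one]
    exact mul_mem ha ((mem_normalizer_iff.1 (H.two.cfg.twoEA.normA (H.two.cfg.B_le hb)) _).1 ha)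
  have huu1 := c.eq_one_of_commute H he hα huu (hcomm.mul_right hcomm)
  refine ⟨u, ?_, hcomm, ?_⟩
  · rcases H.two.cfg.twoEA.mem_or huS huu1 with h | h
    · rw [c.eq_one_of_commute H he hα h hcomm]
      exact one_mem _
    · exact h
  · rw [hu, show (c.vec v * s)⁻¹ * s = s⁻¹ * (c.vec v)⁻¹ * s by group]
    simpa using (mem_normalizer_iff.1 (inv_mem hsN) _).1 (inv_mem (c.vec_mem v))

/-- The point of `F ∪ {∞}` of a non-zero vector. -/
def slope [DecidableEq F] (v : F × F) : Option F := if v.2 = 0 then none else some (v.1 / v.2)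

/-- A vector of given slope. -/
def axis : Option F → F × F
  | none => (1, 0)
  | some x => (x, 1)

omit H in
theorem axis_ne_zero (o : Option F) : Coord.axis o ≠ (0 : F × F) := by cases o <;> simp [Coord.axis]

omit H in
theorem eq_smul_axis [DecidableEq F] {v : F × F} (hv : v ≠ 0) :
    ∃ l : F, l ≠ 0 ∧ v = l • Coord.axis (Coord.slope v) := by
  rcases v with ⟨a, b⟩
  by_cases hb : b = 0
  · subst hb
    exact ⟨a, fun h => hv (by rw [h]; rfl), by simp [Coord.slope, Coord.axis]⟩
  · exact ⟨b, hb, by simp [Coord.slope, Coord.axis, hb, mul_div_cancel₀]⟩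

omit H in
theorem slope_smul [DecidableEq F] {v : F × F} {l : F} (hl : l ≠ 0) :
    Coord.slope (l • v) = Coord.slope v := by
  simp only [Coord.slope, Prod.smul_fst, Prod.smul_snd, smul_eq_mul, mul_eq_zero, hl, false_or]
  split
  · rfl
  · rw [mul_div_mul_left _ _ hl]

omit H in
theorem slope_axis [DecidableEq F] (o : Option F) : Coord.slope (Coord.axis o) = o := by
  cases o <;> simp [Coord.slope, Coord.axis]

set_option maxHeartbeats 1000000 in
/-- In a group of odd order some line is fixed only by scalars among the linear elements. -/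
theorem exists_free_line (K : Subgroup G) (hK : K ≤ normalizer (A : Set G)) (hodd : ∀ k ∈ K, Odd (orderOf k)) :
    ∃ v : F × F, v ≠ 0 ∧ ∀ k ∈ K, c.Semi k (RingEquiv.refl F) → ∀ a : F, c.act k v = a • v →
      ∃ α, c.Scalar k α := by
  classical
  by_contra hno
  push Not at hno
  -- the action of a power
  have hscal : ∀ k ∈ normalizer (A : Set G), Odd (orderOf k) → ∀ α : F, (∀ v, c.act (k * k) v = α • v) →
      ∃ β, c.Scalar k β := by
    intro k hk hko α hα
    obtain ⟨j, hj⟩ := hko
    have hpow : ∀ i : ℕ, ∀ v, c.act ((k * k) ^ i) v = α ^ i • v := by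
      intro i
      induction i with
      | zero => intro v; rw [pow_zero, pow_zero, one_smul, c.act_one]
      | succ i ih =>
        intro v
        rw [pow_succ (k * k), c.act_mul (pow_mem (mul_mem hk hk) i) (mul_mem hk hk), hα, ih, smul_smul, pow_succ]
    refine ⟨α ^ (j + 1), hk, fun v => ?_⟩
    rw [← hpow]
    congr 1
    rw [← pow_two, ← pow_mul, show 2 * (j + 1) = orderOf k + 1 by omega, pow_succ, pow_orderOf_eq_one, one_mul]
  -- a second fixed line
  have key : ∀ k ∈ K, c.Semi k (RingEquiv.refl F) → (¬ ∃ β, c.Scalar k β) → ∀ v : F × F, v ≠ 0 → ∀ a : F,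
      c.act k v = a • v → ∃ u : F × F, ∃ d : F, d ≠ a ∧ c.act k u = d • u ∧
        ∀ z : F × F, ∃ x y : F, z = x • v + y • u := by
    intro k hk hl hns v hv a ha
    obtain ⟨u₀, hspan⟩ : ∃ u₀ : F × F, ∀ z : F × F, ∃ x y : F, z = x • v + y • u₀ := by
      rcases v with ⟨v1, v2⟩
      by_cases h1 : v1 = 0
      · subst h1
        have h2 : v2 ≠ 0 := fun h => hv (by rw [h]; rfl)
        exact ⟨((1 : F), (0 : F)), fun z => ⟨z.2 / v2, z.1, by ext <;> simp [h2]⟩⟩
      · exact ⟨((0 : F), (1 : F)), fun z => ⟨z.1 / v1, z.2 - z.1 / v1 * v2, by ext <;> simp [h1]⟩⟩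
    obtain ⟨b, d, hbd⟩ := hspan (c.act k u₀)
    by_cases had : d = a
    · exfalso
      refine hns (hscal k (hK hk) (hodd k hk) (a * a) fun z => ?_)
      obtain ⟨x, y, rfl⟩ := hspan z
      have e1 : c.act (k * k) v = (a * a) • v := by
        rw [c.act_mul (hK hk) (hK hk), ha, hl, RingEquiv.refl_apply, ha, smul_smul]
      have e2 : c.act (k * k) u₀ = (a * a) • u₀ := by
        rw [c.act_mul (hK hk) (hK hk), hbd, c.act_add (hK hk), hl, hl, RingEquiv.refl_apply,
          RingEquiv.refl_apply, ha, hbd, had]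
        ext <;> simp <;> ring_nf <;> simp [CharTwo.two_eq_zero]
      have hl2 := hl.mul (hK hk) (hK hk) hl
      rw [c.act_add (mul_mem (hK hk) (hK hk)), hl2, hl2, e1, e2, smul_add, smul_smul, smul_smul, smul_smul, smul_smul]
      simp [mul_comm]
    · refine ⟨(b / (d - a)) • v + u₀, d, had, ?_, fun z => ?_⟩
      · rw [c.act_add (hK hk), hl, RingEquiv.refl_apply, ha, hbd]
        have h : d - a ≠ 0 := sub_ne_zero.2 had
        ext <;> simp <;> field_simp <;> ring
      · obtain ⟨x, y, rfl⟩ := hspan z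
        exact ⟨x - y * (b / (d - a)), y, by ext <;> simp <;> ring⟩
  choose kf hkf using fun o : Option F => hno (Coord.axis o) (Coord.axis_ne_zero o)
  -- two elements fixing a line fix the same second line
  have key2 : ∀ k ∈ K, c.Semi k (RingEquiv.refl F) → (¬ ∃ β, c.Scalar k β) → ∀ k' ∈ K,
      c.Semi k' (RingEquiv.refl F) → ∀ v u : F × F, v ≠ 0 → ∀ a d : F, d ≠ a → c.act k v = a • v →
      c.act k u = d • u → (∀ z : F × F, ∃ x y : F, z = x • v + y • u) → ∀ a' : F, c.act k' v = a' • v →
      ∃ d' : F, c.act k' u = d' • u := by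
    intro k hk hl _ k' hk' hl' v u hv a d had ha hd hspan a' ha'
    obtain ⟨b, d', hbd⟩ := hspan (c.act k' u)
    refine ⟨d', ?_⟩
    obtain ⟨cm, hcm⟩ : ∃ cm, cm = (k' * k)⁻¹ * (k * k') := ⟨_, rfl⟩
    have hcmK : cm ∈ K := hcm ▸ mul_mem (inv_mem (mul_mem hk' hk)) (mul_mem hk hk')
    have hinj := c.act_injective (mul_mem (hK hk') (hK hk))
    have hlkk' : c.Semi (k' * k) (RingEquiv.refl F) := hl'.mul (hK hk') (hK hk) hl
    have hlcm : c.Semi cm (RingEquiv.refl F) :=
      hcm ▸ (hlkk'.inv (mul_mem (hK hk') (hK hk))).mul (inv_mem (mul_mem (hK hk') (hK hk)))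
        (mul_mem (hK hk) (hK hk')) (hl.mul (hK hk) (hK hk') hl')
    have hcv : ∀ z, c.act (k' * k) (c.act cm z) = c.act (k * k') z := fun z => by
      rw [← c.act_mul (mul_mem (hK hk') (hK hk)) (hK hcmK), hcm, mul_inv_cancel_left]
    have hk'v : a' ≠ 0 := fun e => by
      rw [e, zero_smul] at ha'
      exact hv (c.act_injective (hK hk') (ha'.trans (c.act_zero (hK hk')).symm))
    have hk0 : a ≠ 0 := fun e => by
      rw [e, zero_smul] at ha
      exact hv (c.act_injective (hK hk) (ha.trans (c.act_zero (hK hk)).symm))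
    have h1 : c.act cm v = v := hinj (by
      rw [hcv, c.act_mul (hK hk) (hK hk'), c.act_mul (hK hk') (hK hk), ha', hl, ha, hl', ha', smul_smul,
        smul_smul, RingEquiv.refl_apply, RingEquiv.refl_apply, mul_comm])
    obtain ⟨γ, hγ⟩ : ∃ γ : F, γ * (a' * a) = b * a - d * b := ⟨(b * a - d * b) / (a' * a),
      div_mul_cancel₀ _ (mul_ne_zero hk'v hk0)⟩
    have h2 : c.act cm u = γ • v + u := hinj (by
      rw [hcv, c.act_mul (hK hk) (hK hk'), c.act_add (mul_mem (hK hk') (hK hk)), hlkk',
        c.act_mul (hK hk') (hK hk), c.act_mul (hK hk') (hK hk), ha, hl', ha', hd, hl', hbd,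
        c.act_add (hK hk), hl, hl, ha, hd, RingEquiv.refl_apply, RingEquiv.refl_apply, RingEquiv.refl_apply,
        RingEquiv.refl_apply, RingEquiv.refl_apply]
      simp only [smul_add, smul_smul, ← add_assoc, ← add_smul]
      congr 2
      · linear_combination -hγ
      · ring)
    obtain ⟨β, hβ⟩ := hscal cm (hK hcmK) (hodd cm hcmK) 1 fun z => by
      obtain ⟨x, y, rfl⟩ := hspan z
      rw [c.act_mul (hK hcmK) (hK hcmK), c.act_add (hK hcmK), hlcm, hlcm, h1, h2, RingEquiv.refl_apply,
        RingEquiv.refl_apply, smul_add, c.act_add (hK hcmK), c.act_add (hK hcmK), smul_smul, hlcm, hlcm, hlcm,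
        h1, h2, RingEquiv.refl_apply, RingEquiv.refl_apply, RingEquiv.refl_apply, one_smul]
      ext <;> simp <;> ring_nf <;> simp [CharTwo.two_eq_zero]
    have hβ1 : β = 1 := by
      have e := hβ.2 v
      rw [h1] at e
      exact smul_left_injective F hv (show β • v = (1 : F) • v by rw [one_smul]; exact e.symm)
    have hγ0 : γ = 0 := by
      have e := hβ.2 u
      rw [h2, hβ1, one_smul, add_eq_right] at e
      exact (smul_eq_zero.1 e).resolve_right hv
    rw [hγ0, zero_mul] at hγ
    have hb : b = 0 := by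
      have : b * (a - d) = 0 := by linear_combination -hγ
      exact (mul_eq_zero.1 this).resolve_right (sub_ne_zero.2 had.symm)
    rw [hbd, hb, zero_smul, zero_add]
  have hsec : ∀ o : Option F, ∃ o' : Option F, o' ≠ o ∧ (∃ a : F, c.act (kf o) (Coord.axis o') = a • Coord.axis o') ∧
      ∀ o'' : Option F, (∃ a : F, c.act (kf o) (Coord.axis o'') = a • Coord.axis o'') → o'' = o ∨ o'' = o' := by
    intro o
    obtain ⟨hk, hl, a, ha, hns⟩ := hkf o
    have hns' : ¬ ∃ β, c.Scalar (kf o) β := fun ⟨β, hβ⟩ => hns β hβ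
    obtain ⟨u, d, had, hd, hspan⟩ := key _ hk hl hns' _ (Coord.axis_ne_zero o) a ha
    have hu : u ≠ 0 := by
      rintro rfl
      refine hns' ⟨a, hK hk, fun z => ?_⟩
      obtain ⟨x, y, rfl⟩ := hspan z
      rw [smul_zero, add_zero, hl, ha, RingEquiv.refl_apply, smul_smul, smul_smul, mul_comm]
    obtain ⟨l, hl0, hlu⟩ := Coord.eq_smul_axis hu
    refine ⟨Coord.slope u, fun e => had ?_, ⟨d, ?_⟩, fun o'' ⟨a'', ha''⟩ => ?_⟩
    · rw [e] at hlu
      have h := hd
      rw [hlu, hl, ha, RingEquiv.refl_apply, smul_smul, smul_smul] at h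
      have := smul_left_injective F (Coord.axis_ne_zero o) h
      exact (mul_right_cancel₀ hl0 ((mul_comm a l).trans this)).symm
    · rw [hlu, hl, RingEquiv.refl_apply, smul_smul, mul_comm d, ← smul_smul] at hd
      exact smul_right_injective _ hl0 hd
    · obtain ⟨x, y, hxy⟩ := hspan (Coord.axis o'')
      have e := ha''
      rw [hxy, c.act_add (hK hk), hl, hl, ha, hd, RingEquiv.refl_apply, RingEquiv.refl_apply, smul_smul, smul_smul,
        smul_add, smul_smul, smul_smul] at e
      by_cases hy : y = 0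
      · left
        have hx : x ≠ 0 := fun h => Coord.axis_ne_zero o'' (by rw [hxy, hy, h, zero_smul, zero_smul, add_zero])
        have := congrArg Coord.slope hxy
        rwa [hy, zero_smul, add_zero, Coord.slope_smul hx, Coord.slope_axis, Coord.slope_axis] at this
      · right
        by_cases hx : x = 0
        · have := congrArg Coord.slope hxy
          rwa [hx, zero_smul, zero_add, Coord.slope_smul hy, Coord.slope_axis] at this
        · exfalso
          have e' : (x * a - a'' * x) • Coord.axis o = (a'' * y - y * d) • u := by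
            rw [sub_smul, sub_smul, sub_eq_sub_iff_add_eq_add, e]; abel
          have h1 : x * a - a'' * x = 0 := by
            by_contra h
            refine hns' ⟨d, hK hk, fun z => ?_⟩
            obtain ⟨x', y', rfl⟩ := hspan z
            have hv : Coord.axis o = ((a'' * y - y * d) / (x * a - a'' * x)) • u := by
              rw [div_eq_inv_mul, ← smul_smul, ← e', inv_smul_smul₀ h]
            rw [c.act_add (hK hk), hl, hl, hv, hl, hd, RingEquiv.refl_apply, RingEquiv.refl_apply,
              RingEquiv.refl_apply]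
            simp only [smul_smul, smul_add]
            congr 1 <;> congr 1 <;> ring
          rw [h1, zero_smul, eq_comm, smul_eq_zero] at e'
          have h2 := e'.resolve_right hu
          have hax : a'' = a := mul_left_cancel₀ hx (by linear_combination -h1)
          exact had (mul_left_cancel₀ hy (by linear_combination (-h2) + y * hax))
  choose other hne hoth huniq using hsec
  have hinv : Function.Involutive other := by
    intro o
    by_contra hcon
    obtain ⟨hk, hl, a, ha, hns⟩ := hkf o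
    obtain ⟨hk', hl', a', ha', hns'⟩ := hkf (other o)
    obtain ⟨d, hd⟩ := hoth o
    obtain ⟨u, d'', had, hd'', hspan⟩ := key _ hk hl (fun ⟨β, h⟩ => hns β h) _ (Coord.axis_ne_zero (other o)) d hd
    obtain ⟨b, hb⟩ := key2 _ hk hl (fun ⟨β, h⟩ => hns β h) _ hk' hl' _ u (Coord.axis_ne_zero (other o)) d d'' had
      hd hd'' hspan a' ha'
    have hu : u ≠ 0 := by
      rintro rfl
      refine hns d ⟨hK hk, fun z => ?_⟩
      obtain ⟨x, y, rfl⟩ := hspan z
      rw [smul_zero, add_zero, hl, hd, RingEquiv.refl_apply, smul_smul, smul_smul, mul_comm]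
    obtain ⟨l, hl0, hlu⟩ := Coord.eq_smul_axis hu
    rw [hlu, hl, RingEquiv.refl_apply, smul_smul, mul_comm d'', ← smul_smul] at hd''
    rw [hlu, hl', RingEquiv.refl_apply, smul_smul, mul_comm b, ← smul_smul] at hb
    have hfix := smul_right_injective _ hl0 hd''
    have hfix' := smul_right_injective _ hl0 hb
    have hso : Coord.slope u = o := (huniq o _ ⟨d'', hfix⟩).resolve_right fun h => by
      rw [h] at hfix
      exact had (smul_left_injective F (Coord.axis_ne_zero _) (hfix.symm.trans hd))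
    rw [hso] at hfix'
    exact (huniq (other o) o ⟨b, hfix'⟩).elim (fun h => hne o h.symm) fun h => hcon h.symm
  haveI : Fact (Nat.Prime 2) := ⟨Nat.prime_two⟩
  have hnd : ¬ 2 ∣ Fintype.card (Option F) := by
    rw [Fintype.card_option]
    have hev : 2 ∣ Fintype.card F := by
      obtain ⟨n, -, hn⟩ := FiniteField.card F 2
      exact hn ▸ dvd_pow_self 2 n.pos.ne'
    omega
  obtain ⟨o, ho⟩ := Equiv.Perm.exists_fixed_point_of_prime (p := 2) (n := 1) hnd (σ := hinv.toPerm)
    (Equiv.ext fun x => by rw [pow_one, pow_two, Equiv.Perm.mul_apply]; exact hinv x)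
  exact hne o ho

end

/-- A field of order `2 ^ n` has at most `n` automorphisms. -/
theorem card_aut (F : Type) [Field F] [Fintype F] [CharP F 2] :
    ∃ n, Fintype.card F = 2 ^ n ∧ Finite (F ≃+* F) ∧ Nat.card (F ≃+* F) ≤ n := by
  classical
  haveI : Fact (Nat.Prime 2) := ⟨Nat.prime_two⟩
  letI : Algebra (ZMod 2) F := ZMod.algebra F 2
  have hinj : Function.Injective fun e : F ≃+* F => (AlgEquiv.ofRingEquiv (f := e) (fun x => by
      have h : (e.toRingHom.comp (algebraMap (ZMod 2) F)) = algebraMap (ZMod 2) F := Subsingleton.elim _ _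
      exact RingHom.congr_fun h x) : F ≃ₐ[ZMod 2] F) := fun e e' h =>
    RingEquiv.ext fun x => DFunLike.congr_fun h x
  haveI : Finite (F ≃+* F) := Finite.of_injective _ hinj
  refine ⟨Module.finrank (ZMod 2) F, ?_, inferInstance, ?_⟩
  · rw [Module.card_eq_pow_finrank (K := ZMod 2), ZMod.card]
  · refine (Nat.card_le_card_of_injective _ hinj).trans ?_
    rw [Nat.card_eq_fintype_card]
    exact AlgEquiv.card_le

end Coord

end Cfsg.Agent.ABRec
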