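import Cfsg.Agent.Lib.ABRec.PlaneCoord

/-!
In type `L₃` the centraliser of a non-trivial scalar of odd order normalises `A`: in a smallest counterexample some
pair of points would be interchanged by `q² - 1` involutions, but the elements inverted by one of them embed into
the lines at a point times the field automorphisms.
-/

set_option autoImplicit false
set_option linter.style.haveILetI false
set_option linter.unusedSectionVars false

namespace Cfsg.Agent.ABRec

open Subgroup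

universe u

variable {G : Type u} [Group G] [Finite G] {S : Sylow 2 G} {A B : Subgroup G} {q : ℕ}

/-- Some related pair is interchanged by many. -/
theorem exists_heavy_pair {I P : Type*} [Fintype P] [DecidableEq P] (T : Finset I) (f : I → P → P)
    (R : P → P → Prop) [DecidableRel R] {M j : ℕ} (hM : 0 < M)
    (h1 : ∀ t ∈ T, (Finset.univ.filter fun x => R x (f t x)).card = M)
    (h2 : ∀ x, (Finset.univ.filter fun y => R x y).card = M) (h3 : T.card = Fintype.card P * j) [Nonempty P] :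
    ∃ x y, R x y ∧ j ≤ (T.filter fun t => f t x = y).card := by
  classical
  have hT : ∑ t ∈ T, (Finset.univ.filter fun x => R x (f t x)).card =
      ∑ x : P, ∑ y ∈ Finset.univ.filter (fun y => R x y), (T.filter fun t => f t x = y).card := by
    simp only [Finset.card_filter]
    rw [Finset.sum_comm]
    refine Finset.sum_congr rfl fun x _ => ?_
    rw [Finset.sum_comm]
    refine Finset.sum_congr rfl fun t _ => ?_
    rw [Finset.sum_filter]
    rw [Finset.sum_eq_single (f t x) (fun b _ hb => by simp [Ne.symm hb]) (fun h => absurd (Finset.mem_univ _) h)]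
    simp
  rw [Finset.sum_congr rfl h1, Finset.sum_const, h3, smul_eq_mul] at hT
  by_contra hno
  push Not at hno
  have hx : ∀ x, ∑ y ∈ Finset.univ.filter (fun y => R x y), (T.filter fun t => f t x = y).card < M * j := by
    intro x
    rw [← h2 x, ← smul_eq_mul, ← Finset.sum_const]
    exact Finset.sum_lt_sum_of_nonempty (Finset.card_pos.1 (h2 x ▸ hM)) fun y hy => hno x y (Finset.mem_filter.1 hy).2
  have := Finset.sum_lt_sum_of_nonempty (Finset.univ_nonempty (α := P)) fun x _ => hx x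
  rw [← hT, Finset.sum_const, Finset.card_univ, smul_eq_mul] at this
  rw [mul_assoc, mul_comm j M] at this
  exact lt_irrefl _ this

namespace L3

variable (H : L3 S A B q)
include H

/-- An element fixing two points that are not collinear has odd order. -/
theorem odd_of_fixed {g k : G} (hg : ¬ Col A B g) (hk : k ∈ normalizer (A : Set G))
    (hk' : g⁻¹ * k * g ∈ normalizer (A : Set G)) : Odd (orderOf k) := by
  rw [← Nat.not_even_iff_odd]
  rintro ⟨j, hj⟩
  have hpos := orderOf_pos k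
  refine hg (H.col_of_fixed (u := k ^ j) (pow_ne_one_of_lt_orderOf (by omega) (by omega)) ?_ (pow_mem hk _) ?_)
  · rw [← pow_add, ← hj, pow_orderOf_eq_one]
  · have := pow_mem hk' j
    rwa [show g⁻¹ * k * g = g⁻¹ * k * g⁻¹⁻¹ by rw [inv_inv], conj_pow, inv_inv] at this

end L3

namespace Coord

variable {F : Type} [Field F] [Fintype F] [CharP F 2] (c : Coord S A B F) (H : L3 S A B q)
include H

/-- Fewer than `q² - 1` involutions interchange two points that are not collinear. -/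
theorem swap_bound (hF : Fintype.card F = q) {h : G} (hh : ¬ Col A B h) (T : Finset G)
    (hT : ∀ t ∈ T, t * t = 1 ∧ t⁻¹ * h ∈ normalizer (A : Set G))
    (hcol : ∀ t₀ ∈ T, ∀ t₁ ∈ T, ∀ t₂ ∈ T, ∀ α, c.Scalar ((t₀ * t₂)⁻¹ * (t₀ * t₁)) α → t₁ = t₂) :
    T.card < q * q - 1 := by
  classical
  have hq4 := H.two.four_le
  rcases T.eq_empty_or_nonempty with rfl | ⟨t₀, ht₀⟩
  · have : 4 * 4 ≤ q * q := Nat.mul_le_mul hq4 hq4
    simp only [Finset.card_empty]
    omega
  set K : Subgroup G := normalizer (A : Set G) ⊓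
    (normalizer (A : Set G)).comap (MulAut.conj h⁻¹).toMonoidHom with hKdef
  have hK : ∀ {g}, g ∈ K ↔ g ∈ normalizer (A : Set G) ∧ h⁻¹ * g * h ∈ normalizer (A : Set G) := fun {g} => by
    rw [hKdef, mem_inf, mem_comap]; simp
  have hin : ∀ t ∈ T, t₀ * t ∈ K := by
    intro t ht
    obtain ⟨ha, hb⟩ := hT t ht
    obtain ⟨ha₀, hb₀⟩ := hT t₀ ht₀
    rw [inv_eq_of_mul_eq_one_right ha] at hb
    rw [inv_eq_of_mul_eq_one_right ha₀] at hb₀
    refine hK.2 ⟨?_, ?_⟩
    · have e : t₀ * t = t₀ * h * (t * h)⁻¹ := by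
        rw [mul_inv_rev, inv_eq_of_mul_eq_one_right ha]; group
      rw [e]; exact mul_mem hb₀ (inv_mem hb)
    · have e : h⁻¹ * (t₀ * t) * h = (t₀ * h)⁻¹ * (t * h) := by
        rw [mul_inv_rev, inv_eq_of_mul_eq_one_right ha₀]; group
      rw [e]; exact mul_mem (inv_mem hb₀) hb
  obtain ⟨v, hv, hfree⟩ := c.exists_free_line H K inf_le_left fun k hk =>
    H.odd_of_fixed hh (hK.1 hk).1 (hK.1 hk).2
  obtain ⟨n, hn, hfin, haut⟩ := Coord.card_aut F
  choose σ hσ using fun t : T => c.exists_semi H (hK.1 (hin t.1 t.2)).1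
  let f : T → (F ≃+* F) × Option F := fun t => (σ t, Coord.slope (c.act (t₀ * t) v))
  have hf : Function.Injective f := by
    intro t t' e
    refine Subtype.ext ?_
    have e1 : σ t = σ t' := congrArg Prod.fst e
    have e2 : Coord.slope (c.act (t₀ * t) v) = Coord.slope (c.act (t₀ * t') v) := congrArg Prod.snd e
    have htA := (hK.1 (hin t.1 t.2)).1
    have ht'A := (hK.1 (hin t'.1 t'.2)).1
    have hne : ∀ {g}, g ∈ normalizer (A : Set G) → c.act g v ≠ 0 := fun hg h0 =>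
      hv (c.act_injective hg (h0.trans (c.act_zero hg).symm))
    obtain ⟨l, hl, hlv⟩ := Coord.eq_smul_axis (hne htA)
    obtain ⟨l', hl', hlv'⟩ := Coord.eq_smul_axis (hne ht'A)
    rw [← e2] at hlv'
    obtain ⟨k, hk⟩ : ∃ k, k = (t₀ * (t' : G))⁻¹ * (t₀ * t) := ⟨_, rfl⟩
    have hkK : k ∈ K := hk ▸ mul_mem (inv_mem (hin t'.1 t'.2)) (hin t.1 t.2)
    have hkl : c.Semi k (RingEquiv.refl F) := by
      have := ((hσ t').inv ht'A).mul (inv_mem ht'A) htA (hσ t)
      rwa [e1, ← hk, RingEquiv.self_trans_symm] at this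
    have hkv : c.act k v = (σ t').symm (l / l') • v := by
      apply c.act_injective ht'A
      rw [← c.act_mul ht'A (hK.1 hkK).1, hk, mul_inv_cancel_left, hσ t', RingEquiv.apply_symm_apply, hlv', smul_smul,
        div_mul_cancel₀ _ hl', ← hlv]
    obtain ⟨α, hα⟩ := hfree k hkK hkl _ hkv
    exact hcol t₀ ht₀ t.1 t.2 t'.1 t'.2 α (hk ▸ hα)
  have hcard := Nat.card_le_card_of_injective f hf
  rw [Nat.card_eq_fintype_card, Fintype.card_coe, Nat.card_prod, Nat.card_eq_fintype_card (α := Option F),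
    Fintype.card_option, hF] at hcard
  have hn' : n + 2 ≤ q := by
    rw [hn] at hF
    subst hF
    rcases n with _ | _ | n
    · simp at hq4
    · simp at hq4
    · have := Nat.lt_two_pow_self (n := n + 1)
      rw [pow_succ]
      omega
  calc T.card ≤ n * (q + 1) := hcard.trans (Nat.mul_le_mul_right _ haut)
    _ < q * q - 1 := by
      have h1 : (n + 2) * (q + 1) ≤ q * (q + 1) := Nat.mul_le_mul_right _ hn'
      rw [add_mul, mul_add q, mul_one] at h1
      omega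

/-- The elements fixed by a scalar form one section on a line. -/
theorem fixed_section {e u m : G} {α : F} (he : c.Scalar e α) (hα : α ≠ 1) (hu : u ∈ B) (hc : Commute e u)
    (hm : m ∈ normalizer (B : Set G)) (hmA : m ∉ normalizer (A : Set G))
    (hfix : m⁻¹ * e * m ∈ normalizer (A : Set G)) : m⁻¹ * u * m ∈ A := by
  classical
  have heB := c.scalar_normB H he
  have heZ : ∀ z ∈ A ⊓ B, m⁻¹ * e * m * z * (m⁻¹ * e * m)⁻¹ ∈ A ⊓ B := fun z hz =>
    H.normS hfix (mul_mem (mul_mem (inv_mem hm) heB) hm) hz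
  have hmzB : ∀ z ∈ A ⊓ B, m * z * m⁻¹ ∈ B := fun z hz => (mem_normalizer_iff.1 hm z).1 hz.2
  -- the section is centralised
  have hcent : ∀ z ∈ A ⊓ B, Commute e (m * z * m⁻¹) := by
    intro z hz
    obtain ⟨y, hyB, hy, hyA⟩ := c.exists_fixed H he hα (H.two.cfg.B_le (hmzB z hz))
    have hz1 : y⁻¹ * (m * z * m⁻¹) ∈ A ⊓ B := mem_inf.2 ⟨hyA, mul_mem (inv_mem hyB) (hmzB z hz)⟩
    obtain ⟨z1, hz1e⟩ : ∃ z1, z1 = y⁻¹ * (m * z * m⁻¹) := ⟨_, rfl⟩
    rw [← hz1e] at hz1
    have hdiff : e * z1 * e⁻¹ * z1⁻¹ = m * ((m⁻¹ * e * m * z * (m⁻¹ * e * m)⁻¹) * z⁻¹) * m⁻¹ := by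
      rw [hz1e]
      calc e * (y⁻¹ * (m * z * m⁻¹)) * e⁻¹ * (y⁻¹ * (m * z * m⁻¹))⁻¹
          = (e * y⁻¹ * e⁻¹) * (e * (m * z * m⁻¹) * e⁻¹) * (m * z * m⁻¹)⁻¹ * y := by group
        _ = y⁻¹ * ((e * (m * z * m⁻¹) * e⁻¹) * (m * z * m⁻¹)⁻¹) * y := by
          rw [hy.inv_right.eq, mul_inv_cancel_right]; group
        _ = (e * (m * z * m⁻¹) * e⁻¹) * (m * z * m⁻¹)⁻¹ := by
          have hB : (e * (m * z * m⁻¹) * e⁻¹) * (m * z * m⁻¹)⁻¹ ∈ B :=
            mul_mem ((mem_normalizer_iff.1 heB _).1 (hmzB z hz)) (inv_mem (hmzB z hz))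
          rw [H.two.cfg.twoEA.comm_right (inv_mem hyB) hB, inv_mul_cancel_right]
        _ = _ := by group
    have hmem : e * z1 * e⁻¹ * z1⁻¹ ∈ A ⊓ B :=
      mul_mem ⟨(mem_normalizer_iff.1 he.1 _).1 hz1.1, (mem_normalizer_iff.1 heB _).1 hz1.2⟩ (inv_mem hz1)
    have hd0 : m⁻¹ * e * m * z * (m⁻¹ * e * m)⁻¹ * z⁻¹ = 1 := by
      by_contra hne
      have hd1 : m⁻¹ * e * m * z * (m⁻¹ * e * m)⁻¹ * z⁻¹ ∈ A ⊓ B := mul_mem (heZ z hz) (inv_mem hz)
      have hmN := H.cent.normA_of_mixed H.two (H.mixed hd1 hne) (g := m⁻¹) (by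
        rw [inv_inv, ← hdiff]; exact hmem.1)
      exact hmA (by simpa using inv_mem hmN)
    rw [hd0, mul_one, mul_inv_cancel, mul_inv_eq_one, mul_inv_eq_iff_eq_mul] at hdiff
    have := c.eq_one_of_commute H he hα hz1.1 hdiff
    rw [hz1e, inv_mul_eq_one] at this
    exact this ▸ hy
  -- so it is the whole centraliser in `B`
  have hsub : ∀ x ∈ B, Commute e x → ∀ y ∈ B, Commute e y → x⁻¹ * y ∈ A → x = y := fun x hx hxc y hy hyc hA =>
    inv_mul_eq_one.1 (c.eq_one_of_commute H he hα hA (hxc.inv_right.mul_right hyc))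
  let fB : {x : G // x ∈ B ∧ Commute e x} → ↥(S : Subgroup G) ⧸ A.subgroupOf (S : Subgroup G) :=
    fun x => ((⟨x.1, H.two.cfg.B_le x.2.1⟩ : ↥(S : Subgroup G)) : ↥(S : Subgroup G) ⧸ A.subgroupOf (S : Subgroup G))
  have hfB : Function.Injective fB := fun x y e' =>
    Subtype.ext (hsub x.1 x.2.1 x.2.2 y.1 y.2.1 y.2.2 ((@QuotientGroup.eq _ _ (A.subgroupOf (S : Subgroup G)) _ _).1 e'))
  let gZ : ↥(A ⊓ B) → {x : G // x ∈ B ∧ Commute e x} := fun z => ⟨m * z * m⁻¹, hmzB z z.2, hcent z z.2⟩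
  have hgZ : Function.Injective gZ := fun z z' e' => Subtype.ext (by
    have := congrArg Subtype.val e'
    simpa [gZ] using this)
  have hle : Nat.card {x : G // x ∈ B ∧ Commute e x} ≤ Nat.card ↥(A ⊓ B) := by
    rw [H.card_Z, ← H.two.relA]
    exact Nat.card_le_card_of_injective fB hfB
  have hbij := (Nat.bijective_iff_injective_and_card gZ).2
    ⟨hgZ, le_antisymm (Nat.card_le_card_of_injective gZ hgZ) hle⟩
  obtain ⟨z, hz⟩ := hbij.2 ⟨u, hu, hc⟩
  have hz' : m * (z : G) * m⁻¹ = u := congrArg Subtype.val hz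
  rw [← hz', show m⁻¹ * (m * (z : G) * m⁻¹) * m = z by group]
  exact z.2.1

/-- An involution centralised by a scalar fixes only one point fixed by it. -/
theorem eq_of_two_fixed {e u x : G} {α : F} (he : c.Scalar e α) (hα : α ≠ 1) (hu : u ∈ normalizer (A : Set G))
    (huu : u * u = 1) (hu1 : u ≠ 1) (hcu : Commute e u) (hcx : Commute e x)
    (hx : x⁻¹ * u * x ∈ normalizer (A : Set G)) : x ∈ normalizer (A : Set G) := by
  obtain ⟨n, hn, h⟩ := H.two.inv_or hu huu
  obtain ⟨β, hβ, hβ1⟩ := c.scalar_conj H he hn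
  have hne : n * u * n⁻¹ ≠ 1 := fun e' => hu1 (by simpa using e')
  have hcm : Commute (n * e * n⁻¹) (n * u * n⁻¹) := hcu.map (MulAut.conj n).toMonoidHom
  rcases h with h | h
  · exact absurd (c.eq_one_of_commute H hβ (hβ1 hα) h hcm) hne
  by_contra hxA
  obtain ⟨k, hk, hz, hz1⟩ := H.symm.fuseA h hne
  obtain ⟨m₀, hm₀, e₀⟩ := H.fixed (g := k * (n * x)) (⟨hz.2, hz.1⟩ : k * (n * u * n⁻¹) * k⁻¹ ∈ A ⊓ B) hz1 (by
    rwa [show (k * (n * x))⁻¹ * (k * (n * u * n⁻¹) * k⁻¹) * (k * (n * x)) = x⁻¹ * u * x by group])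
  obtain ⟨m, hm⟩ : ∃ m, m = k⁻¹ * m₀ := ⟨_, rfl⟩
  have hmB : m ∈ normalizer (B : Set G) := hm ▸ mul_mem (inv_mem hk) hm₀
  have hmx : m⁻¹ * (n * x) ∈ normalizer (A : Set G) := by
    rw [hm, show (k⁻¹ * m₀)⁻¹ * (n * x) = m₀⁻¹ * (k * (n * x)) by group]; exact e₀
  have hmA : m ∉ normalizer (A : Set G) := fun h' => hxA (by
    simpa [mul_assoc] using mul_mem (inv_mem hn) (mul_mem h' hmx))
  have hfix : m⁻¹ * (n * e * n⁻¹) * m ∈ normalizer (A : Set G) := by
    have h' : x⁻¹ * e * x = e := by rw [mul_assoc, hcx.eq, inv_mul_cancel_left]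
    have h3 := mul_mem (mul_mem hmx he.1) (inv_mem hmx)
    rwa [show m⁻¹ * (n * x) * e * (m⁻¹ * (n * x))⁻¹ = m⁻¹ * n * (x * e * x⁻¹) * n⁻¹ * m by group,
      show x * e * x⁻¹ = e by rw [← hcx.eq, mul_inv_cancel_right],
      show m⁻¹ * n * e * n⁻¹ * m = m⁻¹ * (n * e * n⁻¹) * m by group] at h3
  have hA := c.fixed_section H hβ (hβ1 hα) h hcm hmB hmA hfix
  have hA2 := (mem_normalizer_iff.1 (inv_mem hmx) _).1 hA
  rw [show (m⁻¹ * (n * x))⁻¹ * (m⁻¹ * (n * u * n⁻¹) * m) * (m⁻¹ * (n * x))⁻¹⁻¹ = x⁻¹ * u * x by group] at hA2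
  have hc' : Commute e (x⁻¹ * u * x) := ((hcx.inv_right).mul_right hcu).mul_right hcx
  have := c.eq_one_of_commute H he hα hA2 hc'
  exact hu1 (by
    have h' := congrArg (fun y => x * y * x⁻¹) this
    simpa [mul_assoc] using h')

/-- The centraliser of a non-trivial scalar normalises `A`. -/
theorem centralizer_scalar_le (hF : Fintype.card F = q) {e : G} {α : F} (he : c.Scalar e α) (hα : α ≠ 1) :
    centralizer ({e} : Set G) ≤ normalizer (A : Set G) := by
  classical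
  haveI := Fintype.ofFinite G
  by_contra hno
  set NA := normalizer (A : Set G) with hNA
  -- a smallest subgroup of the centraliser over its involutions at the point
  let I : Finset G := Finset.univ.filter fun u => u * u = 1 ∧ u ≠ 1 ∧ u ∈ NA ∧ Commute e u
  let good : Finset (Subgroup G) := Finset.univ.filter fun Y =>
    Y ≤ centralizer ({e} : Set G) ∧ (∀ u ∈ I, u ∈ Y) ∧ ¬ Y ≤ NA
  have hI : ∀ {u}, u ∈ I ↔ u * u = 1 ∧ u ≠ 1 ∧ u ∈ NA ∧ Commute e u := by simp [I]
  obtain ⟨Y, hYg, hmin⟩ := Finset.exists_min_image good (fun Y => Nat.card Y)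
    ⟨centralizer {e}, by
      simp only [good, Finset.mem_filter, Finset.mem_univ, true_and, le_refl, hno, not_false_iff, and_true]
      exact fun u hu => mem_centralizer_singleton_iff.2 (hI.1 hu).2.2.2.symm.eq⟩
  simp only [good, Finset.mem_filter, Finset.mem_univ, true_and] at hYg
  obtain ⟨hYC, hYI, hYN⟩ := hYg
  have hYe : ∀ {y}, y ∈ Y → Commute e y := fun hy => (mem_centralizer_singleton_iff.1 (hYC hy) :).symm
  -- there are at least `q² - 1` of them
  have hIcard : q * q - 1 ≤ I.card := by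
    haveI : Fintype (G ⧸ normalizer (B : Set G)) := Fintype.ofFinite _
    set LS : Set (G ⧸ normalizer (B : Set G)) :=
      (fun n : G => (n : G ⧸ normalizer (B : Set G))) '' (NA : Set G)
    choose rep hrep hrep' using fun l : LS => l.2
    obtain ⟨β, hβ⟩ : ∃ β : LS → F, ∀ l, c.Scalar ((rep l)⁻¹ * e * rep l) (β l) ∧ β l ≠ 1 := by
      refine ⟨fun l => (c.scalar_conj H he (inv_mem (hrep l))).choose, fun l => ?_⟩
      obtain ⟨h1, h2⟩ := (c.scalar_conj H he (inv_mem (hrep l))).choose_spec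
      refine ⟨?_, h2 hα⟩
      convert h1 using 1
      rw [inv_inv]
    obtain ⟨Tr, hTr⟩ := Classical.axiomOfChoice (r := fun (p : LS × (↥(S : Subgroup G) ⧸ A.subgroupOf (S : Subgroup G)))
        (u : G) => u ∈ B ∧ Commute ((rep p.1)⁻¹ * e * rep p.1) u ∧
          u⁻¹ * ((p.2.out : ↥(S : Subgroup G)) : G) ∈ A)
      (fun p => c.exists_fixed H (hβ p.1).1 (hβ p.1).2 p.2.out.2)
    have hmaps : ∀ p, p.2 ≠ ((1 : ↥(S : Subgroup G)) : ↥(S : Subgroup G) ⧸ A.subgroupOf (S : Subgroup G)) →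
        rep p.1 * Tr p * (rep p.1)⁻¹ ∈ I ∧ Tr p ∉ A := by
      intro p hp
      obtain ⟨hB, hc, hA⟩ := hTr p
      have hnA : Tr p ∉ A := fun h => hp (by
        rw [← p.2.out_eq]
        refine QuotientGroup.eq.2 ?_
        rw [mul_one, mem_subgroupOf]
        simpa using inv_mem (mul_mem h hA))
      refine ⟨hI.2 ⟨?_, ?_, ?_, ?_⟩, hnA⟩
      · rw [show rep p.1 * Tr p * (rep p.1)⁻¹ * (rep p.1 * Tr p * (rep p.1)⁻¹) =
          rep p.1 * (Tr p * Tr p) * (rep p.1)⁻¹ by group, H.two.cfg.sqB hB, mul_one, mul_inv_cancel]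
      · intro h
        exact hnA (by rw [conj_eq_one_iff.1 h]; exact one_mem A)
      · exact mul_mem (mul_mem (hrep _) (H.two.cfg.twoEA.normA (H.two.cfg.B_le hB))) (inv_mem (hrep _))
      · have := hc.map (MulAut.conj (rep p.1)).toMonoidHom
        simpa [mul_assoc] using this
    let D := {p : LS × (↥(S : Subgroup G) ⧸ A.subgroupOf (S : Subgroup G)) //
      p.2 ≠ ((1 : ↥(S : Subgroup G)) : ↥(S : Subgroup G) ⧸ A.subgroupOf (S : Subgroup G))}
    let f : D → I := fun p => ⟨rep p.1.1 * Tr p.1 * (rep p.1.1)⁻¹, (hmaps p.1 p.2).1⟩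
    have hf : Function.Injective f := by
      rintro ⟨⟨l, s⟩, hs⟩ ⟨⟨l', s'⟩, hs'⟩ h
      have h' : rep l * Tr (l, s) * (rep l)⁻¹ = rep l' * Tr (l', s') * (rep l')⁻¹ := congrArg Subtype.val h
      obtain ⟨hB, hc, hA⟩ := hTr (l, s)
      obtain ⟨hB', hc', hA'⟩ := hTr (l', s')
      have hnA := (hmaps _ hs).2
      have hne : Tr (l, s) ≠ 1 := fun e1 => hnA (e1 ▸ one_mem A)
      have hne' : Tr (l', s') ≠ 1 := fun e1 => (hmaps _ hs').2 (e1 ▸ one_mem A)
      have hll : l = l' := by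
        obtain ⟨m, hm, hmz, -⟩ := H.symm.fuseA hB hne
        obtain ⟨m', hm', hmz', -⟩ := H.symm.fuseA hB' hne'
        obtain ⟨n, hn⟩ : ∃ n, n = (rep l)⁻¹ * rep l' := ⟨_, rfl⟩
        have hnA' : n ∈ normalizer (A : Set G) := hn ▸ mul_mem (inv_mem (hrep l)) (hrep l')
        have h1 : (m⁻¹)⁻¹ * Tr (l, s) * m⁻¹ ∈ A := by rw [inv_inv]; exact hmz.2
        have h2 : (n * m'⁻¹)⁻¹ * Tr (l, s) * (n * m'⁻¹) ∈ A := by
          have e1 : n⁻¹ * Tr (l, s) * n = Tr (l', s') := by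
            rw [hn, show ((rep l)⁻¹ * rep l')⁻¹ * Tr (l, s) * ((rep l)⁻¹ * rep l') =
              (rep l')⁻¹ * (rep l * Tr (l, s) * (rep l)⁻¹) * rep l' by group, h']
            group
          rw [show (n * m'⁻¹)⁻¹ * Tr (l, s) * (n * m'⁻¹) = m' * (n⁻¹ * Tr (l, s) * n) * m'⁻¹ by group, e1]
          exact hmz'.2
        have hmA : m⁻¹ ∉ normalizer (A : Set G) := fun hmm => hnA (by
          simpa [mul_assoc] using (mem_normalizer_iff.1 hmm _).1 hmz.2)
        have hB2 := H.line_unique (n := n) (m := m⁻¹) (m' := m'⁻¹) hnA' (inv_mem hm) (inv_mem hm') hmA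
          (H.centre_unique hne h2 h1)
        refine Subtype.ext ?_
        rw [← hrep' l, ← hrep' l']
        exact QuotientGroup.eq.2 (hn ▸ hB2)
      subst hll
      have hT : Tr (l, s) = Tr (l, s') := mul_left_cancel (mul_right_cancel h')
      have hss : s = s' := by
        rw [← s.out_eq, ← s'.out_eq]
        refine QuotientGroup.eq.2 ?_
        rw [mem_subgroupOf]
        rw [← hT] at hA'
        simpa [mul_assoc] using mul_mem (inv_mem hA) hA'
      subst hss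
      rfl
    have h := Nat.card_le_card_of_injective f hf
    have hD : Nat.card D = (q + 1) * (q - 1) := by
      let Q := ↥(S : Subgroup G) ⧸ A.subgroupOf (S : Subgroup G)
      let e' : D ≃ LS × {s : Q // s ≠ ((1 : ↥(S : Subgroup G)) : Q)} :=
        { toFun := fun p => (p.1.1, ⟨p.1.2, p.2⟩)
          invFun := fun p => ⟨(p.1, p.2.1), p.2.2⟩
          left_inv := fun _ => rfl
          right_inv := fun _ => rfl }
      rw [Nat.card_congr e', Nat.card_prod, Nat.card_coe_set_eq, H.cent.card_lines H.two]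
      haveI := Fintype.ofFinite Q
      rw [Nat.card_eq_fintype_card, Fintype.card_subtype_compl, Fintype.card_subtype_eq,
        ← Nat.card_eq_fintype_card (α := Q)]
      rw [show Nat.card Q = q from H.two.relA]
    rw [hD, Nat.card_eq_fintype_card, Fintype.card_coe] at h
    have e2 : (q + 1) * (q - 1) = q * q - 1 := by
      rw [Nat.mul_sub, add_mul, mul_one, one_mul]; omega
    omega
  have hIne : ∃ u, u ∈ I := by
    have := H.two.four_le
    have h1 : 4 * 4 ≤ q * q := Nat.mul_le_mul this this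
    exact Finset.card_pos.1 (show 0 < I.card by omega)
  have huniq : ∀ {u x}, u ∈ I → Commute e x → x⁻¹ * u * x ∈ NA → x ∈ NA := fun hu hx h =>
    c.eq_of_two_fixed H he hα (hI.1 hu).2.2.1 (hI.1 hu).1 (hI.1 hu).2.1 (hI.1 hu).2.2.2 hx h
  -- every involution of `Y` is conjugate in `Y` to one of them
  have hconj : ∀ t ∈ Y, t * t = 1 → t ≠ 1 → ∃ y ∈ Y, y⁻¹ * t * y ∈ I := by
    intro t ht htt ht1
    by_cases htN : t ∈ NA
    · exact ⟨1, one_mem _, by simpa using hI.2 ⟨htt, ht1, htN, hYe ht⟩⟩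
    obtain ⟨u, hu⟩ := hIne
    obtain ⟨huu, -, huN, hue⟩ := hI.1 hu
    have htinv := inv_eq_of_mul_eq_one_right htt
    have huinv := inv_eq_of_mul_eq_one_right huu
    have hinv : ∀ j : ℕ, t * (t * u) ^ j = ((t * u) ^ j)⁻¹ * t ∧ u * (t * u) ^ j = ((t * u) ^ j)⁻¹ * u := by
      intro j
      rw [← inv_pow, mul_inv_rev, htinv, huinv]
      exact ⟨(SemiconjBy.pow_right (show t * (t * u) = u * t * t by
        rw [← mul_assoc, htt, one_mul, mul_assoc, htt, mul_one]) j).eq,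
        (SemiconjBy.pow_right (show u * (t * u) = u * t * u by rw [mul_assoc]) j).eq⟩
    rcases Nat.even_or_odd (orderOf (t * u)) with ⟨j, hj⟩ | ⟨j, hj⟩
    · exfalso
      have hpos := orderOf_pos (t * u)
      obtain ⟨i, hi⟩ : ∃ i, i = (t * u) ^ j := ⟨_, rfl⟩
      have hi1 : i ≠ 1 := hi ▸ pow_ne_one_of_lt_orderOf (by omega) (by omega)
      have hii : i * i = 1 := by rw [hi, ← pow_add, ← hj, pow_orderOf_eq_one]
      have hiinv := inv_eq_of_mul_eq_one_right hii
      have h1 : t * i = i * t := by have := (hinv j).1; rwa [← hi, hiinv] at this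
      have h2 : u * i = i * u := by have := (hinv j).2; rwa [← hi, hiinv] at this
      have hiY : i ∈ Y := hi ▸ pow_mem (mul_mem ht (hYI u hu)) j
      have hiN : i ∈ NA := huniq hu (hYe hiY) (by
        rw [hiinv, ← h2, mul_assoc, hii, mul_one]; exact huN)
      exact htN (huniq (hI.2 ⟨hii, hi1, hiN, hYe hiY⟩) (hYe ht) (by
        rw [htinv, h1, mul_assoc, htt, mul_one]; exact hiN))
    · refine ⟨(t * u) ^ (j + 1), pow_mem (mul_mem ht (hYI u hu)) _, ?_⟩
      rw [mul_assoc, (hinv (j + 1)).1, ← mul_assoc, ← inv_pow, ← pow_add, inv_pow]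
      rw [show j + 1 + (j + 1) = orderOf (t * u) + 1 by omega, pow_succ, pow_orderOf_eq_one, one_mul, mul_inv_rev,
        huinv, htinv, mul_assoc, htt, mul_one]
      exact hu
  -- the orbit
  set Ω : Set (G ⧸ NA) := (fun y : G => (y : G ⧸ NA)) '' (Y : Set G) with hΩ
  haveI : Fintype Ω := Fintype.ofFinite _
  haveI : Nonempty Ω := ⟨⟨_, 1, one_mem _, rfl⟩⟩
  choose rep hrep hrep' using fun p : Ω => p.2
  have hone : ∀ {t x y}, t * t = 1 → t ≠ 1 → x ∈ Y → y ∈ Y → t ∈ Y → x⁻¹ * t * x ∈ NA → y⁻¹ * t * y ∈ NA →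
      x⁻¹ * y ∈ NA := by
    intro t x y htt ht1 hx hy ht h1 h2
    refine huniq (u := x⁻¹ * t * x) (hI.2 ⟨?_, fun h => ht1 (by
      have := congrArg (fun z => x * z * x⁻¹) h
      simpa [mul_assoc] using this), h1, hYe (mul_mem (mul_mem (inv_mem hx) ht) hx)⟩)
      (hYe (mul_mem (inv_mem hx) hy)) ?_
    · rw [show x⁻¹ * t * x * (x⁻¹ * t * x) = x⁻¹ * (t * t) * x by group, htt, mul_one, inv_mul_cancel]
    · rwa [show (x⁻¹ * y)⁻¹ * (x⁻¹ * t * x) * (x⁻¹ * y) = y⁻¹ * t * y by group]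
  let T : Finset G := Finset.univ.filter fun t => t ∈ Y ∧ t * t = 1 ∧ t ≠ 1
  have hTmem : ∀ {t}, t ∈ T ↔ t ∈ Y ∧ t * t = 1 ∧ t ≠ 1 := by simp [T]
  let f : G → Ω → Ω := fun t p => if ht : t ∈ Y then ⟨((t * rep p : G) : G ⧸ NA), _, mul_mem ht (hrep p), rfl⟩ else p
  have hff : ∀ {t}, t ∈ Y → ∀ p q' : Ω, f t p = q' ↔ (t * rep p)⁻¹ * rep q' ∈ NA := by
    intro t ht p q'
    simp only [f, dif_pos ht]
    rw [Subtype.ext_iff]
    constructor
    · intro h; exact QuotientGroup.eq.1 (h.trans (hrep' q').symm)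
    · intro h; exact (QuotientGroup.eq.2 h).trans (hrep' q')
  have hfix : ∀ {t}, t ∈ T → ∀ p : Ω, f t p = p ↔ (rep p)⁻¹ * t * rep p ∈ NA := fun {t} ht p => by
    rw [hff (hTmem.1 ht).1, mul_inv_rev, inv_eq_of_mul_eq_one_right (hTmem.1 ht).2.1]
  have hcnt : ∀ t ∈ T, (Finset.univ.filter fun p : Ω => p ≠ f t p).card = Fintype.card Ω - 1 := by
    intro t ht
    obtain ⟨htY, htt, ht1⟩ := hTmem.1 ht
    obtain ⟨y, hy, hyI⟩ := hconj t htY htt ht1
    have hpy : ∀ p : Ω, p ≠ f t p ↔ p ≠ ⟨_, y, hy, rfl⟩ := fun p => by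
      rw [ne_comm, not_iff_not, hfix ht, Subtype.ext_iff, ← hrep' p]
      constructor
      · exact fun h => QuotientGroup.eq.2 (hone htt ht1 (hrep p) hy htY h (hI.1 hyI).2.2.1)
      · intro h
        have h' : (rep p)⁻¹ * y ∈ NA := QuotientGroup.eq.1 h
        have := mul_mem (mul_mem h' (hI.1 hyI).2.2.1) (inv_mem h')
        simpa [mul_assoc] using this
    rw [Finset.filter_congr (fun p _ => hpy p), Finset.filter_ne', Finset.card_erase_of_mem (Finset.mem_univ _),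
      Finset.card_univ]
  have hTcard : T.card = Fintype.card Ω * I.card := by
    rw [← Finset.card_univ (α := Ω), ← Finset.card_product]
    refine (Finset.card_bij (fun p _ => rep p.1 * p.2 * (rep p.1)⁻¹) ?_ ?_ ?_).symm
    · rintro ⟨p, u⟩ hpu
      obtain ⟨huu, hu1, -, -⟩ := hI.1 (Finset.mem_product.1 hpu).2
      refine hTmem.2 ⟨mul_mem (mul_mem (hrep p) (hYI u (Finset.mem_product.1 hpu).2)) (inv_mem (hrep p)), ?_,
        fun h => hu1 (by simpa using h)⟩
      rw [show rep p * u * (rep p)⁻¹ * (rep p * u * (rep p)⁻¹) = rep p * (u * u) * (rep p)⁻¹ by group, huu,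
        mul_one, mul_inv_cancel]
    · rintro ⟨p, u⟩ hpu ⟨p', u'⟩ hpu' h
      have hu := (Finset.mem_product.1 hpu).2
      have hu' := (Finset.mem_product.1 hpu').2
      obtain ⟨huu, hu1, huN, -⟩ := hI.1 hu
      have hN : (rep p)⁻¹ * rep p' ∈ NA := huniq hu (hYe (mul_mem (inv_mem (hrep p)) (hrep p'))) (by
        rw [show ((rep p)⁻¹ * rep p')⁻¹ * u * ((rep p)⁻¹ * rep p') = (rep p')⁻¹ * (rep p * u * (rep p)⁻¹) * rep p'
          by group, h, show (rep p')⁻¹ * (rep p' * u' * (rep p')⁻¹) * rep p' = u' by group]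
        exact (hI.1 hu').2.2.1)
      have hp : p = p' := Subtype.ext (((hrep' p).symm.trans (QuotientGroup.eq.2 hN)).trans (hrep' p'))
      subst hp
      exact Prod.ext rfl (mul_left_cancel (mul_right_cancel h))
    · intro t ht
      obtain ⟨htY, htt, ht1⟩ := hTmem.1 ht
      obtain ⟨y, hy, hyI⟩ := hconj t htY htt ht1
      obtain ⟨p, hp⟩ : ∃ p : Ω, (p : G ⧸ NA) = (y : G ⧸ NA) := ⟨⟨_, y, hy, rfl⟩, rfl⟩
      have hN : y⁻¹ * rep p ∈ NA := QuotientGroup.eq.1 (hp.symm.trans (hrep' p).symm)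
      refine ⟨(p, (rep p)⁻¹ * t * rep p), Finset.mem_product.2 ⟨Finset.mem_univ _, hI.2 ⟨?_, fun h => ht1 (by
        have := congrArg (fun z => rep p * z * (rep p)⁻¹) h
        simpa [mul_assoc] using this), ?_, hYe (mul_mem (mul_mem (inv_mem (hrep p)) htY) (hrep p))⟩⟩, by group⟩
      · rw [show (rep p)⁻¹ * t * rep p * ((rep p)⁻¹ * t * rep p) = (rep p)⁻¹ * (t * t) * rep p by group, htt,
          mul_one, inv_mul_cancel]
      · rw [show (rep p)⁻¹ * t * rep p = (y⁻¹ * rep p)⁻¹ * (y⁻¹ * t * y) * (y⁻¹ * rep p) by group]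
        exact mul_mem (mul_mem (inv_mem hN) (hI.1 hyI).2.2.1) hN
  have hΩ2 : 0 < Fintype.card Ω - 1 := by
    obtain ⟨y, hy, hyN⟩ := Set.not_subset.1 hYN
    have : 1 < Fintype.card Ω := Fintype.one_lt_card_iff.2 ⟨⟨_, y, hy, rfl⟩, ⟨_, 1, one_mem _, rfl⟩, fun h => hyN (by
      have := QuotientGroup.eq.1 (Subtype.ext_iff.1 h)
      simpa using inv_mem this)⟩
    omega
  obtain ⟨p, q', hpq, hj⟩ := exists_heavy_pair T f (fun a b => a ≠ b) hΩ2 hcnt (fun x => by
    rw [Finset.filter_ne, Finset.card_erase_of_mem (Finset.mem_univ _), Finset.card_univ]) hTcard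
  -- move to the base point
  set h := (rep p)⁻¹ * rep q' with hh
  have hhY : h ∈ Y := mul_mem (inv_mem (hrep p)) (hrep q')
  have hhN : h ∉ NA := fun h' => hpq (Subtype.ext (((hrep' p).symm.trans (QuotientGroup.eq.2 h')).trans (hrep' q')))
  have hfar : ¬ Col A B h := by
    rintro ⟨n, hn, m, hm, r⟩
    obtain ⟨β, hβ, hβ1⟩ := c.scalar_conj H he (inv_mem hn)
    rw [inv_inv] at hβ
    have hmA : m ∉ NA := fun hm' => hhN (by simpa [mul_assoc] using mul_mem (mul_mem hn hm') r)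
    have hfixe : m⁻¹ * (n⁻¹ * e * n) * m ∈ NA := by
      have h' : h * e * h⁻¹ = e := by rw [← (hYe hhY).eq, mul_inv_cancel_right]
      have := mul_mem (mul_mem r he.1) (inv_mem r)
      rwa [show (n * m)⁻¹ * h * e * ((n * m)⁻¹ * h)⁻¹ = m⁻¹ * (n⁻¹ * (h * e * h⁻¹) * n) * m by group, h'] at this
    obtain ⟨s, hs, hsA⟩ : ∃ s ∈ (S : Subgroup G), s ∉ A :=
      ⟨_, H.two.cfg.B_le H.two.cfg.twoEA.exB.choose_spec.1, H.two.cfg.twoEA.exB.choose_spec.2⟩
    obtain ⟨v, hvB, hve, hvA⟩ := c.exists_fixed H hβ (hβ1 hα) hs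
    have hv1 : v ≠ 1 := fun e1 => hsA (by simpa [e1] using hvA)
    have hA := c.fixed_section H hβ (hβ1 hα) hvB hve hm hmA hfixe
    refine hhN (huniq (u := n * v * n⁻¹) (hI.2 ⟨?_, fun e1 => hv1 (by simpa using e1),
      mul_mem (mul_mem hn (H.two.cfg.twoEA.normA (H.two.cfg.B_le hvB))) (inv_mem hn), ?_⟩) (hYe hhY) ?_)
    · rw [show n * v * n⁻¹ * (n * v * n⁻¹) = n * (v * v) * n⁻¹ by group, H.two.cfg.sqB hvB, mul_one, mul_inv_cancel]
    · have := hve.map (MulAut.conj n).toMonoidHom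
      simpa [mul_assoc] using this
    · rw [show h⁻¹ * (n * v * n⁻¹) * h = ((n * m)⁻¹ * h)⁻¹ * (m⁻¹ * v * m) * ((n * m)⁻¹ * h) by group]
      exact mul_mem (mul_mem (inv_mem r) (le_normalizer hA)) r
  let T' : Finset G := (T.filter fun t => f t p = q').image fun t => (rep p)⁻¹ * t * rep p
  have hT' : T'.card = (T.filter fun t => f t p = q').card :=
    Finset.card_image_of_injective _ fun a b h => mul_left_cancel (mul_right_cancel h)
  have hT'mem : ∀ t ∈ T', t ∈ Y ∧ t * t = 1 ∧ t ≠ 1 ∧ t⁻¹ * h ∈ NA := by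
    intro t' ht'
    obtain ⟨t, ht, rfl⟩ := Finset.mem_image.1 ht'
    obtain ⟨htT, htf⟩ := Finset.mem_filter.1 ht
    obtain ⟨htY, htt, ht1⟩ := hTmem.1 htT
    refine ⟨mul_mem (mul_mem (inv_mem (hrep p)) htY) (hrep p), ?_, fun h => ht1 (by
        have := congrArg (fun z => rep p * z * (rep p)⁻¹) h
        simpa [mul_assoc] using this), ?_⟩
    · rw [show (rep p)⁻¹ * t * rep p * ((rep p)⁻¹ * t * rep p) = (rep p)⁻¹ * (t * t) * rep p by group, htt,
        mul_one, inv_mul_cancel]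
    · have := (hff htY p q').1 htf
      rwa [show ((rep p)⁻¹ * t * rep p)⁻¹ * h = (t * rep p)⁻¹ * rep q' by rw [hh]; group]
  refine absurd (c.swap_bound H hF hfar T' (fun t ht => ⟨(hT'mem t ht).2.1, (hT'mem t ht).2.2.2⟩) ?_)
    (by rw [hT']; omega)
  intro t₀ ht₀ t₁ ht₁ t₂ ht₂ γ hk
  obtain ⟨hY₀, h00, h01, hh0⟩ := hT'mem t₀ ht₀
  obtain ⟨hY₁, h11, h12, hh1⟩ := hT'mem t₁ ht₁
  obtain ⟨hY₂, h22, h23, hh2⟩ := hT'mem t₂ ht₂
  obtain ⟨k, hkdef⟩ : ∃ k, k = (t₀ * t₂)⁻¹ * (t₀ * t₁) := ⟨_, rfl⟩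
  rw [← hkdef] at hk
  have i0 := inv_eq_of_mul_eq_one_right h00
  have i1 := inv_eq_of_mul_eq_one_right h11
  have i2 := inv_eq_of_mul_eq_one_right h22
  have hk12 : k = t₂ * t₁ := by rw [hkdef]; group; rw [zpow_neg, zpow_one, i2]
  have hinN : ∀ {a b}, a⁻¹ * h ∈ NA → b⁻¹ * h ∈ NA → a⁻¹ * b ∈ NA := fun ha hb => by
    simpa [mul_assoc] using mul_mem ha (inv_mem hb)
  have hd : t₀ * t₂ ∈ NA := i0 ▸ hinN hh0 hh2
  obtain ⟨γ', hkd, -⟩ := c.scalar_conj H hk hd
  have hk' : c.Scalar (t₀ * k * t₀) γ'⁻¹ := by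
    have e1 : t₀ * k * t₀ = (t₀ * t₂ * k * (t₀ * t₂)⁻¹)⁻¹ := by
      rw [hk12]
      simp only [mul_inv_rev, inv_inv, i0, i1, i2, mul_assoc]
      rw [← mul_assoc t₂ t₂ t₀, h22, one_mul]
    rw [e1]
    refine ⟨inv_mem hkd.1, fun v => c.act_injective hkd.1 ?_⟩
    have hγ : γ' ≠ 0 := fun h0 => by
      have := c.act_injective hkd.1 ((hkd.2 ((1 : F), (0 : F))).trans
        ((show γ' • ((1 : F), (0 : F)) = 0 by rw [h0, zero_smul]).trans (c.act_zero hkd.1).symm))
      simp at this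
    rw [c.act_inv hkd.1, hkd.2, smul_smul, mul_inv_cancel₀ hγ, one_smul]
  have hkY : k ∈ Y := hk12 ▸ mul_mem hY₂ hY₁
  have hk'Y : t₀ * k * t₀ ∈ Y := mul_mem (mul_mem hY₀ hkY) hY₀
  -- scalars in `Y` centralise the involutions at the point
  have hcI : ∀ {g β}, c.Scalar g β → g ∈ Y → ∀ u ∈ I, Commute g u := by
    intro g β hg hgY u hu
    obtain ⟨huu, hu1, huN, hue⟩ := hI.1 hu
    have hlin : c.Semi u (RingEquiv.refl F) := by
      obtain ⟨n, hn, hu'⟩ := H.two.inv_or huN huu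
      have hS : n * u * n⁻¹ ∈ (S : Subgroup G) := hu'.elim (fun h => H.two.cfg.A_le h) fun h => H.two.cfg.B_le h
      obtain ⟨σ, hσ⟩ := c.exists_semi H hn
      have h' := (((hσ.inv hn).mul (inv_mem hn) (H.two.cfg.twoEA.normA hS) (c.semi_S H hS))).mul
        (mul_mem (inv_mem hn) (H.two.cfg.twoEA.normA hS)) hn hσ
      rw [show n⁻¹ * (n * u * n⁻¹) * n = u by group] at h'
      intro l v
      simpa using h' l v
    have h1 := c.scalar_comm H hg huN hlin
    have h2 := c.eq_one_of_commute H he hα h1 ((((hYe hgY).mul_right hue).mul_right (hYe hgY).inv_right).mul_right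
      hue.inv_right)
    rw [mul_inv_eq_one, mul_inv_eq_iff_eq_mul] at h2
    exact h2
  have hYle : Y ≤ centralizer ({k} : Set G) := by
    have hmem : Y ⊓ centralizer ({k} : Set G) ∈ good := by
      simp only [good, Finset.mem_filter, Finset.mem_univ, true_and]
      refine ⟨inf_le_left.trans hYC, fun u hu => mem_inf.2 ⟨hYI u hu,
        mem_centralizer_singleton_iff.2 (hcI hk hkY u hu).symm.eq⟩, fun hle => ?_⟩
      obtain ⟨u, hu⟩ := hIne
      have hcm : Commute k (t₀ * u * t₀) := by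
        have := (hcI hk' hk'Y u hu).map (MulAut.conj t₀).toMonoidHom
        simp only [MulEquiv.toMonoidHom_eq_coe, MonoidHom.coe_coe, MulAut.conj_apply, i0] at this
        rwa [show t₀ * (t₀ * k * t₀) * t₀ = t₀ * t₀ * k * (t₀ * t₀) by group, h00, one_mul, mul_one] at this
      have hmemY : t₀ * u * t₀ ∈ Y ⊓ centralizer ({k} : Set G) := mem_inf.2
        ⟨mul_mem (mul_mem hY₀ (hYI u hu)) hY₀, mem_centralizer_singleton_iff.2 hcm.symm.eq⟩
      have hN : t₀ ∈ NA := huniq hu (hYe hY₀) (by rw [i0]; exact hle hmemY)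
      exact hhN (by
        have := mul_mem hN hh0
        rwa [mul_inv_cancel_left] at this)
    have hle := hmin _ hmem
    have := Subgroup.eq_of_le_of_card_ge (inf_le_left : Y ⊓ centralizer ({k} : Set G) ≤ Y) hle
    exact inf_eq_left.1 this
  have hc0 : t₀ * k = k * t₀ := mem_centralizer_singleton_iff.1 (hYle hY₀)
  have hc2 : t₂ * k = k * t₂ := mem_centralizer_singleton_iff.1 (hYle hY₂)
  have hk2 : k * k = 1 := by
    have h' : t₂ * k * t₂ = k := by rw [hc2, mul_assoc, h22, mul_one]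
    conv_lhs => arg 1; rw [← h', hk12]
    rw [hk12]
    simp only [mul_assoc]
    rw [← mul_assoc t₂ t₂, h22, one_mul, ← mul_assoc t₂ t₂, h22, one_mul, h11]
  have hkodd : Odd (orderOf k) := H.odd_of_fixed hfar hk.1 (by
    rw [hk12, show h⁻¹ * (t₂ * t₁) * h = (t₂⁻¹ * h)⁻¹ * (t₁⁻¹ * h) by
      rw [i1]; group]
    exact mul_mem (inv_mem hh2) hh1)
  have hk1 : k = 1 := by
    have hd2 : orderOf k ∣ 2 := orderOf_dvd_of_pow_eq_one (by rw [pow_two, hk2])
    rcases (Nat.dvd_prime Nat.prime_two).1 hd2 with h' | h'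
    · exact orderOf_eq_one_iff.1 h'
    · rw [h'] at hkodd; exact absurd hkodd (by decide)
  rw [hk12] at hk1
  exact ((eq_inv_of_mul_eq_one_left hk1).trans i1).symm

end Coord

end Cfsg.Agent.ABRec
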