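import Cfsg.Agent.Lib.ABRec.QuadSwap
import Cfsg.Agent.Lib.ABRec.Cover
import Mathlib.FieldTheory.Finite.Basic

/-!
The two copies of `SL(2, F)` commute: the second is the normal closure of `sideC S A` in the centraliser of the torus
element, whose structure is given by Bender's theorem, hence is normalised by the Weyl element of the first.
-/

set_option autoImplicit false
set_option linter.style.haveILetI false
set_option linter.unusedSectionVars false

namespace Cfsg.Agent.ABRec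

open Subgroup Cfsg.Agent.SpAmalgam Cfsg.Agent.SpAmalgam.Four

universe u

variable {G : Type u} [Group G] [Finite G] {S : Sylow 2 G} {A B : Subgroup G} {F F' : Type} [Field F] [Field F']

theorem Ctx.mem_normalizer_of_conj (hc : Ctx S A B) {x c : G} (hc1 : c ∈ sideC (S : Subgroup G) A) (hne : c ≠ 1)
    (hx : x * c * x⁻¹ ∈ sideC (S : Subgroup G) A) : x ∈ normalizer (A : Set G) := by
  haveI : Fact (Nat.Prime 2) := ⟨Nat.prime_two⟩
  have hle : A.map (MulAut.conj x).toMonoidHom ≤ normalizer (A : Set G) := by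
    rintro _ ⟨a, ha, rfl⟩
    refine hc.cent.rootA _ hx (fun h => hne (conj_eq_one_iff.1 h)) (mem_centralizer_singleton_iff.2 ?_)
    exact ((show Commute a c from hc.ea.comm_left ha (hc.c1_le hc1).1).map (MulAut.conj x).toMonoidHom).eq
  obtain ⟨m, hm, hle'⟩ := LESylow.exists_conj_le_of_le hle ((S.isPGroup'.to_le hc.ea.leA).map _)
    (S.subtype hc.sA.norm)
  have hmx : A.map (MulAut.conj (m * x)).toMonoidHom ≤ (S : Subgroup G) := by
    rintro _ ⟨a, ha, rfl⟩
    have h : m * (x * a * x⁻¹) * m⁻¹ ∈ _ := hle' ⟨_, ⟨a, ha, rfl⟩, rfl⟩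
    rw [Sylow.coe_subtype, subgroupOf_map_subtype] at h
    have h1 := h.1
    show m * x * a * (m * x)⁻¹ ∈ _
    rwa [show m * x * a * (m * x)⁻¹ = m * (x * a * x⁻¹) * m⁻¹ by group]
  have := mul_mem (inv_mem hm) (hc.ea.mem_normalizer_of_map (hc.ea.conj_eq hmx))
  rwa [inv_mul_cancel_left] at this

/-- A 2-element of the normaliser of the Sylow subgroup is in it. -/
theorem mem_of_normalizer {S : Sylow 2 G} {n : G} (hn : n ∈ normalizer ((S : Subgroup G) : Set G))
    (hk : ∃ k : ℕ, n ^ 2 ^ k = 1) : n ∈ (S : Subgroup G) := by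
  haveI : Fact (Nat.Prime 2) := ⟨Nat.prime_two⟩
  obtain ⟨k, hk⟩ := hk
  have hp : IsPGroup 2 (zpowers n) := by
    rintro ⟨y, i, rfl⟩
    refine ⟨k, Subtype.ext ?_⟩
    show (n ^ i) ^ 2 ^ k = 1
    rw [← zpow_natCast, ← zpow_mul, mul_comm, zpow_mul, zpow_natCast, hk, one_zpow]
  obtain ⟨m, hm, hle⟩ := LESylow.exists_conj_le_of_le (zpowers_le.2 hn) hp (S.subtype le_normalizer)
  have h : m * n * m⁻¹ ∈ _ := hle ⟨n, mem_zpowers n, rfl⟩
  rw [Sylow.coe_subtype, subgroupOf_map_subtype] at h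
  have h' := (mem_normalizer_iff.1 (inv_mem hm) _).1 h.1
  rwa [show m⁻¹ * (m * n * m⁻¹) * m⁻¹⁻¹ = n by group] at h'

namespace Pre

variable [CharP F 2] {f : Frame (S : Subgroup G) A (A ⊓ B) F}
  {g : Frame (S : Subgroup G) B (B ⊓ A) F'} {h : G} {t : Fˣ} {φ : S2 F →* G} {s : G} {e : F}
  (P : Pre f g h t φ s e) (hc : Ctx S A B)
include P hc

theorem sinv : s⁻¹ = s := inv_eq_of_mul_eq_one_right P.ss

theorem conj_conj (y : G) : s * (s * y * s⁻¹) * s⁻¹ = y := by
  rw [show s * (s * y * s⁻¹) * s⁻¹ = s * s * y * (s * s)⁻¹ by group, P.ss]; group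

theorem h1_eq : φ (uu e * dd t * uu e) = s * h * s :=
  (P.phi.eq_phi P.scal hc P.hact P.hcomm P.hfix).symm

theorem commute_conj (y : G) (hy : Commute y h) : Commute (s * y * s⁻¹) (s * h * s) := by
  have := hy.map (MulAut.conj s).toMonoidHom
  simpa [P.sinv hc] using this

theorem σ_mem (k : S2 F) : Commute (σ φ s k) (s * h * s) := P.commute_conj hc _ (P.phi.comm k)

/-- An element of `A` centralised by the torus element is fixed. -/
theorem A_comm {a : G} (ha : a ∈ A) (he : Commute a (s * h * s)) : a ∈ sideC (S : Subgroup G) A := by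
  have e1 := P.hact.2 a ha
  rw [← he.eq, mul_inv_cancel_right] at e1
  simp only [mA_mul, mA_uu, mA_dd, Prod.ext_iff] at e1
  obtain ⟨e2, e3⟩ := e1
  have h0 : (f.co a).2 = 0 := by
    by_contra hne
    refine P.scal.ne1 ?_
    have : (t : F)⁻¹ = 1 := mul_right_cancel₀ hne (e3.symm.trans (one_mul _).symm)
    exact inv_eq_one.1 this
  rw [h0] at e2
  simp at e2
  refine (f.co_zero ha).1 (Prod.ext ?_ h0)
  by_contra hne
  exact P.scal.ne1 (mul_right_cancel₀ hne (e2.symm.trans (one_mul _).symm))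

/-- An element of `S` centralised by the torus element is fixed. -/
theorem S_comm {y : G} (hy : y ∈ (S : Subgroup G)) (he : Commute y (s * h * s)) :
    y ∈ sideC (S : Subgroup G) A := by
  obtain ⟨x, hx⟩ := hc.acts_S f hy
  have e1 := P.hact.mul hx
  rw [← he.eq] at e1
  have e2 := congrArg Prod.fst (e1.unique (hx.mul P.hact) (0, 1))
  simp [mA_mul, mA_uu, mA_dd] at e2
  have hx0 : x = 0 := by
    by_contra hne
    refine P.scal.ne1 (eq_one_of_sq ?_)
    have := t.ne_zero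
    field_simp at e2
    have e3 : x * ((t : F) * t) = x * 1 := by linear_combination e2
    exact mul_left_cancel₀ hne e3
  exact P.A_comm hc (hc.stab_S f hy (hx.congr fun v => by rw [hx0, uu_zero, mA_one])) he

/-- `s` carries `sideC S A` into the root group of the complement. -/
theorem conj_C1 (hsB : s ∈ normalizer (B : Set G)) {c : G} (hcc : c ∈ sideC (S : Subgroup G) A) :
    ∃ x, s * c * s⁻¹ = φ (uu x) := by
  refine P.phi.of_comm P.scal hc ((mem_normalizer_iff.1 hsB c).1 (hc.c1_le hcc).2) ?_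
  have := (P.hfix c hcc).symm.map (MulAut.conj s).toMonoidHom
  simpa [P.sinv hc, ← mul_assoc, P.ss, mul_assoc h s s] using this

theorem σ_uu (x : F) : σ φ s (uu x) ∈ sideC (S : Subgroup G) A :=
  P.S_comm hc (hc.ea.leB ((mem_normalizer_iff.1 P.sact.1 _).1 (P.phi.mem_B P.scal hc x))) (P.σ_mem hc _)

theorem exists_σ {c : G} (hcc : c ∈ sideC (S : Subgroup G) A) : ∃ x, c = σ φ s (uu x) := by
  obtain ⟨x, hx⟩ := P.conj_C1 hc P.sact.1 hcc
  exact ⟨x, by rw [σ_apply, ← hx, P.conj_conj hc]⟩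

theorem σ_injective : Function.Injective (σ φ s) := fun a b e =>
  P.phi.injective P.scal hc ((MulAut.conj s).injective e)

theorem caseA {n : G} {L : F × F → F × F} (hk : ∃ k : ℕ, n ^ 2 ^ k = 1) (he : Commute n (s * h * s))
    (hL : Acts f n L) {x : F} (hx : x ≠ 0) (hfix : L (x, 0) = (x, 0)) : n ∈ sideC (S : Subgroup G) A :=
  P.S_comm hc (mem_of_normalizer (hc.nS_of_fst f hL hx (congrArg Prod.snd hfix)) hk) he

/-- The Weyl element inverting the torus element. -/
theorem w0_spec : φ (uu e * Cfsg.Agent.SpAmalgam.ss * uu e) * φ (uu e * Cfsg.Agent.SpAmalgam.ss * uu e) = 1 ∧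
    φ (uu e * Cfsg.Agent.SpAmalgam.ss * uu e) * (s * h * s) * φ (uu e * Cfsg.Agent.SpAmalgam.ss * uu e) =
      (s * h * s)⁻¹ := by
  have e1 : uu e * uu e = (1 : S2 F) := by rw [uu_mul, CharTwo.add_self_eq_zero, uu_zero]
  rw [← P.h1_eq hc, ← map_mul, ← map_mul, ← map_mul, ← map_inv]
  constructor
  · rw [show uu e * Cfsg.Agent.SpAmalgam.ss * uu e * (uu e * Cfsg.Agent.SpAmalgam.ss * uu e) =
      uu e * Cfsg.Agent.SpAmalgam.ss * (uu e * uu e) * Cfsg.Agent.SpAmalgam.ss * uu e by group, e1, mul_one,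
      mul_assoc (uu e), ss_ss, mul_one, e1, map_one]
  · congr 1
    rw [show uu e * Cfsg.Agent.SpAmalgam.ss * uu e * (uu e * dd t * uu e) *
        (uu e * Cfsg.Agent.SpAmalgam.ss * uu e) = uu e * (Cfsg.Agent.SpAmalgam.ss * (uu e * uu e) * dd t *
        (uu e * uu e) * Cfsg.Agent.SpAmalgam.ss) * uu e by group, e1, mul_one, mul_one, ss_dd_ss]
    conv_rhs => rw [mul_inv_rev, mul_inv_rev, uu_inv_two, ← mul_assoc]

theorem commute_w0 {y : G} (hy : Commute y (s * h * s)) :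
    Commute (φ (uu e * Cfsg.Agent.SpAmalgam.ss * uu e) * y * (φ (uu e * Cfsg.Agent.SpAmalgam.ss * uu e))⁻¹)
      (s * h * s) := by
  obtain ⟨h2, h3⟩ := P.w0_spec hc
  have h4 := inv_eq_of_mul_eq_one_right h2
  generalize φ (uu e * Cfsg.Agent.SpAmalgam.ss * uu e) = w at h2 h3 h4 ⊢
  have := (hy.inv_right).map (MulAut.conj w).toMonoidHom
  have e1 : w * (s * h * s)⁻¹ * w⁻¹ = s * h * s := by
    rw [h4, ← h3, show w * (w * (s * h * s) * w) * w = w * w * (s * h * s) * (w * w) by group, h2, one_mul,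
      mul_one]
  rw [← e1]
  exact this

/-- A 2-element of the normaliser of `A` centralised by the torus element is fixed. -/
theorem two_elem {n : G} (hn : n ∈ normalizer (A : Set G)) (hk : ∃ k : ℕ, n ^ 2 ^ k = 1)
    (he : Commute n (s * h * s)) : n ∈ sideC (S : Subgroup G) A := by
  haveI : Fact (Nat.Prime 2) := ⟨Nat.prime_two⟩
  obtain ⟨m, hm, hmS⟩ : ∃ m ∈ normalizer (A : Set G), m * n * m⁻¹ ∈ (S : Subgroup G) := by
    obtain ⟨k, hk⟩ := hk
    have hp : IsPGroup 2 (zpowers n) := by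
      rintro ⟨y, i, rfl⟩
      refine ⟨k, Subtype.ext ?_⟩
      show (n ^ i) ^ 2 ^ k = 1
      rw [← zpow_natCast, ← zpow_mul, mul_comm, zpow_mul, zpow_natCast, hk, one_zpow]
    obtain ⟨m, hm, hle⟩ := LESylow.exists_conj_le_of_le (zpowers_le.2 hn) hp (S.subtype hc.sA.norm)
    have h : m * n * m⁻¹ ∈ _ := hle ⟨n, mem_zpowers n, rfl⟩
    rw [Sylow.coe_subtype, subgroupOf_map_subtype] at h
    exact ⟨m, hm, h.1⟩
  by_cases hnA : m * n * m⁻¹ ∈ A
  · refine P.A_comm hc ?_ he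
    simpa [mul_assoc] using hc.conjA (inv_mem hm) hnA
  obtain ⟨y, hy⟩ := hc.acts_S f hmS
  have hy0 : y ≠ 0 := fun h0 => hnA (hc.stab_S f hmS (hy.congr fun v => by rw [h0, uu_zero, mA_one]))
  obtain ⟨M, hM⟩ := Acts.exists_map f hm
  obtain ⟨M', hM', hMM', hM'M⟩ := hM.exists_inv
  obtain ⟨L, hL⟩ := Acts.exists_map f hn
  have hconj : ∀ v, M (L v) = mA (uu y) (M v) := fun v => by
    have e1 := hM.mul hL
    rw [show m * n = m * n * m⁻¹ * m by group] at e1
    exact e1.unique (hy.mul hM) v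
  have hv : L (M' (1, 0)) = M' (1, 0) := hM.injective (by rw [hconj, hMM', mA_uu]; simp)
  have hcg : ∀ u, L (mA (uu e * dd t * uu e) u) = mA (uu e * dd t * uu e) (L u) := fun u => by
    have e1 := hL.mul P.hact
    rw [he.eq] at e1
    exact e1.unique (P.hact.mul hL) u
  have hg1 : L (mA (uu e * dd t * uu e) (M' (1, 0))) = mA (uu e * dd t * uu e) (M' (1, 0)) := by rw [hcg, hv]
  obtain ⟨l, hl⟩ : ∃ l : F, mA (uu e * dd t * uu e) (M' (1, 0)) = l • M' (1, 0) := by
    generalize mA (uu e * dd t * uu e) (M' (1, 0)) = u at hg1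
    have e1 := hconj u
    rw [hg1, mA_uu] at e1
    have e2 : (M u).2 = 0 := by
      have e3 := congrArg Prod.fst e1
      change (M u).1 = (M u).1 + y * (M u).2 at e3
      exact (mul_eq_zero.1 (left_eq_add.1 e3)).resolve_left hy0
    obtain ⟨l, hl⟩ := hc.line f hM' (M u).1
    exact ⟨l, by rw [← hl, ← e2, Prod.mk.eta, hM'M]⟩
  have hv0 : M' (1, 0) ≠ 0 := fun h0 => one_ne_zero
    (congrArg Prod.fst (hM'.injective (h0.trans hM'.map_zero.symm)) : (1 : F) = 0)
  generalize M' (1, 0) = v at hv hl hv0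
  obtain ⟨p, r⟩ := v
  simp only [mA_mul, mA_uu, mA_dd, Prod.smul_mk, smul_eq_mul, Prod.ext_iff] at hl
  obtain ⟨hl1, hl2⟩ := hl
  by_cases hr : r = 0
  · subst hr
    exact P.caseA hc hk he hL (fun h0 => hv0 (by rw [h0]; rfl)) hv
  have hl3 : l = (t : F)⁻¹ := (mul_right_cancel₀ hr hl2).symm
  subst hl3
  have hp : p + e * r = 0 := by
    have h1 : (t : F) ≠ (t : F)⁻¹ := fun h0 => P.scal.ne1 (eq_one_of_sq (by
      nth_rw 2 [h0]; exact mul_inv_cancel₀ t.ne_zero))
    have h2 : ((t : F) + (t : F)⁻¹) * (p + e * r) = 0 := by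
      linear_combination hl1 + (t : F)⁻¹ * p * (CharTwo.two_eq_zero : (2 : F) = 0)
    exact (mul_eq_zero.1 h2).resolve_left fun h0 => h1 (CharTwo.add_eq_zero.1 h0)
  obtain ⟨h2, h3⟩ := P.w0_spec hc
  have h4 := inv_eq_of_mul_eq_one_right h2
  have hw := P.phi.act (uu e * Cfsg.Agent.SpAmalgam.ss * uu e)
  have hcw := P.commute_w0 hc he
  have hfw := P.phi.fix (uu e * Cfsg.Agent.SpAmalgam.ss * uu e)
  rw [h4] at hcw
  have hW : mA (uu e * Cfsg.Agent.SpAmalgam.ss * uu e) (r, 0) = (p, r) := by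
    rw [mA_mul, mA_mul]
    simp only [mA_uu, mA_ss, mul_zero, add_zero, zero_add, Prod.ext_iff]
    exact ⟨(CharTwo.add_eq_zero.1 hp).symm, trivial⟩
  have hW' : mA (uu e * Cfsg.Agent.SpAmalgam.ss * uu e) (p, r) = (r, 0) := by
    rw [mA_mul, mA_mul]
    simp only [mA_uu, mA_ss, hp, mul_zero, add_zero]
  generalize φ (uu e * Cfsg.Agent.SpAmalgam.ss * uu e) = w at h2 h3 h4 hw hcw hfw
  have hk' : ∃ k : ℕ, (w * n * w) ^ 2 ^ k = 1 := by
    obtain ⟨k, hk⟩ := hk
    refine ⟨k, ?_⟩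
    nth_rw 2 [← h4]
    rw [conj_pow, hk]; group
  have hn' := P.caseA hc hk' hcw ((hw.mul hL).mul hw) hr (by
    show mA _ (L (mA _ (r, 0))) = _
    rw [hW, hv, hW'])
  have := (hfw _ hn').eq
  have e1 : w * n * w = n := by
    calc w * n * w = w * (w * n * w) * w := by
          rw [this, mul_assoc (w * n * w), h2, mul_one]
      _ = w * w * n * (w * w) := by group
      _ = n := by rw [h2, one_mul, mul_one]
  rwa [e1] at hn'

/-- The structure of the closure of `sideC S A` in the centraliser of the torus element. -/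
theorem conj_mem_range [Fintype F] (h4 : 4 ≤ Fintype.card F) {q c : G}
    (hq : Commute q (s * h * s)) (hcc : c ∈ sideC (S : Subgroup G) A) :
    q * c * q⁻¹ ∈ (σ φ s).range := by
  classical
  haveI : Fact (Nat.Prime 2) := ⟨Nat.prime_two⟩
  set Q := centralizer ({s * h * s} : Set G) with hQ
  set C1 := sideC (S : Subgroup G) A with hC1def
  set T := C1.subgroupOf Q with hTdef
  have hQmem : ∀ y, y ∈ Q ↔ Commute y (s * h * s) := fun y => mem_centralizer_singleton_iff
  have hC1Q : C1 ≤ Q := fun c hcc => (hQmem c).2 (P.hfix c hcc).symm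
  have hcardC : Nat.card C1 = Fintype.card F := by
    rw [← Nat.card_eq_fintype_card]
    refine (Nat.card_congr (Equiv.ofBijective (fun x => (⟨_, P.σ_uu hc x⟩ : C1)) ⟨fun a b e' => ?_, ?_⟩)).symm
    · have := congrArg Subtype.val (P.σ_injective hc (congrArg Subtype.val e'))
      exact congrFun (congrFun this 0) 1
    · rintro ⟨c, hcc⟩
      obtain ⟨x, rfl⟩ := P.exists_σ hc hcc
      exact ⟨x, rfl⟩
  obtain ⟨c1, hc1, hc1ne⟩ : ∃ c ∈ C1, c ≠ 1 := ⟨_, P.σ_uu hc 1, fun h1 => one_ne_zero (congrFun (congrFun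
    (congrArg Subtype.val (P.σ_injective hc (h1.trans (map_one _).symm))) 0) 1 : (1 : F) = 0)⟩
  have hcardT : Nat.card T = Fintype.card F := (Nat.card_congr (subgroupOfEquivOfLe hC1Q).toEquiv).trans hcardC
  have hT : TI T := by
    refine ⟨?_, fun t ht => Subtype.ext (hc.ea.sqA _ (hc.c1_le ht).1), hcardT ▸ h4, fun hn => ?_,
      fun x y hy hne hxy => ?_⟩
    · have hp : IsPGroup 2 T := (S.isPGroup'.to_le
        (le_trans hc.c1_le (inf_le_left.trans hc.ea.leA))).comap_of_injective Q.subtype (subtype_injective Q)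
      obtain ⟨R, hR⟩ := hp.exists_le_sylow
      have := LESylow.eq_of_normalizer_inf_le R.isPGroup' hR fun x hx => by
        obtain ⟨hxR, hxN⟩ := mem_inf.1 hx
        obtain ⟨k, hk⟩ := R.isPGroup' ⟨x, hxR⟩
        exact P.two_elem hc (hc.mem_normalizer_of_conj hc1 hc1ne
          ((mem_normalizer_iff.1 hxN ⟨c1, hC1Q hc1⟩).1 hc1))
          ⟨k, congrArg (fun y : (R : Subgroup Q) => ((y : Q) : G)) hk⟩ ((hQmem _).1 x.2)
      rw [this]
      exact R.not_dvd_index
    · have hin := hn.conj_mem (⟨σ φ s (uu 1), hC1Q (P.σ_uu hc 1)⟩ : Q) (P.σ_uu hc 1)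
        ⟨σ φ s Cfsg.Agent.SpAmalgam.ss, (hQmem _).2 (P.σ_mem hc _)⟩
      have hin' : σ φ s Cfsg.Agent.SpAmalgam.ss * σ φ s (uu 1) * (σ φ s Cfsg.Agent.SpAmalgam.ss)⁻¹ ∈ C1 := hin
      rw [← map_inv, ← map_mul, ← map_mul, ss_inv_two, ss_uu_ss] at hin'
      obtain ⟨x, hx⟩ := P.exists_σ hc hin'
      exact one_ne_zero (congrFun (congrFun (congrArg Subtype.val (P.σ_injective hc hx)) 1) 0 : (1 : F) = 0)
    · refine mem_normalizer_fintype fun z hz => ?_
      have hne' : (y : G) ≠ 1 := fun h1 => hne (Subtype.ext h1)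
      exact sideC_conj (hc.mem_normalizer_of_conj hy hne' hxy) hz
  obtain ⟨F2, _, _, _, π, hπ, hcen, hodd, hTU⟩ := hT.exists_hom
  let σQ : S2 F →* Q := (σ φ s).codRestrict Q fun k => (hQmem _).2 (P.σ_mem hc k)
  have hσE : ∀ k, σQ k ∈ normalClosure (T : Set Q) := by
    have hN : ((normalClosure (T : Set Q)).comap σQ).Normal := normalClosure_normal.comap σQ
    have hu : ∀ x, uu x ∈ (normalClosure (T : Set Q)).comap σQ := fun x => subset_normalClosure (P.σ_uu hc x)
    have hll : ll 1 ∈ (normalClosure (T : Set Q)).comap σQ := by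
      have := hN.conj_mem _ (hu 1) Cfsg.Agent.SpAmalgam.ss
      rwa [ss_inv_two, ss_uu_ss] at this
    have htop := closure_uu_ss _ hu (uu_ll_uu (K := F) ▸ mul_mem (mul_mem (hu 1) hll) (hu 1))
    exact fun k => (htop ▸ mem_top k : k ∈ (normalClosure (T : Set Q)).comap σQ)
  let σE : S2 F →* normalClosure (T : Set Q) := σQ.codRestrict _ hσE
  let ψ : S2 F →* Matrix.SpecialLinearGroup (Fin 2) F2 := π.comp σE
  have hψ : Function.Injective ψ := by
    refine (injective_iff_map_eq_one ψ).2 fun k hk => ?_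
    have hkc : ∀ k', k * k' = k' * k := fun k' => P.σ_injective hc (by
      rw [map_mul, map_mul]
      exact congrArg (fun y : normalClosure (T : Set Q) => ((y : Q) : G))
        (mem_center_iff.1 (hcen (MonoidHom.mem_ker.2 hk)) (σE k')).symm)
    exact eq_one_of_comm (hkc _) (hkc _)
  have hψs : Function.Surjective ψ := by
    have h1 : Nat.card F2 = Nat.card F := by
      refine le_antisymm ?_ ?_
      · have hle : Nat.card F2 ≤ Nat.card T := by
          rw [← Nat.card_congr (subgroupOfEquivOfLe (H := T) (K := normalClosure (T : Set Q))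
            subset_normalClosure).toEquiv]
          refine le_trans ?_ (Nat.le_of_dvd Nat.card_pos (card_map_dvd _ π))
          rw [hTU, ← Nat.card_congr (MonoidHom.ofInjective (f := GoodInvol.upperHom F2) fun a b hab =>
            Multiplicative.toAdd.injective (congrFun (congrFun (congrArg Subtype.val hab) 0) 1)).toEquiv,
            Nat.card_congr Multiplicative.toAdd]
        rwa [hcardT, ← Nat.card_eq_fintype_card] at hle
      · have hu : ∀ x, ψ (uu x) ∈ (GoodInvol.upperHom F2).range := fun x => by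
          rw [← hTU]; exact ⟨σE (uu x), P.σ_uu hc x, rfl⟩
        refine (Nat.card_le_card_of_injective (fun x => (⟨_, hu x⟩ : (GoodInvol.upperHom F2).range))
          fun a b e' => ?_).trans (le_of_eq ?_)
        · exact congrFun (congrFun (congrArg Subtype.val (hψ (congrArg Subtype.val e'))) 0) 1
        · rw [← Nat.card_congr (MonoidHom.ofInjective (f := GoodInvol.upperHom F2) fun a b hab =>
            Multiplicative.toAdd.injective (congrFun (congrFun (congrArg Subtype.val hab) 0) 1)).toEquiv,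
            Nat.card_congr Multiplicative.toAdd]
    rw [Nat.card_eq_fintype_card, Nat.card_eq_fintype_card] at h1
    let e2 : F2 ≃+* F := FiniteField.ringEquivOfCardEq h1
    refine ((Nat.bijective_iff_injective_and_card ψ).2 ⟨hψ, le_antisymm
      (Nat.card_le_card_of_injective ψ hψ) (Nat.card_le_card_of_injective
        (Matrix.SpecialLinearGroup.map (n := Fin 2) (e2 : F2 →+* F)) fun a b hab => ?_)⟩).2
    apply Subtype.ext
    ext i j
    exact e2.injective (congrFun (congrFun (congrArg Subtype.val hab) i) j)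
  let jQ : Q := ⟨q, (hQmem q).2 hq⟩ * ⟨c, hC1Q hcc⟩ * ⟨q, (hQmem q).2 hq⟩⁻¹
  let j : normalClosure (T : Set Q) := ⟨jQ,
    normalClosure_normal.conj_mem (⟨c, hC1Q hcc⟩ : Q) (subset_normalClosure (show (⟨c, hC1Q hcc⟩ : Q) ∈ T from hcc)) _⟩
  have hj : j * j = 1 := Subtype.ext (Subtype.ext (by
    show q * c * q⁻¹ * (q * c * q⁻¹) = 1
    rw [show q * c * q⁻¹ * (q * c * q⁻¹) = q * (c * c) * q⁻¹ by group, hc.ea.sqA c (hc.c1_le hcc).1]; group))
  obtain ⟨l, hl⟩ := hψs (π j)
  have hk : (σE l)⁻¹ * j ∈ π.ker := by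
    rw [MonoidHom.mem_ker, map_mul, map_inv, show π (σE l) = π j from hl, inv_mul_cancel]
  have hl2 : l * l = 1 := hψ (by rw [map_mul, hl, ← map_mul, hj, map_one, map_one])
  have hk2 : (σE l)⁻¹ * j * ((σE l)⁻¹ * j) = 1 := by
    calc (σE l)⁻¹ * j * ((σE l)⁻¹ * j) = (σE l)⁻¹ * (j * ((σE l)⁻¹ * j)) := by rw [mul_assoc]
      _ = (σE l)⁻¹ * ((σE l)⁻¹ * j * j) := by rw [mem_center_iff.1 (hcen hk) j]
      _ = (σE l * σE l)⁻¹ := by rw [mul_assoc (σE l)⁻¹ j j, hj]; group
      _ = 1 := by rw [← map_mul, hl2, map_one, inv_one]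
  have hk1 : (σE l)⁻¹ * j = 1 := by
    by_contra hne
    exact Nat.not_even_iff_odd.2 hodd (Invol.even_of_invol_mem (Invol.order_two_of_sq hk2 hne) hk)
  exact ⟨l, congrArg (fun y : normalClosure (T : Set Q) => ((y : Q) : G)) (inv_mul_eq_one.1 hk1)⟩

/-- The two copies commute. -/
theorem comm [Fintype F] (h4 : 4 ≤ Fintype.card F) (k k' : S2 F) : Commute (φ k) (σ φ s k') := by
  obtain ⟨h2, -⟩ := P.w0_spec hc
  have hfw := P.phi.fix (uu e * Cfsg.Agent.SpAmalgam.ss * uu e)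
  obtain ⟨w, hwd⟩ : ∃ w, w = φ (uu e * Cfsg.Agent.SpAmalgam.ss * uu e) := ⟨_, rfl⟩
  rw [← hwd] at h2 hfw
  have hwi : w⁻¹ = w := inv_eq_of_mul_eq_one_right h2
  have hnorm : ∀ k, w * σ φ s k * w⁻¹ ∈ (σ φ s).range := by
    let X : Subgroup (S2 F) := ((σ φ s).range.comap (MulAut.conj w).toMonoidHom).comap (σ φ s)
    have hu : ∀ x, uu x ∈ X := fun x => by
      show w * σ φ s (uu x) * w⁻¹ ∈ (σ φ s).range
      rw [(hfw _ (P.σ_uu hc x)).eq, mul_inv_cancel_right]
      exact ⟨_, rfl⟩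
    have hll : ll 1 ∈ X := by
      show w * σ φ s (ll 1) * w⁻¹ ∈ (σ φ s).range
      have hq : Commute (w * σ φ s Cfsg.Agent.SpAmalgam.ss * w⁻¹) (s * h * s) :=
        hwd ▸ P.commute_w0 hc (P.σ_mem hc _)
      have e1 : w * σ φ s (ll 1) * w⁻¹ = w * σ φ s Cfsg.Agent.SpAmalgam.ss * w⁻¹ * σ φ s (uu 1) *
          (w * σ φ s Cfsg.Agent.SpAmalgam.ss * w⁻¹)⁻¹ := by
        rw [← ss_uu_ss, map_mul, map_mul]
        nth_rw 2 [← ss_inv_two]
        rw [map_inv, show w * σ φ s Cfsg.Agent.SpAmalgam.ss * w⁻¹ * σ φ s (uu 1) =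
          w * σ φ s Cfsg.Agent.SpAmalgam.ss * (w⁻¹ * σ φ s (uu 1)) by group,
          ((hfw _ (P.σ_uu hc 1)).inv_left).eq]
        group
      rw [e1]
      exact P.conj_mem_range hc h4 hq (P.σ_uu hc 1)
    have htop := closure_uu_ss X hu (uu_ll_uu (K := F) ▸ mul_mem (mul_mem (hu 1) hll) (hu 1))
    exact fun k => (htop ▸ mem_top k : k ∈ X)
  let Y : Subgroup (S2 F) := (centralizer ((σ φ s).range : Set G)).comap φ
  have hY : ∀ g, g ∈ Y ↔ ∀ k, Commute (φ g) (σ φ s k) := fun g =>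
    ⟨fun hg k => (mem_centralizer_iff.1 hg _ ⟨k, rfl⟩).symm,
      fun hg => mem_centralizer_iff.2 (by rintro _ ⟨k, rfl⟩; exact (hg k).eq.symm)⟩
  have hu : ∀ x, uu x ∈ Y := fun x => (hY _).2 fun k => by
    have h1 := (P.phi.fix k _ (P.σ_uu hc x)).symm.map (MulAut.conj s).toMonoidHom
    have h1' : Commute (s * σ φ s (uu x) * s⁻¹) (σ φ s k) := h1
    rwa [σ_apply, P.conj_conj hc] at h1'
  have hWY : ∀ x, uu e * Cfsg.Agent.SpAmalgam.ss * uu e * uu x * (uu e * Cfsg.Agent.SpAmalgam.ss * uu e)⁻¹ ∈ Y :=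
    fun x => (hY _).2 fun k => by
      obtain ⟨k', hk'⟩ := hnorm k
      have h1 : Commute (w * φ (uu x) * w⁻¹) (w * σ φ s k' * w⁻¹) :=
        ((hY _).1 (hu x) k').map (MulAut.conj w).toMonoidHom
      have h3 : w * σ φ s k' * w⁻¹ = σ φ s k := by
        rw [hk', hwi, show w * (w * σ φ s k * w) * w = w * w * σ φ s k * (w * w) by group, h2, one_mul, mul_one]
      rw [h3, hwd, ← map_inv, ← map_mul, ← map_mul] at h1
      exact h1
  have hll : ll 1 ∈ Y := by
    have h1 := mul_mem (mul_mem (hu e) (hWY 1)) (hu e)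
    rwa [show uu e * (uu e * Cfsg.Agent.SpAmalgam.ss * uu e * uu 1 * (uu e * Cfsg.Agent.SpAmalgam.ss * uu e)⁻¹) *
      uu e = (ll 1 : S2 F) from ?_] at h1
    have e1 : uu e * uu e = (1 : S2 F) := by rw [uu_mul, CharTwo.add_self_eq_zero, uu_zero]
    rw [mul_inv_rev, mul_inv_rev, uu_inv_two, ss_inv_two,
      show uu e * (uu e * Cfsg.Agent.SpAmalgam.ss * uu e * uu 1 * (uu e * (Cfsg.Agent.SpAmalgam.ss * uu e))) *
      uu e = uu e * uu e * Cfsg.Agent.SpAmalgam.ss * (uu e * uu 1 * uu e) * Cfsg.Agent.SpAmalgam.ss * (uu e * uu e)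
      by group, e1, one_mul, mul_one, uu_mul, uu_mul, add_comm e, add_assoc, CharTwo.add_self_eq_zero, add_zero,
      ss_uu_ss]
  have htop := closure_uu_ss Y hu (uu_ll_uu (K := F) ▸ mul_mem (mul_mem (hu 1) hll) (hu 1))
  exact (hY k).1 (htop ▸ mem_top k) k'

end Pre

end Cfsg.Agent.ABRec
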