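import Cfsg.Agent.Lib.ABRec.QuadRel
import Cfsg.Agent.Lib.S3342Id.PSp
import Cfsg.Agent.Lib.Involutions.Basic

/-!
Recognition of `PSp₄(q)`, `q` even: the relations give an embedding of `PSp₄(q)`; the normaliser of its image
contains the centraliser of each of its involutions, hence is the whole group.
-/

set_option autoImplicit false
set_option linter.style.haveILetI false
set_option linter.unusedSectionVars false

namespace Cfsg.Agent.ABRec

open Subgroup Cfsg.Agent.SpAmalgam Cfsg.Agent.SpAmalgam.Four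

universe u

variable {G : Type u} [Group G] [Finite G] {S : Sylow 2 G} {A B : Subgroup G} {F F' : Type} [Field F] [Field F']

/-- Centralisers of involutions of `A` lie in any subgroup over both normalisers. -/
theorem Ctx.cent_le [CharP F 2] (hc : Ctx S A B) (f : Frame (S : Subgroup G) A (A ⊓ B) F) {N : Subgroup G}
    (hA : normalizer (A : Set G) ≤ N) (hB : normalizer (B : Set G) ≤ N) {i : G} (hi : i ∈ A) (hne : i ≠ 1) :
    centralizer ({i} : Set G) ≤ N := by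
  intro y hy
  obtain ⟨x, hx, hxi⟩ := f.conj_into hc.sA.norm hi
  have hz1 : x * i * x⁻¹ ≠ 1 := fun h => hne (conj_eq_one_iff.1 h)
  have hy' : x * y * x⁻¹ ∈ centralizer ({x * i * x⁻¹} : Set G) := mem_centralizer_singleton_iff.2
    ((show Commute y i from mem_centralizer_singleton_iff.1 hy).map (MulAut.conj x).toMonoidHom).eq
  have hyN : x * y * x⁻¹ ∈ N := by
    by_cases h1 : x * i * x⁻¹ ∈ sideC (S : Subgroup G) A
    · exact hA (hc.cent.rootA _ h1 hz1 hy')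
    by_cases h2 : x * i * x⁻¹ ∈ sideC (S : Subgroup G) B
    · exact hB (hc.cent.rootB _ h2 hz1 hy')
    exact hA (hc.nA (hc.cent.mixed _ hxi h1 h2 hy'))
  have := mul_mem (mul_mem (inv_mem (hA hx)) hyN) (hA hx)
  simpa [mul_assoc] using this

/-- The two kinds of fixed involutions are not conjugate. -/
theorem Ctx.not_conj_roots (hc : Ctx S A B) {c d x : G} (h1 : c ∈ sideC (S : Subgroup G) A)
    (h2 : d ∈ sideC (S : Subgroup G) B) (hd : d ≠ 1) : x * c * x⁻¹ ≠ d := fun e => hd <|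
  hc.eq_one_of_both (e ▸ hc.ea.conj_sideC hc.sA h1 (e ▸ (hc.c2_le h2).1)) h2

/-- A subgroup containing the centralisers of its involutions contains all involutions, unless it has one
class of them. -/
theorem invol_mem {N : Subgroup G}
    (hcent : ∀ i ∈ N, orderOf i = 2 → centralizer ({i} : Set G) ≤ N) {c d : G} (hc : c ∈ N) (hd : d ∈ N)
    (hc2 : orderOf c = 2) (hd2 : orderOf d = 2) (hnc : ∀ x : G, x * c * x⁻¹ ≠ d) {j : G} (hj : orderOf j = 2) :
    j ∈ N := by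
  by_contra hjN
  have key : ∀ i ∈ N, orderOf i = 2 → ∃ x : G, x * i * x⁻¹ = j := by
    intro i hiN hi
    rcases Nat.even_or_odd (orderOf (i * j)) with he | ho
    · exfalso
      obtain ⟨hk1, hk2⟩ := Invol.half_commute hi hj he
      have hko := Invol.half_order hi hj he (orderOf_pos _)
      exact hjN (hcent _ (hcent i hiN hi (mem_centralizer_singleton_iff.2 hk1.eq)) hko
        (mem_centralizer_singleton_iff.2 hk2.symm.eq))
    · obtain ⟨x, -, hx⟩ := Invol.conj_of_odd hi hj ho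
      exact ⟨x, hx⟩
  obtain ⟨x, hx⟩ := key c hc hc2
  obtain ⟨y, hy⟩ := key d hd hd2
  refine hnc (y⁻¹ * x) ?_
  rw [show y⁻¹ * x * c * (y⁻¹ * x)⁻¹ = y⁻¹ * (x * c * x⁻¹) * y by group, hx, ← hy]
  group

namespace Pre

variable [CharP F 2] [CharP F' 2] {f : Frame (S : Subgroup G) A (A ⊓ B) F}
  {g : Frame (S : Subgroup G) B (B ⊓ A) F'} {h : G} {t : Fˣ} {φ : S2 F →* G} {s : G} {e : F}
  (P : Pre f g h t φ s e) (hc : Ctx S A B)
include P hc

/-- A group containing the generators contains `S`. -/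
theorem S_le {R : Subgroup G} (hφR : ∀ k, φ k ∈ R) (hσR : ∀ k, σ φ s k ∈ R) {x : G}
    (hx : x ∈ sideC (S : Subgroup G) B) (hb : (f.co x).1 ≠ 0) (hxR : x ∈ R) : (S : Subgroup G) ≤ R := by
  have h1 : sideC (S : Subgroup G) A ≤ R := fun c hcc => by
    obtain ⟨y, rfl⟩ := P.exists_σ hc hcc
    exact hσR _
  have h2 : sideC (S : Subgroup G) B ≤ R := fun c hcc => by
    have e0 := (f.co_Z (hc.c2_le hcc).1).1 (hc.c2_le hcc)
    by_cases hp : (f.co c).1 = 0
    · rw [hc.co_injC2 f hcc (one_mem _) (by rw [f.co_one]; exact Prod.ext hp e0)]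
      exact one_mem R
    · obtain ⟨a, ha⟩ : ∃ a : Fˣ, (a : F) = (f.co c).1 / (f.co x).1 :=
        ⟨Units.mk0 _ (div_ne_zero hp hb), rfl⟩
      have e1 : c = φ (dd a) * x * (φ (dd a))⁻¹ := by
        refine hc.co_injC2 f hcc (P.dd_C2 hc a hx) ?_
        rw [(P.phi.act _).2 x (hc.c2_le hx).1, mA_dd, ha, div_mul_cancel₀ _ hb,
          (f.co_Z (hc.c2_le hx).1).1 (hc.c2_le hx), mul_zero]
        exact Prod.ext rfl e0
      rw [e1]
      exact mul_mem (mul_mem (hφR _) hxR) (inv_mem (hφR _))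
  have hZ : A ⊓ B ≤ R := hc.sup ▸ sup_le h1 h2
  have hB : B ≤ R := fun b hb' => by
    obtain ⟨y, hy⟩ := hc.acts_S f (hc.ea.leB hb')
    have hu := P.phi.mem_B P.scal hc y
    have hA : b * φ (uu y) ∈ A := hc.stab_S f (hc.ea.leB (mul_mem hb' hu))
      ((hy.mul (P.phi.act _)).congr fun v => by
        rw [← mA_mul, uu_mul, CharTwo.add_self_eq_zero, uu_zero, mA_one])
    have := mul_mem (hZ ⟨hA, mul_mem hb' hu⟩) (inv_mem (hφR (uu y)))
    rwa [mul_inv_cancel_right] at this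
  have hA : A ≤ R := fun a ha => by
    obtain ⟨c, hcc, hce⟩ := hc.co_surjC2 f (f.co a).1
    obtain ⟨d, hdd, hde⟩ := hc.co_surjC2 f (f.co a).2
    have hd' := hc.conjA (P.phi.act Cfsg.Agent.SpAmalgam.ss).1 (hc.c2_le hdd).1
    have hcd := mul_mem (hc.c2_le hcc).1 hd'
    have h3 := (f.co_eq_iff ha hcd).1 (by
      rw [f.co_mul (hc.c2_le hcc).1 hd', (P.phi.act _).2 d (hc.c2_le hdd).1, hce, hde, mA_ss]
      simp)
    have := mul_mem (h1 h3) (mul_mem (h2 hcc) (mul_mem (mul_mem (hφR Cfsg.Agent.SpAmalgam.ss) (h2 hdd))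
      (inv_mem (hφR Cfsg.Agent.SpAmalgam.ss))))
    rwa [inv_mul_cancel_right] at this
  rw [← hc.ea.sup_eq]
  exact sup_le hA hB

variable {R : Subgroup G} (hφR : ∀ k, φ k ∈ R) (hS : (S : Subgroup G) ≤ R)
include hφR hS

theorem decompA {n : G} (hn : n ∈ normalizer (A : Set G)) :
    ∃ k ∈ R, ∃ m ∈ normalizer ((S : Subgroup G) : Set G), n = k * m := by
  obtain ⟨L, hL⟩ := Acts.exists_map f hn
  by_cases hr : (L (1, 0)).2 = 0
  · exact ⟨1, one_mem _, n, hc.nS_of_fst f hL one_ne_zero hr, (one_mul n).symm⟩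
  obtain ⟨k, hk⟩ : ∃ k, k = (L (1, 0)).1 / (L (1, 0)).2 := ⟨_, rfl⟩
  have hm := (P.phi.act (Cfsg.Agent.SpAmalgam.ss * uu k)).mul hL
  refine ⟨(φ (Cfsg.Agent.SpAmalgam.ss * uu k))⁻¹, inv_mem (hφR _), _, hc.nS_of_fst f hm one_ne_zero ?_,
    (inv_mul_cancel_left _ _).symm⟩
  show (mA (Cfsg.Agent.SpAmalgam.ss * uu k) (L (1, 0))).2 = 0
  rw [mA_mul, mA_uu, mA_ss, hk]
  show (L (1, 0)).1 + (L (1, 0)).1 / (L (1, 0)).2 * (L (1, 0)).2 = 0
  rw [div_mul_cancel₀ _ hr, CharTwo.add_self_eq_zero]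

theorem decompB (hsN : s ∈ normalizer (R : Set G)) {n : G} (hn : n ∈ normalizer (B : Set G)) :
    ∃ k ∈ normalizer (R : Set G), ∃ m ∈ normalizer ((S : Subgroup G) : Set G), n = k * m := by
  obtain ⟨L, hL⟩ := Acts.exists_map g hn
  by_cases hr : (L (1, 0)).2 = 0
  · exact ⟨1, one_mem _, n, hc.symm.nS_of_fst g hL one_ne_zero hr, (one_mul n).symm⟩
  obtain ⟨k, hk⟩ : ∃ k, k = (L (1, 0)).1 / (L (1, 0)).2 := ⟨_, rfl⟩
  obtain ⟨a, ha, hA⟩ := hc.symm.exists_B g k
  have hm := (P.sact.mul hA).mul hL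
  refine ⟨(s * a)⁻¹, inv_mem (mul_mem hsN (le_normalizer (hS (hc.ea.leA ha)))), _,
    hc.symm.nS_of_fst g hm one_ne_zero ?_, (inv_mul_cancel_left _ _).symm⟩
  show (mA Cfsg.Agent.SpAmalgam.ss (mA (uu k) (L (1, 0)))).2 = 0
  rw [mA_uu, mA_ss, hk]
  show (L (1, 0)).1 + (L (1, 0)).1 / (L (1, 0)).2 * (L (1, 0)).2 = 0
  rw [div_mul_cancel₀ _ hr, CharTwo.add_self_eq_zero]

/-- Both normalisers normalise the group of the generators. -/
theorem normalizers_le (hσR : ∀ k, σ φ s k ∈ R) {x : G} (hx : x ∈ sideC (S : Subgroup G) B)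
    (hgen : R ≤ closure (Set.range φ ∪ Set.range (σ φ s) ∪ {x})) (hsN : s ∈ normalizer (R : Set G)) :
    normalizer (A : Set G) ≤ normalizer (R : Set G) ∧ normalizer (B : Set G) ≤ normalizer (R : Set G) := by
  have hSn : ∀ n ∈ normalizer ((S : Subgroup G) : Set G), ∀ y ∈ (S : Subgroup G), n * y * n⁻¹ ∈ R :=
    fun n hn y hy => hS ((mem_normalizer_iff.1 hn y).1 hy)
  have hphi : ∀ n ∈ normalizer ((S : Subgroup G) : Set G), ∀ k, n * φ k * n⁻¹ ∈ R := by
    intro n hn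
    let X : Subgroup (S2 F) := (R.comap (MulAut.conj n).toMonoidHom).comap φ
    have hu : ∀ y, uu y ∈ X := fun y => hSn n hn _ (hc.ea.leB (P.phi.mem_B P.scal hc y))
    have hll : ll 1 ∈ X := by
      show n * φ (ll 1) * n⁻¹ ∈ R
      obtain ⟨k, hk, m, hm, e1⟩ := P.decompA hc hφR hS
        (mul_mem (hc.nA hn) (P.phi.act Cfsg.Agent.SpAmalgam.ss).1)
      have e2 : n * φ (ll 1) * n⁻¹ = k * (m * φ (uu 1) * m⁻¹) * k⁻¹ := by
        rw [show k * (m * φ (uu 1) * m⁻¹) * k⁻¹ = k * m * φ (uu 1) * (k * m)⁻¹ by group, ← e1, ← ss_uu_ss,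
          map_mul, map_mul]
        nth_rw 2 [← ss_inv_two]
        rw [map_inv]
        group
      rw [e2]
      exact mul_mem (mul_mem hk (hSn m hm _ (hc.ea.leB (P.phi.mem_B P.scal hc 1)))) (inv_mem hk)
    have htop := closure_uu_ss X hu (uu_ll_uu (K := F) ▸ mul_mem (mul_mem (hu 1) hll) (hu 1))
    exact fun k => (htop ▸ mem_top k : k ∈ X)
  have hN : normalizer ((S : Subgroup G) : Set G) ≤ normalizer (R : Set G) := fun n hn => by
    have hle : closure (Set.range φ ∪ Set.range (σ φ s) ∪ {x}) ≤ R.comap (MulAut.conj n).toMonoidHom := by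
      rw [closure_le]
      rintro y ((⟨k, rfl⟩ | ⟨k, rfl⟩) | (h : y = x))
      · exact hphi n hn k
      · show n * σ φ s k * n⁻¹ ∈ R
        obtain ⟨k', hk', m, hm, e1⟩ := P.decompB hc hφR hS hsN (mul_mem (hc.nB hn) P.sact.1)
        rw [σ_apply, show n * (s * φ k * s⁻¹) * n⁻¹ = (n * s) * φ k * (n * s)⁻¹ by group, e1,
          show k' * m * φ k * (k' * m)⁻¹ = k' * (m * φ k * m⁻¹) * k'⁻¹ by group]
        exact (mem_normalizer_iff.1 hk' _).1 (hphi m hm k)
      · exact h ▸ hSn n hn x (hc.ea.leA (hc.c2_le hx).1)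
    exact mem_normalizer_fintype fun y hy => hle (hgen hy)
  refine ⟨fun n hn => ?_, fun n hn => ?_⟩
  · obtain ⟨k, hk, m, hm, rfl⟩ := P.decompA hc hφR hS hn
    exact mul_mem (le_normalizer hk) (hN hm)
  · obtain ⟨k, hk, m, hm, rfl⟩ := P.decompB hc hφR hS hsN hn
    exact mul_mem hk (hN hm)

end Pre

/-- The recognition. -/
theorem Ctx.psp [IsSimpleGroup G] [CharP F 2] [CharP F' 2] [Fintype F] [Fintype F'] (hc : Ctx S A B)
    (f : Frame (S : Subgroup G) A (A ⊓ B) F) (g : Frame (S : Subgroup G) B (B ⊓ A) F')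
    (h4 : 4 ≤ Fintype.card F) (h4' : 4 ≤ Fintype.card F') : Nonempty (G ≃* Cfsg.PSp 2 F) := by
  classical
  haveI : Fact (Nat.Prime 2) := ⟨Nat.prime_two⟩
  have hex : ∀ (K : Type) [Field K] [Fintype K], 4 ≤ Fintype.card K → ∃ t : Kˣ, (t : K) ≠ 1 := by
    intro K _ _ hK
    haveI : Nontrivial Kˣ := Fintype.one_lt_card_iff_nontrivial.1 (by rw [Fintype.card_units]; omega)
    obtain ⟨t, ht⟩ := _root_.exists_ne (1 : Kˣ)
    exact ⟨t, fun h => ht (Units.ext h)⟩
  obtain ⟨t, ht⟩ := hex F h4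
  obtain ⟨t', ht'⟩ := hex F' h4'
  obtain ⟨h, φ, s, e, P⟩ := hc.exists_pre f g ht ht'
  obtain ⟨j, hj⟩ := IsCyclic.exists_generator (α := Fˣ)
  obtain ⟨x, hx, hb, R4⟩ := P.exists_rel hc h4 j
  have hz : φ (dd (-1)) * (s * φ (dd (-1)) * s⁻¹) = 1 := by
    rw [show dd (-1 : Fˣ) = 1 from mA_ext fun v => by simp [mA_dd, mA_one, CharTwo.neg_eq]]
    simp
  have hne : φ ≠ 1 := fun h0 => zero_ne_one (congrFun (congrFun (congrArg Subtype.val
    (P.phi.injective P.scal hc (show φ (uu 0) = φ (uu 1) by rw [h0]; rfl))) 0) 1 : (0 : F) = 1)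
  obtain ⟨π, hπ, h0, h1, hπx⟩ := S3342Id.exists_hom_psp (by omega) R4 hj hz hne
  set R := π.range
  have hφR : ∀ k, φ k ∈ R := fun k => ⟨_, h0 k⟩
  have hσR : ∀ k, σ φ s k ∈ R := fun k => ⟨_, h1 k⟩
  have hgen : R ≤ closure (Set.range φ ∪ Set.range (σ φ s) ∪ {x}) := by
    have htop := top_of_mem ((closure (Set.range φ ∪ Set.range (σ φ s) ∪ {x})).comap
      (π.comp (QuotientGroup.mk' (center (Matrix.symplecticGroup (Fin 2) F)))))
      (fun k => subset_closure (Or.inl (Or.inl ⟨k, (h0 k).symm⟩)))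
      (fun k => subset_closure (Or.inl (Or.inr ⟨k, (h1 k).symm⟩))) (subset_closure (Or.inr hπx))
    rintro _ ⟨y, rfl⟩
    obtain ⟨y', rfl⟩ := QuotientGroup.mk'_surjective _ y
    exact (htop ▸ mem_top y' : y' ∈ _)
  have hS := P.S_le hc hφR hσR hx hb ⟨_, hπx⟩
  have hsN : s ∈ normalizer (R : Set G) := by
    have hle : closure (Set.range φ ∪ Set.range (σ φ s) ∪ {x}) ≤ R.comap (MulAut.conj s).toMonoidHom := by
      rw [closure_le]
      rintro y ((⟨k, rfl⟩ | ⟨k, rfl⟩) | (hy : y = x))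
      · exact hσR k
      · show s * σ φ s k * s⁻¹ ∈ R
        rw [σ_apply, P.conj_conj hc]; exact hφR k
      · subst hy
        show s * y * s⁻¹ ∈ R
        rw [(P.sfix y hx).eq, mul_inv_cancel_right]; exact ⟨_, hπx⟩
    exact mem_normalizer_fintype fun y hy => hle (hgen hy)
  obtain ⟨hA, hB⟩ := P.normalizers_le hc hφR hS hσR hx hgen hsN
  set N := normalizer (R : Set G)
  have hSN : (S : Subgroup G) ≤ N := hS.trans le_normalizer
  have hcent : ∀ i ∈ N, orderOf i = 2 → centralizer ({i} : Set G) ≤ N := by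
    intro i hi hi2 y hy
    have hp : IsPGroup 2 (zpowers i) := IsPGroup.of_card (n := 1) (by rw [Nat.card_zpowers, hi2, pow_one])
    obtain ⟨m, hm, hle⟩ := LESylow.exists_conj_le_of_le (zpowers_le.2 hi) hp (S.subtype hSN)
    have hmi : m * i * m⁻¹ ∈ _ := hle ⟨i, mem_zpowers i, rfl⟩
    rw [Sylow.coe_subtype, subgroupOf_map_subtype] at hmi
    have hii := Invol.mul_self hi2
    have hne1 : m * i * m⁻¹ ≠ 1 := fun h0 => Invol.ne_one hi2 (conj_eq_one_iff.1 h0)
    have hy' : m * y * m⁻¹ ∈ centralizer ({m * i * m⁻¹} : Set G) := mem_centralizer_singleton_iff.2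
      ((show Commute y i from mem_centralizer_singleton_iff.1 hy).map (MulAut.conj m).toMonoidHom).eq
    have hy'' : m * y * m⁻¹ ∈ N := by
      rcases hc.ea.mem_or hmi.1 (by
        rw [show m * i * m⁻¹ * (m * i * m⁻¹) = m * (i * i) * m⁻¹ by group, hii]; group) with h' | h'
      · exact hc.cent_le f hA hB h' hne1 hy'
      · exact hc.symm.cent_le g hB hA h' hne1 hy'
    have := mul_mem (mul_mem (inv_mem hm) hy'') hm
    simpa [mul_assoc] using this
  obtain ⟨c1, hc1, hc1o⟩ : ∃ c ∈ sideC (S : Subgroup G) A, orderOf c = 2 :=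
    ⟨_, P.σ_uu hc 1, Invol.order_two_of_sq (hc.ea.sqA _ (hc.c1_le (P.σ_uu hc 1)).1) fun h0 =>
      one_ne_zero (congrFun (congrFun (congrArg Subtype.val
        (P.σ_injective hc (h0.trans (map_one _).symm))) 0) 1 : (1 : F) = 0)⟩
  have hxne : x ≠ 1 := fun h0 => hb (by rw [h0, f.co_one]; rfl)
  have hx2 : orderOf x = 2 := Invol.order_two_of_sq (hc.ea.sqA x (hc.c2_le hx).1) hxne
  have hall : ∀ j : G, orderOf j = 2 → j ∈ N := fun j hj =>
    invol_mem hcent (hSN (hc.ea.leA (hc.c1_le hc1).1)) (hSN (hc.ea.leA (hc.c2_le hx).1)) hc1o hx2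
      (fun y => hc.not_conj_roots hc1 hx hxne) hj
  have hSne : c1 ∈ (S : Subgroup G) := hc.ea.leA (hc.c1_le hc1).1
  have hNtop : N = ⊤ := by
    have hle : normalClosure ({c1} : Set G) ≤ N := by
      rw [normalClosure, closure_le]
      intro y hy
      obtain ⟨a, rfl, hay⟩ := Group.mem_conjugatesOfSet_iff.1 hy
      obtain ⟨k, rfl⟩ := isConj_iff.1 hay
      exact hall _ (by rw [Invol.order_conj, hc1o])
    rcases (normalClosure_normal (s := ({c1} : Set G))).eq_bot_or_eq_top with h' | h'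
    · exact absurd (mem_bot.1 (h' ▸ subset_normalClosure rfl : c1 ∈ (⊥ : Subgroup G))) (Invol.ne_one hc1o)
    · exact eq_top_iff.2 (h' ▸ hle)
  haveI : R.Normal := normalizer_eq_top_iff.1 hNtop
  have htop : R = ⊤ := (‹R.Normal›).eq_bot_or_eq_top.resolve_left fun h0 =>
    Invol.ne_one hc1o (mem_bot.1 (h0 ▸ hS hSne : c1 ∈ (⊥ : Subgroup G)))
  exact ⟨(MulEquiv.ofBijective π ⟨hπ, MonoidHom.range_eq_top.1 htop⟩).symm⟩

/-- Recognition of `PSp₄(q)`. -/
theorem quadStmt : QuadStmt.{u} := by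
  intro G _ _ _ S A B q h2 hcent hne
  have hT := h2.cfg.twoEA
  obtain ⟨-, -, h12, hsup, -⟩ := h2.type.resolve_left fun h => hne h.1
  have hS4 : 4 * Nat.card A ≤ Nat.card (S : Subgroup G) := by
    rw [h2.card_S, mul_comm 4]; exact Nat.mul_le_mul_left _ h2.four_le
  have sA : SideHyp (S : Subgroup G) A (A ⊓ B) := sideStmt G S A B h2.cfg h2.openA hS4
  have sB : SideHyp (S : Subgroup G) B (B ⊓ A) :=
    sideStmt G S B A h2.cfg.symm h2.openB (by rw [h2.card_B]; exact hS4)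
  have hc : Ctx S A B := ⟨hT, sA, sB, hcent, h12, hsup⟩
  obtain ⟨F, i1, i2, i3, hF, ⟨f⟩⟩ := hT.exists_frame sA (by rw [inf_comm]; exact sB)
  obtain ⟨F', j1, j2, j3, hF', ⟨g⟩⟩ := hT.symm.exists_frame sB (by rw [inf_comm]; exact sA)
  have hq : A.relIndex (S : Subgroup G) = q :=
    Nat.eq_of_mul_eq_mul_left Nat.card_pos (h2.cfg.card_S_eq.symm.trans h2.card_S)
  exact ⟨F, i1, i2, hF.trans hq, hc.psp f g (hF ▸ sA.four) (hF' ▸ sB.four)⟩

end Cfsg.Agent.ABRec
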