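import Cfsg.Agent.Lib.ABRec.QuadComm

/-!
The root element in `sideC S B`, scaled so that the two complements, the exchanging involution and it satisfy the
relations of `Sp₄`.
-/

set_option autoImplicit false
set_option linter.style.haveILetI false
set_option linter.unusedSectionVars false

namespace Cfsg.Agent.ABRec

open Subgroup Cfsg.Agent.SpAmalgam Cfsg.Agent.SpAmalgam.Four

universe u

variable {G : Type u} [Group G] [Finite G] {S : Sylow 2 G} {A B : Subgroup G} {F F' : Type} [Field F] [Field F']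

/-- The conjugate of `x` by an element of the first complement. -/
def rootConj (φ : S2 F →* G) (x : G) (k : S2 F) : G := φ k * x * (φ k)⁻¹

/-- The element of `sideC S A` made from three conjugates of the root element. -/
def rootProd (φ : S2 F →* G) (x : G) (c : Fˣ) : G :=
  rootConj φ x (ll (c : F)) * x * rootConj φ x (Cfsg.Agent.SpAmalgam.ss * dd c)

section Matrices

variable {K : Type} [Field K] [CharP K 2]

theorem dd_uu_inv (a : Kˣ) (c : K) : dd a * uu c * (dd a)⁻¹ = uu ((a : K) ^ 2 * c) := by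
  rw [dd_uu, mul_inv_cancel_right]

theorem dd_inv_ll (a : Kˣ) : (dd a)⁻¹ * ll 1 * dd a = ll ((a : K) * a) := by
  rw [dd_inv, dd_ll, mul_assoc, dd_mul, inv_mul_cancel, Units.val_inv_eq_inv_val, inv_inv,
    show dd (1 : Kˣ) = 1 from mA_ext fun v => by simp [mA_dd, mA_one]]
  rw [mul_one, mul_one, pow_two]

theorem dd_inv_ss (a : Kˣ) : (dd a)⁻¹ * ss * dd a = ss * dd (a * a) := by
  rw [dd_inv, ← ss_mul_dd, mul_assoc, dd_mul]

theorem uu_ss_ll : uu 1 * ss = ll 1 * (uu 1 : S2 K) := mA_ext fun v => by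
  simp [mA, vMul, uu_val, ll_val, ss_val, Matrix.mul_fin_two, CharTwo.add_self_eq_zero, CharTwo.neg_eq]

end Matrices

namespace Pre

variable [CharP F 2] {f : Frame (S : Subgroup G) A (A ⊓ B) F}
  {g : Frame (S : Subgroup G) B (B ⊓ A) F'} {h : G} {t : Fˣ} {φ : S2 F →* G} {s : G} {e : F}
  (P : Pre f g h t φ s e) (hc : Ctx S A B)
include P hc

theorem dd_nS (a : Fˣ) : φ (dd a) ∈ normalizer ((S : Subgroup G) : Set G) :=
  hc.nS_of_fst f (P.phi.act _) one_ne_zero (by simp [mA_dd])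

theorem dd_C2 (a : Fˣ) {x : G} (hx : x ∈ sideC (S : Subgroup G) B) :
    φ (dd a) * x * (φ (dd a))⁻¹ ∈ sideC (S : Subgroup G) B := sideC_conj (hc.nB (P.dd_nS hc a)) hx

theorem σ_dd_conj (a : Fˣ) {x : G} (hx : x ∈ sideC (S : Subgroup G) B) :
    σ φ s (dd a) * x * (σ φ s (dd a))⁻¹ = φ (dd a) * x * (φ (dd a))⁻¹ := by
  have h1 : s⁻¹ * x * s = x := by rw [mul_assoc, ← (P.sfix x hx).eq, inv_mul_cancel_left]
  rw [σ_apply, show s * φ (dd a) * s⁻¹ * x * (s * φ (dd a) * s⁻¹)⁻¹ =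
    s * (φ (dd a) * (s⁻¹ * x * s) * (φ (dd a))⁻¹) * s⁻¹ by group, h1, (P.sfix _ (P.dd_C2 hc a hx)).eq,
    mul_inv_cancel_right]

theorem root_mem {x : G} (hx : x ∈ sideC (S : Subgroup G) B) (k : S2 F) : rootConj φ x k ∈ A :=
  hc.conjA (P.phi.act k).1 (hc.c2_le hx).1

theorem root_co {x : G} (hx : x ∈ sideC (S : Subgroup G) B) (k : S2 F) :
    f.co (rootConj φ x k) = mA k (f.co x) := (P.phi.act k).2 x (hc.c2_le hx).1

theorem rootProd_mem {x : G} (hx : x ∈ sideC (S : Subgroup G) B) (c : Fˣ) :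
    rootProd φ x c ∈ sideC (S : Subgroup G) A := by
  have hxA := (hc.c2_le hx).1
  have h1 := P.root_mem hc hx (ll (c : F))
  have h2 := P.root_mem hc hx (Cfsg.Agent.SpAmalgam.ss * dd c)
  refine (f.co_zero (mul_mem (mul_mem h1 hxA) h2)).1 ?_
  rw [f.co_mul (mul_mem h1 hxA) h2, f.co_mul h1 hxA, P.root_co hc hx, P.root_co hc hx, mA_mul, mA_ss, mA_dd]
  have e0 := (f.co_Z hxA).1 (hc.c2_le hx)
  refine Prod.ext ?_ ?_
  · simp [mA, ll_val, e0, CharTwo.add_self_eq_zero]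
  · simp [mA, ll_val, e0, CharTwo.add_self_eq_zero]

variable [Fintype F] (h4 : 4 ≤ Fintype.card F)
include h4

theorem σ_root (a : Fˣ) {x : G} (hx : x ∈ sideC (S : Subgroup G) B) (k : S2 F) :
    σ φ s (dd a) * rootConj φ x k * (σ φ s (dd a))⁻¹ = rootConj φ x (k * dd a) := by
  have hcm := P.comm hc h4 k (dd a)
  rw [rootConj, rootConj, map_mul]
  calc σ φ s (dd a) * (φ k * x * (φ k)⁻¹) * (σ φ s (dd a))⁻¹ =
        (σ φ s (dd a) * φ k) * x * (σ φ s (dd a) * φ k)⁻¹ := by group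
    _ = φ k * (σ φ s (dd a) * x * (σ φ s (dd a))⁻¹) * (φ k)⁻¹ := by rw [← hcm.eq]; group
    _ = _ := by rw [P.σ_dd_conj hc a hx]; group

theorem conj_rootProd (a : Fˣ) {x : G} (hx : x ∈ sideC (S : Subgroup G) B) (c : Fˣ) :
    σ φ s (dd a) * rootProd φ x c * (σ φ s (dd a))⁻¹ =
      rootConj φ x (ll (c : F) * dd a) * rootConj φ x (dd a) *
        rootConj φ x (Cfsg.Agent.SpAmalgam.ss * dd c * dd a) := by
  have e1 := P.σ_dd_conj hc a hx
  rw [← P.σ_root hc h4 a hx, ← P.σ_root hc h4 a hx, rootProd,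
    show rootConj φ x (dd a) = φ (dd a) * x * (φ (dd a))⁻¹ from rfl, ← e1]
  group

theorem rootProd_sq {x : G} (hx : x ∈ sideC (S : Subgroup G) B) {y : F}
    (hy : rootProd φ x 1 = σ φ s (uu y)) (a : Fˣ) :
    rootProd φ x (a * a) = σ φ s (uu ((a : F) ^ 2 * y)) := by
  have h1 := P.conj_rootProd hc h4 a hx 1
  rw [hy, ← map_inv, ← map_mul, ← map_mul, dd_uu_inv] at h1
  have h2 : (φ (dd a))⁻¹ * σ φ s (uu ((a : F) ^ 2 * y)) * φ (dd a) = σ φ s (uu ((a : F) ^ 2 * y)) := by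
    rw [mul_assoc, ← (P.phi.fix (dd a) _ (P.σ_uu hc _)).eq, inv_mul_cancel_left]
  rw [← h2, h1]
  simp only [rootProd, rootConj, Units.val_mul, map_one, mul_one,
    show dd (1 : Fˣ) = 1 from mA_ext fun v => by simp [mA_dd, mA_one], Units.val_one]
  rw [← dd_inv_ll, ← dd_inv_ss]
  simp only [map_mul, map_inv]
  group

theorem rootProd_ne {x : G} (hx : x ∈ sideC (S : Subgroup G) B) (hb : (f.co x).1 ≠ 0) :
    rootProd φ x 1 ≠ 1 := by
  intro h1
  obtain ⟨a, ha⟩ : ∃ a, a = rootConj φ x Cfsg.Agent.SpAmalgam.ss := ⟨_, rfl⟩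
  have haA : a ∈ A := ha ▸ P.root_mem hc hx _
  have hu := P.phi.mem_B P.scal hc (1 : F)
  have hXA := P.root_mem hc hx (ll (1 : F))
  have e1 : φ (uu 1) * a * (φ (uu 1))⁻¹ = rootConj φ x (ll 1) := by
    have h0 : φ (uu (1 : F)) * x = x * φ (uu (1 : F)) := hc.ea.comm_right hu (hc.c2_le hx).2
    rw [ha, rootConj, rootConj, show φ (uu (1 : F)) * (φ Cfsg.Agent.SpAmalgam.ss * x * (φ Cfsg.Agent.SpAmalgam.ss)⁻¹) *
      (φ (uu (1 : F)))⁻¹ = (φ (uu (1 : F)) * φ Cfsg.Agent.SpAmalgam.ss) * x * (φ (uu (1 : F)) * φ Cfsg.Agent.SpAmalgam.ss)⁻¹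
      by group, ← map_mul, uu_ss_ll, map_mul]
    calc φ (ll 1) * φ (uu 1) * x * (φ (ll 1) * φ (uu 1))⁻¹ =
          φ (ll 1) * (φ (uu 1) * x * (φ (uu 1))⁻¹) * (φ (ll 1))⁻¹ := by group
      _ = _ := by rw [h0, mul_inv_cancel_right]
  have hP : rootConj φ x (ll 1) * x * a = 1 := by
    rw [ha]; rw [rootProd, show dd (1 : Fˣ) = 1 from mA_ext fun v => by simp [mA_dd, mA_one], mul_one,
      Units.val_one] at h1
    exact h1
  have hc' : a * φ (uu 1) * a⁻¹ * (φ (uu 1))⁻¹ = x := by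
    have hai : a⁻¹ = a := inv_eq_of_mul_eq_one_right (hc.ea.sqA a haA)
    rw [hai, show a * φ (uu 1) * a * (φ (uu 1))⁻¹ = a * (φ (uu 1) * a * (φ (uu 1))⁻¹) by group, e1]
    have h2 : rootConj φ x (ll 1) = a⁻¹ * x⁻¹ := by
      rw [← mul_inv_rev]; exact eq_inv_of_mul_eq_one_left (by rw [← mul_assoc]; exact hP)
    rw [h2, ← mul_assoc, mul_inv_cancel, one_mul, inv_eq_of_mul_eq_one_right (hc.ea.sqA x (hc.c2_le hx).1)]
  rcases g.comm_mem hc.sB.norm (fun p hp q hq => hc.ea.comm_right hp hq) (hc.ea.leA haA) hu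
    (by rw [hc']; exact hx) with h2 | h2
  · have h3 := (f.co_Z haA).1 ⟨haA, h2⟩
    rw [ha, P.root_co hc hx, mA_ss] at h3
    exact hb h3
  · have h3 := P.scal.eq_one hc h2.2 (P.phi.comm _).symm
    exact one_ne_zero (congrFun (congrFun (congrArg Subtype.val
      (P.phi.injective P.scal hc (h3.trans (map_one φ).symm))) 0) 1 : (1 : F) = 0)

/-- The relations hold for a suitable root element. -/
theorem exists_rel (j : Fˣ) :
    ∃ x ∈ sideC (S : Subgroup G) B, (f.co x).1 ≠ 0 ∧ Rel4 j φ s x := by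
  have hsq : ∀ z : F, ∃ a : F, z = a * a :=
    fun z => FiniteField.isSquare_of_char_two (ringChar.eq F 2) z
  obtain ⟨x0, hx0, e0⟩ := hc.co_surjC2 f 1
  obtain ⟨y, hy⟩ := P.exists_σ hc (P.rootProd_mem hc hx0 1)
  have hy0 : y ≠ 0 := fun h0 => P.rootProd_ne hc h4 hx0 (by rw [e0]; exact one_ne_zero)
    (by rw [hy, h0, uu_zero, map_one])
  obtain ⟨b', hb'⟩ := hsq y⁻¹
  have hb0 : b' ≠ 0 := fun h0 => by rw [h0, mul_zero] at hb'; exact inv_ne_zero hy0 hb'
  obtain ⟨b, hb⟩ : ∃ b : Fˣ, (b : F) = b' := ⟨Units.mk0 b' hb0, rfl⟩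
  obtain ⟨x, hxdef⟩ : ∃ x, x = φ (dd b) * x0 * (φ (dd b))⁻¹ := ⟨_, rfl⟩
  have hx : x ∈ sideC (S : Subgroup G) B := hxdef ▸ P.dd_C2 hc b hx0
  have hroot : ∀ k, rootConj φ x k = rootConj φ x0 (k * dd b) := fun k => by
    rw [rootConj, rootConj, hxdef, map_mul]; group
  have hP1 : rootProd φ x 1 = σ φ s (uu 1) := by
    have h1 := P.conj_rootProd hc h4 b hx0 1
    rw [hy, ← map_inv, ← map_mul, ← map_mul, dd_uu_inv, pow_two, hb, ← hb', inv_mul_cancel₀ hy0] at h1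
    rw [h1, rootProd, hroot, hroot, hxdef]
    rfl
  have hP : ∀ c : Fˣ, rootProd φ x c = σ φ s (uu (c : F)) := fun c => by
    obtain ⟨a, ha⟩ := hsq c
    have ha0 : a ≠ 0 := fun h0 => by rw [h0, mul_zero] at ha; exact c.ne_zero ha
    rw [show c = Units.mk0 a ha0 * Units.mk0 a ha0 from Units.ext ha, P.rootProd_sq hc h4 hx hP1]
    simp [pow_two]
  refine ⟨x, hx, ?_, fun k k' => P.comm hc h4 k k', P.ss, P.sfix x hx, (P.σ_dd_conj hc j hx).symm,
    fun c _ => hc.ea.comm_right (P.phi.mem_B P.scal hc c) (hc.c2_le hx).2, fun c _ hc0 => ?_⟩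
  · rw [hxdef, (P.phi.act _).2 x0 (hc.c2_le hx0).1, e0, mA_dd]
    simp
  · have hX := P.root_mem hc hx (ll c)
    have hX' := P.root_mem hc hx (Cfsg.Agent.SpAmalgam.ss * dd (Units.mk0 c hc0))
    have hxA := (hc.c2_le hx).1
    show rootConj φ x (ll c) = x * rootConj φ x (Cfsg.Agent.SpAmalgam.ss * dd (Units.mk0 c hc0)) * σ φ s (uu (-c))
    have hσ : rootConj φ x (ll c) * x * rootConj φ x (Cfsg.Agent.SpAmalgam.ss * dd (Units.mk0 c hc0)) =
        σ φ s (uu (-c)) := by rw [CharTwo.neg_eq]; exact hP (Units.mk0 c hc0)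
    rw [← hσ]
    generalize rootConj φ x (Cfsg.Agent.SpAmalgam.ss * dd (Units.mk0 c hc0)) = X' at hX'
    generalize rootConj φ x (ll c) = X at hX
    calc X = (x * x) * X * (X' * X') := by rw [hc.ea.sqA x hxA, hc.ea.sqA X' hX', one_mul, mul_one]
      _ = x * (x * X) * X' * X' := by group
      _ = x * X' * (x * X) * X' := by rw [mul_assoc x (x * X) X', hc.ea.comm_left (mul_mem hxA hX) hX', ← mul_assoc]
      _ = _ := by rw [hc.ea.comm_left hxA hX]; group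

end Pre

end Cfsg.Agent.ABRec
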