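import Cfsg.Agent.Lib.ABRec.QuadSide

/-!
An element of the normaliser of `S` inducing a scalar on `A` modulo the fixed points and no fixed point on `A`:
its centraliser gives a complement to `A`, isomorphic to `SL(2, F)`. Such an element exists: conjugate a torus
element of `A` suitably by the Weyl element of the side of `B`.
-/

set_option autoImplicit false
set_option linter.style.haveILetI false
set_option linter.unusedSectionVars false

namespace Cfsg.Agent.ABRec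

open Subgroup Cfsg.Agent.SpAmalgam Cfsg.Agent.SpAmalgam.Four

universe u

variable {G : Type u} [Group G] [Finite G] {S : Sylow 2 G} {A B : Subgroup G} {F : Type} [Field F]

/-- A scalar element of the normaliser of `S` fixing nothing. -/
structure Scal (f : Frame (S : Subgroup G) A (A ⊓ B) F) (h : G) (t : Fˣ) : Prop where
  nS : h ∈ normalizer ((S : Subgroup G) : Set G)
  act : Acts f h (fun v => (t : F) • v)
  ne1 : (t : F) ≠ 1
  free : ∀ c ∈ sideC (S : Subgroup G) A, Commute h c → c = 1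

/-- A complement to `A`, in the centraliser of a scalar element, as an image of `SL(2, F)`. -/
structure IsPhi (f : Frame (S : Subgroup G) A (A ⊓ B) F) (h : G) (φ : S2 F →* G) : Prop where
  comm : ∀ g, Commute (φ g) h
  fix : ∀ g, ∀ c ∈ sideC (S : Subgroup G) A, Commute (φ g) c
  act : ∀ g, Acts f (φ g) (mA g)

namespace Scal

variable {f : Frame (S : Subgroup G) A (A ⊓ B) F} {h : G} {t : Fˣ} (hs : Scal f h t) (hc : Ctx S A B)
include hs hc

theorem eq_one {a : G} (ha : a ∈ A) (he : Commute h a) : a = 1 := by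
  have e : f.co a = (t : F) • f.co a := by
    conv_lhs => rw [show a = h * a * h⁻¹ by rw [he.eq, mul_inv_cancel_right]]
    rw [hs.act.2 a ha]
  have hz : ∀ x : F, x = (t : F) * x → x = 0 := fun x hx => by
    by_contra hne
    exact hs.ne1 (mul_right_cancel₀ hne (hx.symm.trans (one_mul x).symm))
  exact hs.free a ((f.co_zero ha).1 (Prod.ext (hz _ (congrArg Prod.fst e)) (hz _ (congrArg Prod.snd e)))) he

theorem exists_shift {a0 : G} (ha : a0 ∈ A) : ∃ a ∈ A, a⁻¹ * (h * a * h⁻¹) = a0 := by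
  let k : A → A := fun a => ⟨(a : G)⁻¹ * (h * a * h⁻¹), mul_mem (inv_mem a.2) (hc.conjA hs.act.1 a.2)⟩
  have hk : Function.Injective k := fun a b e => by
    have e' : (a : G)⁻¹ * (h * a * h⁻¹) = (b : G)⁻¹ * (h * b * h⁻¹) := congrArg Subtype.val e
    have e1 : h * a * h⁻¹ = (a : G) * ((b : G)⁻¹ * (h * b * h⁻¹)) := by rw [← e', mul_inv_cancel_left]
    have e2 : h * ((a : G) * (b : G)⁻¹) * h⁻¹ = (a : G) * (b : G)⁻¹ := by
      rw [show h * ((a : G) * (b : G)⁻¹) * h⁻¹ = h * a * h⁻¹ * (h * b * h⁻¹)⁻¹ by group, e1]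
      group
    exact Subtype.ext (eq_of_mul_inv_eq_one
      (hs.eq_one hc (mul_mem a.2 (inv_mem b.2)) (mul_inv_eq_iff_eq_mul.1 e2)))
  obtain ⟨a, e⟩ := Finite.injective_iff_surjective.1 hk ⟨a0, ha⟩
  exact ⟨a, a.2, congrArg Subtype.val e⟩

theorem conjC1 {c : G} (h1 : c ∈ sideC (S : Subgroup G) A) : h⁻¹ * c * h ∈ sideC (S : Subgroup G) A := by
  simpa using sideC_conj (inv_mem hs.act.1) h1

/-- An element commuting with scalars commutes with the scalar element modulo `A`. -/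
theorem comm_mem [CharP F 2] {n : G} {L : F × F → F × F} (hn : Acts f n L)
    (hL : ∀ v, L ((t : F) • v) = (t : F) • L v) (h1 : ∀ c ∈ sideC (S : Subgroup G) A, Commute n c) :
    n * h * n⁻¹ * h⁻¹ ∈ A := by
  obtain ⟨M, hM, hLM, -⟩ := hn.exists_inv
  obtain ⟨N, hN, hhN, -⟩ := hs.act.exists_inv
  refine hc.stab f ((((hn.mul hs.act).mul hM).mul hN).congr fun v => ?_) fun c hcc => ?_
  · show L ((t : F) • M (N v)) = v
    rw [hL, hLM]; exact hhN v
  · show _ = _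
    calc n * h * n⁻¹ * h⁻¹ * c = n * h * (n⁻¹ * (h⁻¹ * c * h)) * h⁻¹ := by group
      _ = n * h * (h⁻¹ * c * h * n⁻¹) * h⁻¹ := by rw [((h1 _ (hs.conjC1 hc hcc)).inv_left).eq]
      _ = n * c * h * n⁻¹ * h⁻¹ := by group
      _ = c * n * h * n⁻¹ * h⁻¹ := by rw [(h1 c hcc).eq]
      _ = c * (n * h * n⁻¹ * h⁻¹) := by group

/-- An element commuting with scalars has a multiple commuting with the scalar element. -/
theorem lift [CharP F 2] {n : G} {L : F × F → F × F} (hn : Acts f n L) (hL : ∀ v, L ((t : F) • v) = (t : F) • L v)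
    (h1 : ∀ c ∈ sideC (S : Subgroup G) A, Commute n c) : ∃ a ∈ A, Commute (a * n) h := by
  have ha := hs.comm_mem hc hn hL h1
  obtain ⟨a, haA, e⟩ := hs.exists_shift hc ha
  refine ⟨a, haA, ?_⟩
  show _ = _
  calc a * n * h = a * (n * h * n⁻¹ * h⁻¹) * h * n := by group
    _ = h * (a * n) := by rw [← e]; group

theorem uniq [CharP F 2] {n m : G} {L : F × F → F × F} (hn : Acts f n L) (hm : Acts f m L) (cn : Commute n h)
    (cm : Commute m h) (fn : ∀ c ∈ sideC (S : Subgroup G) A, Commute n c)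
    (fm : ∀ c ∈ sideC (S : Subgroup G) A, Commute m c) : n = m := by
  obtain ⟨M, hM, hLM, -⟩ := hm.exists_inv
  have hA : n * m⁻¹ ∈ A :=
    hc.stab f ((hn.mul hM).congr hLM) fun c hcc => (fn c hcc).mul_left (fm c hcc).inv_left
  exact eq_of_mul_inv_eq_one (hs.eq_one hc hA (cn.mul_left cm.inv_left).symm)

theorem exists_phi [CharP F 2] : ∃ φ : S2 F →* G, IsPhi f h φ := by
  classical
  let C0 : Subgroup G :=
    { carrier := {n | Commute n h ∧ (∀ c ∈ sideC (S : Subgroup G) A, Commute n c) ∧ ∃ g, Acts f n (mA g)}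
      one_mem' := ⟨Commute.one_left _, fun c _ => Commute.one_left _, 1,
        (Acts.one (f := f)).congr fun v => (mA_one v).symm⟩
      mul_mem' := by
        rintro a b ⟨a1, a2, g, a3⟩ ⟨b1, b2, k, b3⟩
        exact ⟨a1.mul_left b1, fun c hc => (a2 c hc).mul_left (b2 c hc), g * k,
          (a3.mul b3).congr fun v => (mA_mul g k v).symm⟩
      inv_mem' := by
        rintro a ⟨a1, a2, g, a3⟩
        obtain ⟨M, hM, hgM, -⟩ := a3.exists_inv
        exact ⟨a1.inv_left, fun c hc => (a2 c hc).inv_left, g⁻¹, hM.congr fun v => by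
          conv_rhs => rw [← hgM v, ← mA_mul, inv_mul_cancel, mA_one]⟩ }
  let g' : C0 → S2 F := fun n => n.2.2.2.choose
  have hg' : ∀ n : C0, Acts f (n : G) (mA (g' n)) := fun n => n.2.2.2.choose_spec
  let ψ : C0 →* S2 F := MonoidHom.mk' g' fun a b =>
    mA_ext fun v => ((hg' (a * b)).unique ((hg' a).mul (hg' b)) v).trans (mA_mul _ _ v).symm
  have hinj : Function.Injective ψ := by
    intro a b e
    have e' : g' a = g' b := e
    exact Subtype.ext (hs.uniq hc (hg' a) (e' ▸ hg' b) a.2.1 b.2.1 a.2.2.1 b.2.2.1)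
  have hlift : ∀ n g, Acts f n (mA g) → (∀ c ∈ sideC (S : Subgroup G) A, Commute n c) → g ∈ ψ.range := by
    intro n g hn h1
    obtain ⟨a, ha, hcm⟩ := hs.lift hc hn (fun v => mA_smul g _ v) h1
    have hA := (hc.acts_A f ha).mul hn
    let m : C0 := ⟨a * n, hcm, fun c hcc =>
      (show Commute a c from hc.ea.comm_left ha (hc.c1_le hcc).1).mul_left (h1 c hcc), g, hA⟩
    exact ⟨m, mA_ext ((hg' m).unique hA)⟩
  have hsurj : Function.Surjective ψ := by
    refine MonoidHom.range_eq_top.1 (eq_top_iff.2 ?_)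
    rw [← closure_upper_weyl, closure_le]
    rintro M (⟨x, rfl⟩ | rfl)
    · rw [show GoodInvol.upperHom F x = uu (Multiplicative.toAdd x) from rfl]
      exact hlift _ _ (f.acts_r hc.sA.norm _) fun c hcc => hc.c1_central (f.r_mem _) hcc
    · rw [show (weylSL : S2 F) = ss from
        Subtype.ext (by rw [weylSL_val, ss_val, CharTwo.neg_eq])]
      exact hlift _ _ f.acts_w f.w_fix
  let e := MulEquiv.ofBijective ψ ⟨hinj, hsurj⟩
  refine ⟨C0.subtype.comp e.symm.toMonoidHom, fun g => (e.symm g).2.1, fun g => (e.symm g).2.2.1, fun g => ?_⟩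
  have h2 := hg' (e.symm g)
  rwa [show g' (e.symm g) = g from e.apply_symm_apply g] at h2

end Scal

namespace IsPhi

variable {f : Frame (S : Subgroup G) A (A ⊓ B) F} {h : G} {t : Fˣ} {φ : S2 F →* G}
  (hφ : IsPhi f h φ) (hs : Scal f h t) (hc : Ctx S A B)
include hφ hs hc

theorem injective : Function.Injective φ := fun g k e => mA_ext ((hφ.act g).unique (e ▸ hφ.act k))

theorem eq_phi [CharP F 2] {n : G} {g : S2 F} (hn : Acts f n (mA g)) (cn : Commute n h)
    (fn : ∀ c ∈ sideC (S : Subgroup G) A, Commute n c) : n = φ g :=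
  hs.uniq hc hn (hφ.act g) cn (hφ.comm g) fn (hφ.fix g)

theorem mem_B [CharP F 2] (x : F) : φ (uu x) ∈ B := by
  have h1 : ∀ c ∈ sideC (S : Subgroup G) A, Commute (f.r x) c := fun c hcc => hc.c1_central (f.r_mem x) hcc
  obtain ⟨a, ha, hcm⟩ := hs.lift hc (f.acts_r hc.sA.norm x) (fun v => mA_smul _ _ v) h1
  have e := hφ.eq_phi hs hc ((hc.acts_A f ha).mul (f.acts_r hc.sA.norm x)) hcm fun c hcc =>
    (show Commute a c from hc.ea.comm_left ha (hc.c1_le hcc).1).mul_left (h1 c hcc)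
  have hS : φ (uu x) ∈ (S : Subgroup G) := e ▸ mul_mem (hc.ea.leA ha) (f.r_mem x)
  have h2 : φ (uu x) * φ (uu x) = 1 := by rw [← map_mul, uu_mul, CharTwo.add_self_eq_zero, uu_zero, map_one]
  rcases hc.ea.mem_or hS h2 with h' | h'
  · rw [hs.eq_one hc h' (hφ.comm _).symm]; exact one_mem B
  · exact h'

theorem of_comm [CharP F 2] {b : G} (hb : b ∈ B) (he : Commute b h) : ∃ x, b = φ (uu x) := by
  obtain ⟨x, hx⟩ := hc.acts_S f (hc.ea.leB hb)
  exact ⟨x, hφ.eq_phi hs hc hx he fun c hcc => hc.c1_central (hc.ea.leB hb) hcc⟩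

end IsPhi

namespace Ctx

variable (hc : Ctx S A B) (f : Frame (S : Subgroup G) A (A ⊓ B) F) [CharP F 2]
include hc

/-- The criterion for a scalar element. -/
theorem scal_of {h : G} {t : Fˣ} (ht : (t : F) ≠ 1) (hn : h ∈ normalizer ((S : Subgroup G) : Set G))
    (hodd : ∃ k, Odd k ∧ h ^ k = 1)
    (h2 : ∀ c ∈ sideC (S : Subgroup G) B, f.co (h * c * h⁻¹) = (t : F) • f.co c)
    (hB : ∀ b ∈ B, h * b * h⁻¹ * b⁻¹ ∈ A ⊓ B)
    (hfree : ∀ c ∈ sideC (S : Subgroup G) A, Commute h c → c = 1) : Scal f h t := by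
  obtain ⟨L, hL⟩ := Acts.exists_map f (hc.nA hn)
  refine ⟨hn, hL.congr ?_, ht, hfree⟩
  have hfst : ∀ x, L (x, 0) = ((t : F) * x, 0) := fun x => by
    obtain ⟨c, hc2, e⟩ := hc.co_surjC2 f x
    rw [← e, ← hL.2 c (hc.c2_le hc2).1, h2 c hc2, e]
    simp
  have hcom : ∀ x v, L (mA (uu x) v) = mA (uu x) (L v) := fun x v => by
    obtain ⟨b, hb, hA⟩ := hc.exists_B f x
    have e1 := hL.mul hA
    have e2 := (hc.acts_A f (hB b hb).1).mul (hA.mul hL)
    rw [show h * b * h⁻¹ * b⁻¹ * (b * h) = h * b by group] at e2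
    exact e1.unique e2 v
  have hsnd : ∀ y, (L (0, y)).2 = (t : F) * y := fun y => by
    have e := congrArg Prod.fst (hcom 1 (0, y))
    rw [mA_uu, mA_uu, zero_add, one_mul, show ((y, y) : F × F) = (y, 0) + (0, y) by simp, hL.add, hfst] at e
    change (t : F) * y + (L (0, y)).1 = (L (0, y)).1 + 1 * (L (0, y)).2 at e
    rw [one_mul, add_comm] at e
    exact (add_left_cancel e).symm
  obtain ⟨m, hm⟩ : ∃ m, m = (L (0, 1)).1 := ⟨_, rfl⟩
  have hy : ∀ y, L (0, y) = (y * m, (t : F) * y) := fun y => by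
    obtain ⟨l, hl⟩ := hc.line f (hL.mul f.acts_w) y
    simp only [mA_ss] at hl
    have hl2 := congrArg Prod.snd hl
    rw [Prod.smul_snd, hsnd, hsnd, smul_eq_mul, mul_one, mul_comm] at hl2
    have hly : y = l := mul_right_cancel₀ t.ne_zero hl2
    refine Prod.ext ?_ (hsnd y)
    rw [congrArg Prod.fst hl, Prod.smul_fst, smul_eq_mul, ← hm, hly]
  have hall : ∀ a y, L (a, y) = ((t : F) * a + y * m, (t : F) * y) := fun a y => by
    rw [show ((a, y) : F × F) = (a, 0) + (0, y) by simp, hL.add, hfst, hy]; simp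
  have hit : ∀ n : ℕ, L^[n] (0, 1) = ((n : F) * (t : F) ^ n * (m / t), (t : F) ^ n) := by
    intro n
    induction n with
    | zero => simp
    | succ n ih =>
      rw [Function.iterate_succ_apply', ih, hall]
      refine Prod.ext ?_ ?_
      · show _ = _
        have := t.ne_zero
        field_simp
        push_cast
        ring
      · show _ = _
        ring
  obtain ⟨k, ⟨j, rfl⟩, hk⟩ := hodd
  have e := ((hk ▸ hL.pow (2 * j + 1)) : Acts f (1 : G) _).unique Acts.one (0, 1)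
  rw [hit] at e
  have ek : ((2 * j + 1 : ℕ) : F) = 1 := by push_cast; rw [CharTwo.two_eq_zero, zero_mul, zero_add]
  obtain ⟨e1, e2⟩ := Prod.ext_iff.1 e
  simp only [ek, one_mul, e2] at e1
  have hm0 : m = 0 := by simpa [t.ne_zero] using e1
  intro v
  rw [hall, hm0, mul_zero, add_zero]
  simp [Prod.smul_def]

variable {F' : Type} [Field F'] [CharP F' 2] (g : Frame (S : Subgroup G) B (B ⊓ A) F')

/-- Scalar elements exist. -/
theorem exists_scal {t : Fˣ} (ht : (t : F) ≠ 1) :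
    ∃ τ h, h = g.w * τ * g.w⁻¹ ∧ Scal f h t ∧ τ ∈ normalizer ((S : Subgroup G) : Set G) ∧
      Acts f τ (mA (dd t)) ∧ ∀ c ∈ sideC (S : Subgroup G) A, Commute τ c := by
  have hc' := hc.symm
  obtain ⟨T, hTS, hTf, hT1, hTodd⟩ : ∃ T, T ∈ normalizer ((S : Subgroup G) : Set G) ∧ Acts f T (mA (dd t)) ∧
      (∀ c ∈ sideC (S : Subgroup G) A, Commute T c) ∧ ∃ k, Odd k ∧ T ^ k = 1 :=
    ⟨_, f.τ_norm t, f.acts_τ t, fun c hcc => f.τ_fix c hcc t, f.τ_odd t⟩
  obtain ⟨L, hL⟩ := Acts.exists_map g (hc.nB hTS)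
  have hfst : ∀ x, L (x, 0) = (x, 0) := fun x => by
    obtain ⟨c, hc1, e⟩ := hc'.co_surjC2 g x
    rw [← e, ← hL.2 c (hc'.c2_le hc1).1, (hT1 c hc1).eq, mul_inv_cancel_right]
  have hd : (L (0, 1)).2 ≠ 0 := fun h0 => by
    have e : L ((L (0, 1)).1, 0) = L (0, 1) := by rw [hfst]; exact Prod.ext rfl h0.symm
    exact zero_ne_one (congrArg Prod.snd (hL.injective e))
  obtain ⟨k, hk⟩ : ∃ k, k = (L (0, 1)).1 / (L (0, 1)).2 := ⟨_, rfl⟩
  have hline : ∀ y, (L (0, y)).1 = k * (L (0, y)).2 := fun y => by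
    obtain ⟨l, hl⟩ := hc'.line g (hL.mul g.acts_w) y
    simp only [mA_ss] at hl
    rw [congrArg Prod.fst hl, congrArg Prod.snd hl, hk, Prod.smul_fst, Prod.smul_snd, smul_eq_mul, smul_eq_mul]
    field_simp
  obtain ⟨a0, ha0, hA0⟩ := hc'.exists_B g k
  have ht1 : 1 + (t : F)⁻¹ ≠ 0 := fun e => ht (inv_eq_one.1 (CharTwo.add_eq_zero.1 e).symm)
  obtain ⟨a, ha, hae⟩ := f.co_surj (0, (f.co a0).2 / (1 + (t : F)⁻¹))
  have ha' := hc.conjA hTf.1 ha
  obtain ⟨z, hz⟩ : ∃ z, z = a * (T * a * T⁻¹) * a0 := ⟨_, rfl⟩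
  have hzA : z ∈ A := hz ▸ mul_mem (mul_mem ha ha') ha0
  have hzB : z ∈ B := by
    refine ((f.co_Z hzA).2 ?_).2
    rw [hz, f.co_mul (mul_mem ha ha') ha0, f.co_mul ha ha', hTf.2 a ha, hae, mA_dd]
    show (f.co a0).2 / (1 + (t : F)⁻¹) + (t : F)⁻¹ * ((f.co a0).2 / (1 + (t : F)⁻¹)) + (f.co a0).2 = 0
    rw [← one_add_mul, mul_div_cancel₀ _ ht1, CharTwo.add_self_eq_zero]
  obtain ⟨τ, hτ⟩ : ∃ τ, τ = a * T * a⁻¹ := ⟨_, rfl⟩
  have hai : a⁻¹ = a := inv_eq_of_mul_eq_one_right (hc.ea.sqA a ha)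
  have hτe : τ = z * a0 * T := by
    rw [hτ, hai, hz]
    conv_rhs => rw [mul_assoc _ a0 a0, hc.ea.sqA a0 ha0]
    group
  have hτS : τ ∈ normalizer ((S : Subgroup G) : Set G) :=
    hτ ▸ mul_mem (mul_mem (le_normalizer (hc.ea.leA ha)) hTS) (inv_mem (le_normalizer (hc.ea.leA ha)))
  have hτf : Acts f τ (mA (dd t)) := hτ ▸ ((hc.acts_A f ha).mul hTf).mul (hc.acts_A f (inv_mem ha))
  have hτ1 : ∀ c ∈ sideC (S : Subgroup G) A, Commute τ c := fun c hcc => by
    have h1 : Commute a c := hc.ea.comm_left ha (hc.c1_le hcc).1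
    exact hτ ▸ (h1.mul_left (hT1 c hcc)).mul_left h1.inv_left
  have hτg : Acts g τ (fun v => mA (uu k) (L v)) := hτe ▸ (((hc'.acts_A g hzB).mul hA0).mul hL)
  -- nothing outside `A ⊓ B` is fixed
  have hfix : ∀ b ∈ B, τ * b * τ⁻¹ = b → b ∈ A ⊓ B := by
    intro b hb e
    refine ⟨?_, hb⟩
    obtain ⟨x, hx⟩ := hc.acts_S f (hc.ea.leB hb)
    have e1 := hτf.mul hx
    rw [mul_inv_eq_iff_eq_mul.1 e] at e1
    have e2 := congrArg Prod.fst (e1.unique (hx.mul hτf) (0, 1))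
    simp [mA_uu, mA_dd] at e2
    have hx0 : x = 0 := by
      by_contra hne
      refine ht (eq_one_of_sq ?_)
      have := t.ne_zero
      field_simp at e2
      linear_combination e2
    exact hc.stab_S f (hc.ea.leB hb) (hx.congr fun v => by rw [hx0, uu_zero, mA_one])
  obtain ⟨w, hw, hwfix, hwdef⟩ : ∃ w, Acts g w (mA ss) ∧
      (∀ c ∈ sideC (S : Subgroup G) B, Commute w c) ∧ w = g.w := ⟨_, g.acts_w, g.w_fix, rfl⟩
  obtain ⟨M, hM, hwM, -⟩ := hw.exists_inv
  have hMe : ∀ v, M v = mA ss v := fun v => by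
    have := congrArg (mA ss) (hwM v)
    rwa [mA_ss, mA_ss] at this
  obtain ⟨h, hh⟩ : ∃ h, h = w * τ * w⁻¹ := ⟨_, rfl⟩
  obtain ⟨Lh, hLh⟩ : ∃ Lh, Acts g h Lh := Acts.exists_map g
    (hh ▸ mul_mem (mul_mem hw.1 (hc.nB hτS)) (inv_mem hw.1))
  have hLe : ∀ v, Lh v = mA ss (mA (uu k) (L (mA ss v))) := fun v => by
    rw [hLh.unique (hh ▸ (hw.mul hτg).mul hM) v]; simp only [hMe]
  have hLx : ∀ x, (Lh (x, 0)).2 = 0 := fun x => by
    rw [hLe, mA_ss, mA_ss, mA_uu]
    show (L (0, x)).1 + k * (L (0, x)).2 = 0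
    rw [hline, CharTwo.add_self_eq_zero]
  have hLy : ∀ v : F' × F', (Lh v).2 = v.2 := fun ⟨x, y⟩ => by
    rw [show ((x, y) : F' × F') = (x, 0) + (0, y) by simp, hLh.add, Prod.snd_add, hLx, zero_add, hLe,
      mA_ss, mA_ss, mA_uu]
    show (L (y, 0)).1 + k * (L (y, 0)).2 = ((x, 0) + (0, y) : F' × F').2
    simp [hfst]
  have hhS : h ∈ normalizer ((S : Subgroup G) : Set G) := by
    obtain ⟨n, hn, -, hne⟩ := hc'.sA.lift_normalizer hLh.1 fun z hz => by
      refine (g.co_Z (hc'.conjA hLh.1 hz.1)).2 ?_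
      rw [hLh.2 z hz.1, hLy]
      exact (g.co_Z hz.1).1 hz
    have hnB : n⁻¹ * h ∈ B := by
      rw [← SetLike.mem_coe, ← hc.cent.selfB, SetLike.mem_coe, mem_centralizer_iff]
      intro b hb
      calc b * (n⁻¹ * h) = n⁻¹ * (n * b * n⁻¹) * h := by group
        _ = n⁻¹ * h * b := by rw [hne b hb]; group
    have := mul_mem hn (le_normalizer (hc.ea.leB hnB))
    rwa [mul_inv_cancel_left] at this
  refine ⟨τ, h, hwdef ▸ hh, hc.scal_of f ht hhS ?_ (fun c hc2 => ?_) (fun b hb => ?_) fun c hc1 he => ?_,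
    hτS, hτf, hτ1⟩
  · obtain ⟨k', hk', e⟩ := hTodd
    refine ⟨k', hk', ?_⟩
    rw [hh, hτ, conj_pow, conj_pow, e]
    group
  · have h' := sideC_conj (hc.nB hτS) hc2
    rw [show h * c * h⁻¹ = τ * c * τ⁻¹ from ?_, hτf.2 c (hc.c2_le hc2).1]
    · have e0 := (f.co_Z (hc.c2_le hc2).1).1 (hc.c2_le hc2)
      rw [mA_dd, e0, mul_zero]
      exact Prod.ext rfl (by rw [Prod.smul_snd, e0, smul_zero])
    · rw [hh, show w * τ * w⁻¹ * c * (w * τ * w⁻¹)⁻¹ = w * (τ * (w⁻¹ * c * w) * τ⁻¹) * w⁻¹ by group,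
        mul_assoc w⁻¹, ← (hwfix c hc2).eq, inv_mul_cancel_left, (hwfix _ h').eq, mul_inv_cancel_right]
  · have hb' := hc'.conjA hLh.1 hb
    have h' := (g.co_Z (mul_mem hb' (inv_mem hb))).2 (by
      rw [g.co_mul hb' (inv_mem hb), g.co_inv hb, Prod.snd_add, hLh.2 b hb, hLy, CharTwo.add_self_eq_zero])
    exact ⟨h'.2, h'.1⟩
  · have hcB : c ∈ B := (hc.c1_le hc1).2
    have hb : w⁻¹ * c * w ∈ B := by simpa using hc'.conjA (inv_mem hw.1) hcB
    have hbZ := hfix _ hb (by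
      calc τ * (w⁻¹ * c * w) * τ⁻¹ = w⁻¹ * ((w * τ * w⁻¹) * c * (w * τ * w⁻¹)⁻¹) * w := by group
        _ = w⁻¹ * c * w := by rw [← hh, he.eq, mul_inv_cancel_right])
    have e := hw.2 _ hb
    rw [show w * (w⁻¹ * c * w) * w⁻¹ = c by group, mA_ss] at e
    refine hc.eq_one_of_both hc1 ((g.co_zero hcB).1 (Prod.ext ?_ ?_))
    · rw [e]; exact (g.co_Z hb).1 ⟨hbZ.2, hbZ.1⟩
    · exact (g.co_Z hcB).1 ⟨hcB, (hc.c1_le hc1).1⟩

end Ctx

end Cfsg.Agent.ABRec
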