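import Cfsg.Agent.Lib.ABRec.Local
import Cfsg.Agent.Lib.SpAmalgam.SpFour

/-!
One side of the configuration of type `PSp₄`: the maps induced by the normaliser of `A` on `A` modulo the fixed
points, the subgroup acting trivially, and the fact that these maps send lines to lines.
-/

set_option autoImplicit false
set_option linter.style.haveILetI false
set_option linter.unusedSectionVars false

namespace Cfsg.Agent.ABRec

open Subgroup Cfsg.Agent.SpAmalgam Cfsg.Agent.SpAmalgam.Four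
open scoped Pointwise

universe u

variable {G : Type u} [Group G] [Finite G]

/-- The configuration of type `PSp₄` as it is used, symmetric in the two subgroups. -/
structure Ctx (S : Sylow 2 G) (A B : Subgroup G) : Prop where
  ea : TwoEA S A B
  sA : SideHyp (S : Subgroup G) A (A ⊓ B)
  sB : SideHyp (S : Subgroup G) B (B ⊓ A)
  cent : Cent S A B
  c12 : sideC (S : Subgroup G) A ⊓ sideC (S : Subgroup G) B = ⊥
  sup : sideC (S : Subgroup G) A ⊔ sideC (S : Subgroup G) B = A ⊓ B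

variable {S : Sylow 2 G} {A B : Subgroup G}

namespace Ctx

variable (hc : Ctx S A B)
include hc

theorem symm : Ctx S B A where
  ea := hc.ea.symm
  sA := hc.sB
  sB := hc.sA
  cent := { mixed := fun z hz h1 h2 => hc.cent.mixed z ⟨hz.2, hz.1⟩ h2 h1
            rootA := hc.cent.rootB, rootB := hc.cent.rootA
            selfA := hc.cent.selfB, selfB := hc.cent.selfA }
  c12 := by rw [inf_comm]; exact hc.c12
  sup := by rw [sup_comm, hc.sup, inf_comm]

theorem conjA {n a : G} (hn : n ∈ normalizer (A : Set G)) (ha : a ∈ A) : n * a * n⁻¹ ∈ A :=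
  (mem_normalizer_iff.1 hn a).1 ha

theorem nA {n : G} (hn : n ∈ normalizer ((S : Subgroup G) : Set G)) : n ∈ normalizer (A : Set G) :=
  hc.ea.normalizer_le hn

theorem nB {n : G} (hn : n ∈ normalizer ((S : Subgroup G) : Set G)) : n ∈ normalizer (B : Set G) :=
  hc.ea.symm.normalizer_le hn

theorem nS {n : G} (hA : n ∈ normalizer (A : Set G)) (hB : n ∈ normalizer (B : Set G)) :
    n ∈ normalizer ((S : Subgroup G) : Set G) := mem_normalizer_fintype fun s hs => by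
  obtain ⟨a, ha, b, hb, rfl⟩ := hc.ea.prod s hs
  rw [show n * (a * b) * n⁻¹ = n * a * n⁻¹ * (n * b * n⁻¹) by group]
  exact mul_mem (hc.ea.leA ((mem_normalizer_iff.1 hA a).1 ha)) (hc.ea.leB ((mem_normalizer_iff.1 hB b).1 hb))

theorem conjZ {n z : G} (hn : n ∈ normalizer ((S : Subgroup G) : Set G)) (hz : z ∈ A ⊓ B) :
    n * z * n⁻¹ ∈ A ⊓ B :=
  ⟨(mem_normalizer_iff.1 (hc.nA hn) z).1 hz.1, (mem_normalizer_iff.1 (hc.nB hn) z).1 hz.2⟩

theorem c1_le : sideC (S : Subgroup G) A ≤ A ⊓ B := hc.sA.sideC_le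

theorem c2_le : sideC (S : Subgroup G) B ≤ A ⊓ B := fun _ h => ⟨(hc.sB.sideC_le h).2, (hc.sB.sideC_le h).1⟩

theorem c1_central {s c : G} (hs : s ∈ (S : Subgroup G)) (hc1 : c ∈ sideC (S : Subgroup G) A) : Commute s c :=
  hc.ea.central (hc.c1_le hc1) hs

theorem c2_central {s c : G} (hs : s ∈ (S : Subgroup G)) (hc2 : c ∈ sideC (S : Subgroup G) B) : Commute s c :=
  hc.ea.central (hc.c2_le hc2) hs

/-- An element of `A ⊓ B` is a product of fixed elements of the two sides. -/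
theorem decomp {z : G} (hz : z ∈ A ⊓ B) :
    ∃ c1 ∈ sideC (S : Subgroup G) A, ∃ c2 ∈ sideC (S : Subgroup G) B, z = c1 * c2 := by
  rw [← hc.sup] at hz
  have hn : sideC (S : Subgroup G) B ≤ normalizer ((sideC (S : Subgroup G) A : Subgroup G) : Set G) := fun y hy =>
    mem_normalizer_fintype fun x hx => by
      rw [(hc.c1_central (hc.ea.leA (hc.c2_le hy).1) hx).eq, mul_inv_cancel_right]; exact hx
  have hm : z ∈ ((sideC (S : Subgroup G) A : Subgroup G) : Set G) * ((sideC (S : Subgroup G) B : Subgroup G) : Set G) := by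
    rw [← coe_mul_of_right_le_normalizer_left _ _ hn]; exact hz
  obtain ⟨c1, h1, c2, h2, rfl⟩ := hm
  exact ⟨c1, h1, c2, h2, rfl⟩

/-- An element fixed on both sides is trivial. -/
theorem eq_one_of_both {c : G} (h1 : c ∈ sideC (S : Subgroup G) A) (h2 : c ∈ sideC (S : Subgroup G) B) :
    c = 1 := by
  have h : c ∈ sideC (S : Subgroup G) A ⊓ sideC (S : Subgroup G) B := ⟨h1, h2⟩
  rwa [hc.c12, mem_bot] at h

/-- An element of `S` is, up to `A`, an element of `B`. -/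
theorem prodA {s : G} (hs : s ∈ (S : Subgroup G)) : ∃ b ∈ B, ∃ a ∈ A, s = b * a := by
  obtain ⟨a, ha, b, hb, e⟩ := hc.ea.prod s⁻¹ (inv_mem hs)
  exact ⟨b⁻¹, inv_mem hb, a⁻¹, inv_mem ha, by rw [← mul_inv_rev, e, inv_inv]⟩

end Ctx

section Map

variable {K : Type*} [Field K]

theorem mA_add (g : S2 K) (v w : K × K) : mA g (v + w) = mA g v + mA g w := by
  simp [mA]; constructor <;> ring

theorem mA_smul (g : S2 K) (c : K) (v : K × K) : mA g (c • v) = c • mA g v := by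
  simp [mA]; constructor <;> ring

theorem mA_uu (x : K) (v : K × K) : mA (uu x) v = (v.1 + x * v.2, v.2) := by simp [mA, uu_val]

theorem mA_dd (t : Kˣ) (v : K × K) : mA (dd t) v = ((t : K) * v.1, (t : K)⁻¹ * v.2) := by simp [mA, dd_val]

theorem mA_ss [CharP K 2] (v : K × K) : mA ss v = (v.2, v.1) := by simp [mA, ss_val, CharTwo.neg_eq]

theorem eq_one_of_sq {t : K} [CharP K 2] (h : t * t = 1) : t = 1 := by
  have h2 : (t + 1) * (t + 1) = 0 := by
    linear_combination h + (t + 1) * (CharTwo.two_eq_zero : (2 : K) = 0)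
  exact CharTwo.add_eq_zero.1 (mul_self_eq_zero.1 h2)

end Map

variable {F : Type} [Field F]

open Classical in
/-- The coordinates on `A`. -/
noncomputable def Frame.co {S' Z : Subgroup G} (f : Frame S' A Z F) (a : G) : F × F :=
  if h : a ∈ A then f.ι ⟨a, h⟩ else 0

/-- `n` induces `L` on the coordinates of `A`. -/
def Acts {S' Z : Subgroup G} (f : Frame S' A Z F) (n : G) (L : F × F → F × F) : Prop :=
  n ∈ normalizer (A : Set G) ∧ ∀ a ∈ A, f.co (n * a * n⁻¹) = L (f.co a)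

namespace Frame

variable {S' Z : Subgroup G} (f : Frame S' A Z F)

theorem co_eq {a : G} (h : a ∈ A) : f.co a = f.ι ⟨a, h⟩ := dif_pos h

theorem co_mul {a b : G} (ha : a ∈ A) (hb : b ∈ A) : f.co (a * b) = f.co a + f.co b := by
  rw [f.co_eq ha, f.co_eq hb, f.co_eq (mul_mem ha hb)]
  exact f.ι_mul ⟨a, ha⟩ ⟨b, hb⟩

theorem co_one : f.co 1 = 0 := by
  rw [f.co_eq (one_mem A)]; exact f.ι_one

theorem co_inv [CharP F 2] {a : G} (ha : a ∈ A) : f.co a⁻¹ = f.co a := by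
  have h := f.co_mul ha (inv_mem ha)
  rw [mul_inv_cancel, f.co_one] at h
  exact Prod.ext ((CharTwo.add_eq_zero.1 (congrArg Prod.fst h).symm).symm)
    ((CharTwo.add_eq_zero.1 (congrArg Prod.snd h).symm).symm)

theorem co_zero {a : G} (ha : a ∈ A) : f.co a = 0 ↔ a ∈ sideC S' A := by
  rw [f.co_eq ha]; exact f.ι_zero ⟨a, ha⟩

theorem co_Z {a : G} (ha : a ∈ A) : a ∈ Z ↔ (f.co a).2 = 0 := by
  rw [f.co_eq ha]; exact f.mem_Z ⟨a, ha⟩

theorem co_surj (v : F × F) : ∃ a ∈ A, f.co a = v := by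
  obtain ⟨a, e⟩ := f.surj v
  exact ⟨a, a.2, by rw [f.co_eq a.2]; exact e⟩

theorem co_eq_iff [CharP F 2] {a b : G} (ha : a ∈ A) (hb : b ∈ A) :
    f.co a = f.co b ↔ a * b⁻¹ ∈ sideC S' A := by
  rw [← f.co_zero (mul_mem ha (inv_mem hb)), f.co_mul ha (inv_mem hb), f.co_inv hb]
  constructor
  · intro h; rw [h]; exact Prod.ext (CharTwo.add_self_eq_zero _) (CharTwo.add_self_eq_zero _)
  · exact fun h => Prod.ext (CharTwo.add_eq_zero.1 (congrArg Prod.fst h))
      (CharTwo.add_eq_zero.1 (congrArg Prod.snd h))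

theorem acts_w [CharP F 2] : Acts f f.w (mA ss) := by
  refine ⟨f.w_mem, fun a ha => ?_⟩
  have hw := (mem_normalizer_iff.1 f.w_mem a).1 ha
  rw [f.co_eq ha, f.co_eq hw, f.w_act ⟨a, ha⟩ ⟨_, hw⟩ rfl, mA_ss]

theorem acts_r (hS : S' ≤ normalizer (A : Set G)) (x : F) : Acts f (f.r x) (mA (uu x)) := by
  refine ⟨hS (f.r_mem x), fun a ha => ?_⟩
  have hr := (mem_normalizer_iff.1 (hS (f.r_mem x)) a).1 ha
  rw [f.co_eq ha, f.co_eq hr, f.r_act x ⟨a, ha⟩ ⟨_, hr⟩ rfl, mA_uu]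

theorem acts_τ (t : Fˣ) : Acts f (f.τ t) (mA (dd t)) := by
  refine ⟨f.τ_mem t, fun a ha => ?_⟩
  have hr := (mem_normalizer_iff.1 (f.τ_mem t) a).1 ha
  rw [f.co_eq ha, f.co_eq hr, f.τ_act t ⟨a, ha⟩ ⟨_, hr⟩ rfl, mA_dd]

end Frame

namespace Acts

variable {S' Z : Subgroup G} {f : Frame S' A Z F} {n m : G} {L M : F × F → F × F}

theorem mul (h : Acts f n L) (h' : Acts f m M) : Acts f (n * m) (fun v => L (M v)) := by
  refine ⟨mul_mem h.1 h'.1, fun a ha => ?_⟩
  rw [show n * m * a * (n * m)⁻¹ = n * (m * a * m⁻¹) * n⁻¹ by group,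
    h.2 _ ((mem_normalizer_iff.1 h'.1 a).1 ha), h'.2 a ha]

theorem one : Acts f (1 : G) (fun v => v) := ⟨one_mem _, fun a _ => by simp⟩

theorem unique (h : Acts f n L) (h' : Acts f n M) (v : F × F) : L v = M v := by
  obtain ⟨a, ha, rfl⟩ := f.co_surj v
  rw [← h.2 a ha, ← h'.2 a ha]

theorem congr (h : Acts f n L) (e : ∀ v, L v = M v) : Acts f n M :=
  ⟨h.1, fun a ha => (h.2 a ha).trans (e _)⟩

theorem add (h : Acts f n L) (v w : F × F) : L (v + w) = L v + L w := by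
  obtain ⟨a, ha, rfl⟩ := f.co_surj v
  obtain ⟨b, hb, rfl⟩ := f.co_surj w
  have hA : ∀ {x}, x ∈ A → n * x * n⁻¹ ∈ A := fun hx => (mem_normalizer_iff.1 h.1 _).1 hx
  rw [← f.co_mul ha hb, ← h.2 _ (mul_mem ha hb), ← h.2 a ha, ← h.2 b hb, ← f.co_mul (hA ha) (hA hb),
    show n * (a * b) * n⁻¹ = n * a * n⁻¹ * (n * b * n⁻¹) by group]

theorem map_zero (h : Acts f n L) : L 0 = 0 := by
  have := h.add 0 0
  rw [add_zero] at this
  exact left_eq_add.1 this

theorem exists_map [CharP F 2] (f : Frame S' A Z F) (hn : n ∈ normalizer (A : Set G)) : ∃ L, Acts f n L := by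
  choose p hp hco using f.co_surj
  refine ⟨fun v => f.co (n * p v * n⁻¹), hn, fun a ha => ?_⟩
  have hA : ∀ {x}, x ∈ A → n * x * n⁻¹ ∈ A := fun hx => (mem_normalizer_iff.1 hn _).1 hx
  rw [f.co_eq_iff (hA ha) (hA (hp _))]
  have h := sideC_conj hn ((f.co_eq_iff ha (hp (f.co a))).1 (hco _).symm)
  rwa [show n * a * n⁻¹ * (n * p (f.co a) * n⁻¹)⁻¹ = n * (a * (p (f.co a))⁻¹) * n⁻¹ by group]

theorem exists_inv [CharP F 2] (h : Acts f n L) :
    ∃ M, Acts f n⁻¹ M ∧ (∀ v, L (M v) = v) ∧ ∀ v, M (L v) = v := by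
  obtain ⟨M, hM⟩ := exists_map f (inv_mem h.1)
  have h1 := h.mul hM
  have h2 := hM.mul h
  rw [mul_inv_cancel] at h1
  rw [inv_mul_cancel] at h2
  exact ⟨M, hM, h1.unique one, h2.unique one⟩

theorem injective [CharP F 2] (h : Acts f n L) : Function.Injective L := by
  obtain ⟨M, -, -, hM⟩ := h.exists_inv
  exact Function.LeftInverse.injective hM

theorem pow (h : Acts f n L) (k : ℕ) : Acts f (n ^ k) (L^[k]) := by
  induction k with
  | zero => rw [pow_zero]; exact one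
  | succ k ih => rw [pow_succ', Function.iterate_succ']; exact h.mul ih

end Acts

namespace Ctx

variable (hc : Ctx S A B) (f : Frame (S : Subgroup G) A (A ⊓ B) F)
include hc

theorem acts_A {a : G} (ha : a ∈ A) : Acts f a (fun v => v) :=
  ⟨le_normalizer ha, fun b hb => by rw [hc.ea.comm_left ha hb, mul_inv_cancel_right]⟩

/-- An element of `S` induces a transvection. -/
theorem acts_S {s : G} (hs : s ∈ (S : Subgroup G)) : ∃ x, Acts f s (mA (uu x)) := by
  obtain ⟨x, hx⟩ := f.r_surj s hs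
  refine ⟨x, ?_⟩
  have h := (f.acts_r hc.sA.norm x).mul (hc.acts_A f hx)
  rwa [mul_inv_cancel_left] at h

/-- Every transvection is induced by an element of `B`. -/
theorem exists_B (x : F) : ∃ b ∈ B, Acts f b (mA (uu x)) := by
  obtain ⟨b, hb, a, ha, e⟩ := hc.prodA (f.r_mem x)
  refine ⟨b, hb, ?_⟩
  have h := (f.acts_r hc.sA.norm x).mul (hc.acts_A f (inv_mem ha))
  rwa [e, mul_inv_cancel_right] at h

/-- Coordinates separate the fixed points of the other side. -/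
theorem co_injC2 [CharP F 2] {c d : G} (h1 : c ∈ sideC (S : Subgroup G) B) (h2 : d ∈ sideC (S : Subgroup G) B)
    (e : f.co c = f.co d) : c = d := by
  rw [f.co_eq_iff (hc.c2_le h1).1 (hc.c2_le h2).1] at e
  exact eq_of_mul_inv_eq_one (hc.eq_one_of_both e (mul_mem h1 (inv_mem h2)))

/-- The fixed points of the other side give all coordinates of `A ⊓ B`. -/
theorem co_surjC2 (x : F) : ∃ c ∈ sideC (S : Subgroup G) B, f.co c = (x, 0) := by
  obtain ⟨a, ha, e⟩ := f.co_surj (x, 0)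
  obtain ⟨c1, h1, c2, h2, rfl⟩ := hc.decomp ((f.co_Z ha).2 (congrArg Prod.snd e))
  refine ⟨c2, h2, ?_⟩
  rwa [f.co_mul (hc.c1_le h1).1 (hc.c2_le h2).1, (f.co_zero (hc.c1_le h1).1).2 h1, zero_add] at e

/-- An element acting trivially on `A` modulo the fixed points and on the fixed points lies in `A`. -/
theorem stab {n : G} (hA : Acts f n (fun v => v)) (h1 : ∀ c ∈ sideC (S : Subgroup G) A, Commute n c) :
    n ∈ A := by
  haveI : Fact (Nat.Prime 2) := ⟨Nat.prime_two⟩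
  have hN := hA.1
  have hcomm : ∀ a ∈ A, n * a * n⁻¹ * a⁻¹ ∈ sideC (S : Subgroup G) A := fun a ha => by
    have hn' := hc.conjA hN ha
    refine (f.co_zero (mul_mem hn' (inv_mem ha))).1 ?_
    rw [f.co_mul hn' (inv_mem ha), hA.2 a ha, ← f.co_mul ha (inv_mem ha), mul_inv_cancel, f.co_one]
  have hn2 : n * n ∈ A := by
    rw [← SetLike.mem_coe, ← hc.cent.selfA, SetLike.mem_coe, mem_centralizer_iff]
    intro a ha
    obtain ⟨c, hce⟩ : ∃ c, c = n * a * n⁻¹ * a⁻¹ := ⟨_, rfl⟩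
    have hcC : c ∈ sideC (S : Subgroup G) A := hce ▸ hcomm a ha
    have e : n * a * n⁻¹ = c * a := by rw [hce]; group
    have e2 : n * n * a * (n * n)⁻¹ = a := by
      rw [show n * n * a * (n * n)⁻¹ = n * (n * a * n⁻¹) * n⁻¹ by group, e,
        show n * (c * a) * n⁻¹ = n * c * n⁻¹ * (n * a * n⁻¹) by group, e, (h1 c hcC).eq, mul_inv_cancel_right,
        ← mul_assoc, hc.ea.sqA c (hc.c1_le hcC).1, one_mul]
    exact (mul_inv_eq_iff_eq_mul.1 e2).symm
  have hp : IsPGroup 2 (zpowers n) := by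
    rintro ⟨y, k, rfl⟩
    refine ⟨2, Subtype.ext ?_⟩
    show (n ^ k) ^ 2 ^ 2 = 1
    rw [← zpow_natCast, ← zpow_mul, mul_comm, zpow_mul, zpow_natCast]
    have h4 : n ^ 2 ^ 2 = 1 := by
      rw [show 2 ^ 2 = 2 + 2 from rfl, pow_add, pow_two]; exact hc.ea.sqA _ hn2
    rw [h4, one_zpow]
  obtain ⟨m, hm, hle⟩ := LESylow.exists_conj_le_of_le (zpowers_le.2 hN) hp (S.subtype hc.sA.norm)
  have hmS : m * n * m⁻¹ ∈ (S : Subgroup G) := by
    have h : m * n * m⁻¹ ∈ _ := hle ⟨n, mem_zpowers n, rfl⟩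
    rw [Sylow.coe_subtype, subgroupOf_map_subtype] at h
    exact h.1
  obtain ⟨a, ha, haZ⟩ := hc.sA.exists_not_mem
  have ha' : m⁻¹ * a * m ∈ A := by simpa using hc.conjA (inv_mem hm) ha
  have h : m * n * m⁻¹ * a * (m * n * m⁻¹)⁻¹ * a⁻¹ ∈ sideC (S : Subgroup G) A := by
    rw [show m * n * m⁻¹ * a * (m * n * m⁻¹)⁻¹ * a⁻¹ =
      m * (n * (m⁻¹ * a * m) * n⁻¹ * (m⁻¹ * a * m)⁻¹) * m⁻¹ by group]
    exact sideC_conj hm (hcomm _ ha')
  have hA' := (f.comm_mem hc.sA.norm (fun a ha b hb => hc.ea.comm_left ha hb) hmS ha h).resolve_right haZ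
  simpa [mul_assoc] using hc.conjA (inv_mem hm) hA'

theorem stab_S {s : G} (hs : s ∈ (S : Subgroup G)) (hA : Acts f s (fun v => v)) : s ∈ A :=
  hc.stab f hA fun _ h => hc.c1_central hs h

omit f in
/-- An element of the normaliser of `A` keeping an element of `A ⊓ B` not fixed inside normalises `S`. -/
theorem norm_S_of_Z {n a : G} (hn : n ∈ normalizer (A : Set G)) (ha : a ∈ A ⊓ B)
    (ha1 : a ∉ sideC (S : Subgroup G) A) (hna : n * a * n⁻¹ ∈ A ⊓ B) :
    n ∈ normalizer ((S : Subgroup G) : Set G) := by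
  haveI : Fact (Nat.Prime 2) := ⟨Nat.prime_two⟩
  obtain ⟨z, hz⟩ : ∃ z, z = n * a * n⁻¹ := ⟨_, rfl⟩
  rw [← hz] at hna
  have hz1 : z ∉ sideC (S : Subgroup G) A := fun h => ha1 (by
    have h' := sideC_conj (inv_mem hn) h
    rwa [hz, show n⁻¹ * (n * a * n⁻¹) * n⁻¹⁻¹ = a by group] at h')
  have hT : ∀ s ∈ (S : Subgroup G), n * s * n⁻¹ ∈ normalizer ((S : Subgroup G) : Set G) := by
    intro s hs
    have hy : n * s * n⁻¹ ∈ normalizer (A : Set G) := mul_mem (mul_mem hn (hc.sA.norm hs)) (inv_mem hn)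
    have hcz : n * s * n⁻¹ ∈ centralizer ({z} : Set G) := by
      rw [mem_centralizer_singleton_iff, hz]
      exact ((hc.ea.central ha hs).map (MulAut.conj n).toMonoidHom).eq
    by_cases hz2 : z ∈ sideC (S : Subgroup G) B
    · refine hc.nS hy (hc.cent.rootB z hz2 (fun h => hz1 (h ▸ one_mem _)) hcz)
    · exact hc.cent.mixed z hna hz1 hz2 hcz
  obtain ⟨m, hm, hle⟩ := LESylow.exists_conj_le_of_le
    (A := (S : Subgroup G).map (MulAut.conj n).toMonoidHom) (by rintro _ ⟨s, hs, rfl⟩; exact hT s hs)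
    (S.isPGroup'.map _) (S.subtype le_normalizer)
  refine mem_normalizer_fintype fun s hs => ?_
  have h : m * (n * s * n⁻¹) * m⁻¹ ∈ _ := hle ⟨_, ⟨s, hs, rfl⟩, rfl⟩
  rw [Sylow.coe_subtype, subgroupOf_map_subtype] at h
  have h' := (mem_normalizer_iff.1 (inv_mem hm) _).1 h.1
  rwa [show m⁻¹ * (m * (n * s * n⁻¹) * m⁻¹) * m⁻¹⁻¹ = n * s * n⁻¹ by group] at h'

theorem fst_of_nS {n : G} {L : F × F → F × F} (hn : n ∈ normalizer ((S : Subgroup G) : Set G))
    (hL : Acts f n L) (x : F) : (L (x, 0)).2 = 0 := by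
  obtain ⟨a, ha, e⟩ := f.co_surj (x, 0)
  have hz := hc.conjZ hn ((f.co_Z ha).2 (congrArg Prod.snd e))
  have := (f.co_Z hz.1).1 hz
  rwa [hL.2 a ha, e] at this

theorem nS_of_fst {n : G} {L : F × F → F × F} (hL : Acts f n L) {x : F} (hx : x ≠ 0)
    (h : (L (x, 0)).2 = 0) : n ∈ normalizer ((S : Subgroup G) : Set G) := by
  obtain ⟨a, ha, e⟩ := f.co_surj (x, 0)
  refine hc.norm_S_of_Z hL.1 ((f.co_Z ha).2 (congrArg Prod.snd e)) ?_ ?_
  · intro h1
    rw [(f.co_zero ha).2 h1] at e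
    exact hx (congrArg Prod.fst e).symm
  · exact (f.co_Z (hc.conjA hL.1 ha)).2 (by rw [hL.2 a ha, e]; exact h)

/-- The image of the first line is a line. -/
theorem line [CharP F 2] {n : G} {L : F × F → F × F} (hL : Acts f n L) (x : F) :
    ∃ l : F, L (x, 0) = l • L (1, 0) := by
  by_cases hr : (L (1, 0)).2 = 0
  · have hp : (L (1, 0)).1 ≠ 0 := fun h => by
      have h0 : L (1, 0) = 0 := Prod.ext h hr
      exact one_ne_zero (congrArg Prod.fst (hL.injective (h0.trans hL.map_zero.symm)))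
    refine ⟨(L (x, 0)).1 / (L (1, 0)).1, Prod.ext ?_ ?_⟩
    · simp [div_mul_cancel₀ _ hp]
    · rw [Prod.smul_snd, hr, smul_zero]
      exact hc.fst_of_nS f (hc.nS_of_fst f hL one_ne_zero hr) hL x
  · set k := (L (1, 0)).1 / (L (1, 0)).2 with hk
    have hm := f.acts_w.mul ((f.acts_r hc.sA.norm k).mul hL)
    have e : (mA ss (mA (uu k) (L (1, 0)))).2 = 0 := by
      rw [mA_uu, mA_ss]
      show (L (1, 0)).1 + k * (L (1, 0)).2 = 0
      rw [hk, div_mul_cancel₀ _ hr, CharTwo.add_self_eq_zero]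
    have e' := hc.fst_of_nS f (hc.nS_of_fst f hm one_ne_zero e) hm x
    rw [mA_uu, mA_ss] at e'
    replace e' : (L (x, 0)).1 + k * (L (x, 0)).2 = 0 := e'
    have e1 : (L (x, 0)).1 = k * (L (x, 0)).2 := CharTwo.add_eq_zero.1 e'
    refine ⟨(L (x, 0)).2 / (L (1, 0)).2, Prod.ext ?_ ?_⟩
    · rw [Prod.smul_fst, smul_eq_mul, e1, hk]
      field_simp
    · rw [Prod.smul_snd, smul_eq_mul, div_mul_cancel₀ _ hr]

end Ctx

end Cfsg.Agent.ABRec
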