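import Cfsg.Agent.Lib.ABRec.QuadScal

/-!
The involution exchanging the two complements: it is chosen in the normaliser of `B`, fixing `sideC S B`, so that
it carries the scalar element of the side of `A` to a torus element commuting with it. The commutation of the two
copies of `SL(2, F)` follows: the second is the closure of `sideC S A` in the centraliser of that torus element.
-/

set_option autoImplicit false
set_option linter.style.haveILetI false
set_option linter.unusedSectionVars false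

namespace Cfsg.Agent.ABRec

open Subgroup Cfsg.Agent.SpAmalgam Cfsg.Agent.SpAmalgam.Four

universe u

section Matrices

variable {K : Type} [Field K] [CharP K 2]

theorem ss_ss : (ss : S2 K) * ss = 1 := mA_ext fun v => by rw [mA_mul, mA_one, mA_ss, mA_ss]

theorem ss_inv_two : (ss : S2 K)⁻¹ = ss := inv_eq_of_mul_eq_one_right ss_ss

theorem uu_inv_two (x : K) : (uu x)⁻¹ = uu x := by rw [uu_inv, CharTwo.neg_eq]

theorem ss_uu_ss (x : K) : ss * uu x * ss = ll x := by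
  rw [ss_uu, CharTwo.neg_eq, mul_assoc, ss_ss, mul_one]

theorem ss_dd_ss (t : Kˣ) : ss * dd t * ss = (dd t)⁻¹ := by rw [ss_mul_dd, mul_assoc, ss_ss, mul_one, dd_inv]

theorem uu_ll_uu : uu 1 * ll 1 * uu 1 = (ss : S2 K) := mA_ext fun v => by
  simp [mA, vMul, uu_val, ll_val, ss_val, Matrix.mul_fin_two, CharTwo.add_self_eq_zero, CharTwo.neg_eq]

theorem closure_uu_ss (X : Subgroup (S2 K)) (hu : ∀ x, uu x ∈ X) (hs : (ss : S2 K) ∈ X) : X = ⊤ := by
  refine eq_top_iff.2 ?_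
  rw [← closure_upper_weyl, closure_le]
  rintro M (⟨x, rfl⟩ | rfl)
  · exact hu (Multiplicative.toAdd x)
  · rw [show (weylSL : S2 K) = ss from Subtype.ext (by rw [weylSL_val, ss_val, CharTwo.neg_eq])]
    exact hs

/-- The central elements of `SL(2, F)` in characteristic two. -/
theorem eq_one_of_comm {g : S2 K} (h1 : g * uu 1 = uu 1 * g) (h2 : g * ss = ss * g) : g = 1 := by
  have e1 := congrArg Subtype.val h1
  have e2 := congrArg Subtype.val h2
  simp only [vMul, uu_val, ss_val] at e1 e2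
  have a00 := congrFun (congrFun e1 0) 0
  have a01 := congrFun (congrFun e1 0) 1
  have b00 := congrFun (congrFun e2 0) 0
  simp [Matrix.mul_apply, Fin.sum_univ_two, CharTwo.neg_eq] at a00 a01 b00
  have hd := sl_det g
  have h10 : g.1 1 0 = 0 := a00
  have h11 : g.1 1 1 = g.1 0 0 := by linear_combination -a01
  have h01 : g.1 0 1 = 0 := by rw [b00, h10]
  rw [h10, h01, h11, mul_zero, sub_zero] at hd
  apply Subtype.ext
  ext i j
  fin_cases i <;> fin_cases j <;> simp [h10, h01, h11, eq_one_of_sq hd]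

end Matrices

variable {G : Type u} [Group G] [Finite G] {S : Sylow 2 G} {A B : Subgroup G} {F F' : Type} [Field F] [Field F']

/-- The data before the root element is chosen. -/
structure Pre (f : Frame (S : Subgroup G) A (A ⊓ B) F) (g : Frame (S : Subgroup G) B (B ⊓ A) F') (h : G) (t : Fˣ)
    (φ : S2 F →* G) (s : G) (e : F) : Prop where
  scal : Scal f h t
  phi : IsPhi f h φ
  ss : s * s = 1
  sact : Acts g s (mA Cfsg.Agent.SpAmalgam.ss)
  sfix : ∀ c ∈ sideC (S : Subgroup G) B, Commute s c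
  hact : Acts f (s * h * s) (mA (uu e * dd t * uu e))
  hnS : s * h * s ∈ normalizer ((S : Subgroup G) : Set G)
  hfix : ∀ c ∈ sideC (S : Subgroup G) A, Commute (s * h * s) c
  hcomm : Commute (s * h * s) h

theorem Ctx.exists_pre [CharP F 2] [CharP F' 2] (hc : Ctx S A B) (f : Frame (S : Subgroup G) A (A ⊓ B) F)
    (g : Frame (S : Subgroup G) B (B ⊓ A) F') {t : Fˣ} (ht : (t : F) ≠ 1) {t' : F'ˣ} (ht' : (t' : F') ≠ 1) :
    ∃ h φ s e, Pre f g h t φ s e := by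
  have hc' := hc.symm
  obtain ⟨τ, h, hh, hs, hτS, hτf, hτ1⟩ := hc.exists_scal f g ht
  obtain ⟨τ', h', -, hs', -, -, -⟩ := hc'.exists_scal g f ht'
  obtain ⟨φ, hφ⟩ := hs.exists_phi hc
  obtain ⟨φ', hφ'⟩ := hs'.exists_phi hc'
  obtain ⟨s1, hs1⟩ : ∃ s1, s1 = φ' Cfsg.Agent.SpAmalgam.ss := ⟨_, rfl⟩
  have hA1 : Acts g s1 (mA Cfsg.Agent.SpAmalgam.ss) := hs1 ▸ hφ'.act _
  have h11 : s1 * s1 = 1 := by rw [hs1, ← map_mul, ss_ss, map_one]
  have hfx : ∀ c ∈ sideC (S : Subgroup G) B, Commute s1 c := fun c hc2 => hs1 ▸ hφ'.fix _ c hc2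
  obtain ⟨d, hdd⟩ : ∃ d, d = g.w⁻¹ * s1 := ⟨_, rfl⟩
  obtain ⟨M, hM, -, hMw⟩ := g.acts_w.exists_inv
  have hdB : d ∈ B :=
    hdd ▸ hc'.stab g ((hM.mul hA1).congr hMw) fun c hc2 => (g.w_fix c hc2).inv_left.mul_left (hfx c hc2)
  have hse : s1 = g.w * d := by rw [hdd, mul_inv_cancel_left]
  have hdi : d⁻¹ = d := inv_eq_of_mul_eq_one_right (hc.ea.sqB d hdB)
  obtain ⟨H, hHdef⟩ : ∃ H, H = s1 * h * s1 := ⟨_, rfl⟩
  have hH' : H = d * τ * d := by
    have hi : s1⁻¹ = s1 := inv_eq_of_mul_eq_one_right h11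
    rw [hHdef]
    conv_lhs => arg 1; arg 1; rw [← hi]
    rw [hse, hh]
    conv_rhs => arg 1; arg 1; rw [← hdi]
    group
  obtain ⟨e, hde⟩ := hc.acts_S f (hc.ea.leB hdB)
  have hHact : Acts f H (mA (uu e * dd t * uu e)) :=
    hH' ▸ ((hde.mul hτf).mul hde).congr fun v => by rw [mA_mul, mA_mul]
  have hHS : H ∈ normalizer ((S : Subgroup G) : Set G) :=
    hH' ▸ mul_mem (mul_mem (le_normalizer (hc.ea.leB hdB)) hτS) (le_normalizer (hc.ea.leB hdB))
  have hH1 : ∀ c ∈ sideC (S : Subgroup G) A, Commute H c := fun c hcc =>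
    hH' ▸ ((hc.c1_central (hc.ea.leB hdB) hcc).mul_left (hτ1 c hcc)).mul_left (hc.c1_central (hc.ea.leB hdB) hcc)
  obtain ⟨a0, ha0⟩ : ∃ a0, a0 = H * h * H⁻¹ * h⁻¹ := ⟨_, rfl⟩
  have ha0A : a0 ∈ A := ha0 ▸ hs.comm_mem hc hHact (fun v => mA_smul _ _ v) hH1
  have hi : s1⁻¹ = s1 := inv_eq_of_mul_eq_one_right h11
  have hcs : s1 * a0 * s1⁻¹ = a0 := by
    have e2 : s1 * H * s1⁻¹ = h := by
      rw [hHdef, hi, show s1 * (s1 * h * s1) * s1 = s1 * s1 * h * (s1 * s1) by group, h11, one_mul, mul_one]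
    have e3 : s1 * h * s1⁻¹ = H := by rw [hi, hHdef]
    calc s1 * a0 * s1⁻¹ = (s1 * H * s1⁻¹) * (s1 * h * s1⁻¹) * (s1 * H * s1⁻¹)⁻¹ * (s1 * h * s1⁻¹)⁻¹ := by
          rw [ha0]; group
      _ = a0⁻¹ := by rw [e2, e3, ha0]; group
      _ = a0 := inv_eq_of_mul_eq_one_right (hc.ea.sqA a0 ha0A)
  have ha02 : a0 ∈ sideC (S : Subgroup G) B := by
    obtain ⟨x, hx⟩ := hc'.acts_S g (hc.ea.leA ha0A)
    have e1 := hA1.mul hx
    rw [mul_inv_eq_iff_eq_mul.1 hcs] at e1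
    have e2 := congrArg Prod.fst (e1.unique (hx.mul hA1) (1, 0))
    simp [mA_uu, mA_ss] at e2
    have hB0 : a0 ∈ B := hc'.stab_S g (hc.ea.leA ha0A) (hx.congr fun v => by rw [← e2, uu_zero, mA_one])
    have e3 := hA1.2 a0 hB0
    rw [hcs, mA_ss] at e3
    have e4 := (g.co_Z hB0).1 ⟨hB0, ha0A⟩
    have e5 : (g.co a0).1 = (g.co a0).2 := congrArg Prod.fst e3
    exact (g.co_zero hB0).1 (Prod.ext (e5.trans e4) e4)
  have ht1 : (1 + (t : F)) ≠ 0 := fun h0 => ht (CharTwo.add_eq_zero.1 h0).symm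
  obtain ⟨c, hc2, hce⟩ := hc.co_surjC2 f ((f.co a0).1 / ((1 + (t : F)) * (1 + (t : F))))
  have hp : ∀ c ∈ sideC (S : Subgroup G) B, h * c * h⁻¹ = H * c * H⁻¹ := fun c hc2 => by
    refine hc.co_injC2 f (sideC_conj (hc.nB hs.nS) hc2) (sideC_conj (hc.nB hHS) hc2) ?_
    rw [hs.act.2 c (hc.c2_le hc2).1, hHact.2 c (hc.c2_le hc2).1]
    have e0 := (f.co_Z (hc.c2_le hc2).1).1 (hc.c2_le hc2)
    simp [mA_mul, mA_uu, mA_dd, Prod.ext_iff, e0]
  obtain ⟨p, hpd⟩ : ∃ p, p = h * c * h⁻¹ := ⟨_, rfl⟩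
  have hp2 : p ∈ sideC (S : Subgroup G) B := hpd ▸ sideC_conj (hc.nB hs.nS) hc2
  obtain ⟨z, hzd⟩ : ∃ z, z = c * p := ⟨_, rfl⟩
  have hz2 : z ∈ sideC (S : Subgroup G) B := hzd ▸ mul_mem hc2 hp2
  have hza : h * z * h⁻¹ = z * a0 := by
    refine hc.co_injC2 f (sideC_conj (hc.nB hs.nS) hz2) (mul_mem hz2 ha02) ?_
    rw [hs.act.2 z (hc.c2_le hz2).1, f.co_mul (hc.c2_le hz2).1 ha0A, hzd,
      f.co_mul (hc.c2_le hc2).1 (hc.c2_le hp2).1, hpd, hs.act.2 c (hc.c2_le hc2).1, hce]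
    have e0 := (f.co_Z ha0A).1 (hc.c2_le ha02)
    refine Prod.ext ?_ ?_
    · simp only [Prod.smul_fst, Prod.fst_add, smul_eq_mul]
      generalize hX : (f.co a0).1 / ((1 + (t : F)) * (1 + (t : F))) = X
      rw [div_eq_iff (mul_ne_zero ht1 ht1)] at hX
      linear_combination -hX - (1 + (t : F)) * X * (CharTwo.two_eq_zero : (2 : F) = 0)
    · simp [e0]
  refine ⟨h, φ, c * s1, e, ?_⟩
  have hcc' : Commute s1 c := hfx c hc2
  have hsh : c * s1 * h * (c * s1) = z * H := by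
    calc c * s1 * h * (c * s1) = c * s1 * (h * c * h⁻¹) * h * s1 := by group
      _ = c * (s1 * p) * h * s1 := by rw [← hpd]; group
      _ = c * (p * s1) * h * s1 := by rw [(hfx p hp2).eq]
      _ = z * H := by rw [hzd, hHdef]; group
  have hzA := (hc.c2_le hz2).1
  refine ⟨hs, hφ, ?_, ?_, fun d hd2 => ?_, ?_, ?_, fun d hd1 => ?_, ?_⟩
  · rw [show c * s1 * (c * s1) = c * (s1 * c) * s1 by group, hcc'.eq,
      show c * (c * s1) * s1 = c * c * (s1 * s1) by group, h11, hc.ea.sqA c (hc.c2_le hc2).1, one_mul]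
  · exact ((hc'.acts_A g (hc.c2_le hc2).2).mul hA1).congr fun v => rfl
  · exact (show Commute c d from hc.ea.comm_right (hc.c2_le hc2).2 (hc.c2_le hd2).2).mul_left (hfx d hd2)
  · rw [hsh]; exact (hc.acts_A f hzA).mul hHact
  · rw [hsh]; exact mul_mem (le_normalizer (hc.ea.leA hzA)) hHS
  · rw [hsh]
    exact (show Commute z d from hc.ea.comm_left hzA (hc.c1_le hd1).1).mul_left (hH1 d hd1)
  · rw [hsh]
    show _ = _
    symm
    calc h * (z * H) = h * z * h⁻¹ * (h * H) := by group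
      _ = z * (a0 * (h * H)) := by rw [hza]; group
      _ = z * H * h := by rw [ha0]; group

end Cfsg.Agent.ABRec
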