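import Cfsg.Agent.Lib.ABRec.Split
import Cfsg.Prelude.Def_CaseTheorems

/-!
The reduction: the four cases for a Sylow 2-subgroup with two maximal elementary abelian subgroups `A`, `B`
with `S = A B`, from the centralisers and the two recognitions.
-/

set_option autoImplicit false
set_option linter.style.haveILetI false
set_option linter.unusedSectionVars false

namespace Cfsg.Agent.ABRec

open Subgroup Cfsg.Agent.GoldStruct

universe u

variable {G : Type u} [Group G] [Finite G]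

/-- A maximal element over an elementary subgroup. -/
theorem exists_max_ea {P : Type u} [Group P] [Finite P] {C : Subgroup P}
    (hC : Cfsg.IsElementaryAbelian 2 C) :
    ∃ D : Subgroup P, C ≤ D ∧ Cfsg.IsElementaryAbelian 2 D ∧
      ∀ E : Subgroup P, Cfsg.IsElementaryAbelian 2 E → D ≤ E → E = D := by
  classical
  haveI : Fintype (Subgroup P) := Fintype.ofFinite _
  obtain ⟨D, hD, hmax⟩ := Finset.exists_maximal
    (s := Finset.univ.filter fun D : Subgroup P => C ≤ D ∧ Cfsg.IsElementaryAbelian 2 D)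
    ⟨C, by simp [hC]⟩
  simp only [Finset.mem_filter, Finset.mem_univ, true_and] at hD hmax
  exact ⟨D, hD.1, hD.2, fun E hE hDE => le_antisymm (hmax ⟨hD.1.trans hDE, hE⟩ hDE) hDE⟩

/-- The configuration from the maximal elementary subgroups of the Sylow subgroup. -/
theorem cfg_of_max (S : Sylow 2 G) (A B : Subgroup ↥(S : Subgroup G)) (hAB : A ≠ B)
    (hA : Cfsg.IsElementaryAbelian 2 A ∧ ∀ C : Subgroup ↥(S : Subgroup G), Cfsg.IsElementaryAbelian 2 C → A ≤ C → C = A)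
    (hB : Cfsg.IsElementaryAbelian 2 B ∧ ∀ C : Subgroup ↥(S : Subgroup G), Cfsg.IsElementaryAbelian 2 C → B ≤ C → C = B)
    (honly : ∀ C : Subgroup ↥(S : Subgroup G), Cfsg.IsElementaryAbelian 2 C →
      (∀ D : Subgroup ↥(S : Subgroup G), Cfsg.IsElementaryAbelian 2 D → C ≤ D → D = C) → C = A ∨ C = B)
    (hprod : ∀ s : ↥(S : Subgroup G), ∃ a ∈ A, ∃ b ∈ B, a * b = s) :
    Cfg S (A.map (S : Subgroup G).subtype) (B.map (S : Subgroup G).subtype) := by
  set ι := (S : Subgroup G).subtype with hι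
  have hinj : Function.Injective ι := subtype_injective _
  have hea : ∀ C : Subgroup ↥(S : Subgroup G), Cfsg.IsElementaryAbelian 2 C →
      Cfsg.IsElementaryAbelian 2 (C.map ι) := by
    rintro C ⟨hc, h2⟩
    refine ⟨⟨⟨?_⟩⟩, ?_⟩
    · rintro ⟨_, x, hx, rfl⟩ ⟨_, y, hy, rfl⟩
      refine Subtype.ext ?_
      show ι x * ι y = ι y * ι x
      rw [← map_mul, ← map_mul]
      exact congrArg ι (congrArg Subtype.val (hc.is_comm.comm ⟨x, hx⟩ ⟨y, hy⟩))
    · rintro _ ⟨x, hx, rfl⟩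
      rw [← map_pow, h2 x hx, map_one]
  refine ⟨map_subtype_le _, map_subtype_le _, hea A hA.1, hea B hB.1, fun h => hAB ?_, fun h => hAB ?_,
    fun E hE hEea => ?_, fun s hs => ?_⟩
  · exact (hA.2 B hB.1 ((map_le_map_iff_of_injective hinj).1 h)).symm
  · exact hB.2 A hA.1 ((map_le_map_iff_of_injective hinj).1 h)
  · have hE' : Cfsg.IsElementaryAbelian 2 (E.subgroupOf (S : Subgroup G)) :=
      ⟨⟨⟨fun x y => by
        have e := congrArg (fun z : E => (z : G))
          (hEea.1.is_comm.comm (⟨((x : ↥(S : Subgroup G)) : G), x.2⟩ : E) ⟨((y : ↥(S : Subgroup G)) : G), y.2⟩)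
        exact Subtype.ext (Subtype.ext e)⟩⟩, fun x hx => Subtype.ext (hEea.2 _ hx)⟩
    obtain ⟨D, hED, hD, hmax⟩ := exists_max_ea hE'
    have hle : E ≤ D.map ι := fun x hx => ⟨⟨x, hE hx⟩, hED hx, rfl⟩
    rcases honly D hD hmax with rfl | rfl
    · exact Or.inl hle
    · exact Or.inr hle
  · obtain ⟨a, ha, b, hb, e⟩ := hprod ⟨s, hs⟩
    exact ⟨a, ⟨a, ha, rfl⟩, b, ⟨b, hb, rfl⟩, (congrArg Subtype.val e).symm⟩

/-- The subgroup generated by the 2-elements. -/
theorem twoClosure_facts (S : Sylow 2 G) :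
    (closure {g : G | ∃ k : ℕ, orderOf g = 2 ^ k}).Normal ∧
      (S : Subgroup G) ≤ closure {g : G | ∃ k : ℕ, orderOf g = 2 ^ k} := by
  haveI : Fact (Nat.Prime 2) := ⟨Nat.prime_two⟩
  refine ⟨⟨fun y hy c => ?_⟩, fun y hy => subset_closure ?_⟩
  · have hle : closure {g : G | ∃ k : ℕ, orderOf g = 2 ^ k} ≤
        (closure {g : G | ∃ k : ℕ, orderOf g = 2 ^ k}).comap (MulAut.conj c).toMonoidHom := (closure_le _).2 fun g hg => by
      obtain ⟨k, hk⟩ := hg
      exact subset_closure ⟨k, by rw [MulEquiv.toMonoidHom_eq_coe, MonoidHom.coe_coe, MulEquiv.orderOf_eq, hk]⟩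
    exact hle hy
  · obtain ⟨k, hk⟩ := IsPGroup.iff_orderOf.1 S.isPGroup' ⟨y, hy⟩
    exact ⟨k, by rw [← hk, Subgroup.orderOf_mk]⟩

/-- The general statement. -/
theorem S3187_of (hg : GoldInputs.{u}) (hC : CentStmt.{u}) (hP : PlaneStmt.{u}) (hQ : QuadStmt.{u})
    (S : Sylow 2 G) (A B : Subgroup ↥(S : Subgroup G)) (hAB : A ≠ B)
    (hA : Cfsg.IsElementaryAbelian 2 A ∧ ∀ C : Subgroup ↥(S : Subgroup G), Cfsg.IsElementaryAbelian 2 C → A ≤ C → C = A)
    (hB : Cfsg.IsElementaryAbelian 2 B ∧ ∀ C : Subgroup ↥(S : Subgroup G), Cfsg.IsElementaryAbelian 2 C → B ≤ C → C = B)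
    (honly : ∀ C : Subgroup ↥(S : Subgroup G), Cfsg.IsElementaryAbelian 2 C →
      (∀ D : Subgroup ↥(S : Subgroup G), Cfsg.IsElementaryAbelian 2 D → C ≤ D → D = C) → C = A ∨ C = B)
    (hprod : ∀ s : ↥(S : Subgroup G), ∃ a ∈ A, ∃ b ∈ B, a * b = s)
    (A' B' : Subgroup G) (hA' : A' = A.map (S : Subgroup G).subtype) (hB' : B' = B.map (S : Subgroup G).subtype) :
    (A.index = 2 ∧ B.index = 2) ∨
    (∃ P : Sylow 2 ↥(Subgroup.normalClosure (A' : Set G)),
        ((P : Subgroup ↥(Subgroup.normalClosure (A' : Set G))).map (Subgroup.normalClosure (A' : Set G)).subtype) = A') ∨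
    (∃ P : Sylow 2 ↥(Subgroup.normalClosure (B' : Set G)),
        ((P : Subgroup ↥(Subgroup.normalClosure (B' : Set G))).map (Subgroup.normalClosure (B' : Set G)).subtype) = B') ∨
    (A.index = B.index ∧
      ∃ (X : Subgroup G) (_ : X = Subgroup.closure {g : G | ∃ k : ℕ, orderOf g = 2 ^ k}),
        ∃ K L : Subgroup (↥X ⧸ Cfsg.oddCore ↥X), (∀ a ∈ K, ∀ l ∈ L, a * l = l * a) ∧ K ⊔ L = ⊤ ∧
          (∀ P : Sylow 2 ↥K, IsMulCommutative ↥(P : Subgroup ↥K) ∧ ∀ x ∈ (P : Subgroup ↥K), x ^ 2 = 1) ∧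
          Group.IsPerfect ↥L ∧
          ∃ (F : Type) (_ : Field F) (_ : Fintype F), Fintype.card F = A.index ∧
            (Nonempty (↥L ⧸ Subgroup.center ↥L ≃* Matrix.ProjectiveSpecialLinearGroup (Fin 3) F) ∨
              Nonempty (↥L ⧸ Subgroup.center ↥L ≃* Cfsg.PSp 2 F))) := by
  classical
  haveI : Fact (Nat.Prime 2) := ⟨Nat.prime_two⟩
  subst hA' hB'
  have hc := cfg_of_max S A B hAB hA hB honly hprod
  have hidxA : A.index = (A.map (S : Subgroup G).subtype).relIndex (S : Subgroup G) := by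
    rw [relIndex, subgroupOf, comap_map_eq_self_of_injective (subtype_injective _)]
  have hidxB : B.index = (B.map (S : Subgroup G).subtype).relIndex (S : Subgroup G) := by
    rw [relIndex, subgroupOf, comap_map_eq_self_of_injective (subtype_injective _)]
  rw [hidxA, hidxB]
  generalize A.map (S : Subgroup G).subtype = A at hc ⊢
  generalize B.map (S : Subgroup G).subtype = B at hc ⊢
  have hT := hc.twoEA
  by_cases h2 : A.relIndex (S : Subgroup G) = 2 ∧ B.relIndex (S : Subgroup G) = 2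
  · exact Or.inl h2
  by_cases hoA : Open A B
  swap
  · exact Or.inr (Or.inr (Or.inl (closedStmt hg G S A B hc hoA)))
  by_cases hoB : Open B A
  swap
  · exact Or.inr (Or.inl (closedStmt hg G S B A hc.symm hoB))
  refine Or.inr (Or.inr (Or.inr ?_))
  have h44 : 4 ≤ A.relIndex (S : Subgroup G) ∧ 4 ≤ B.relIndex (S : Subgroup G) := by
    rcases hT.relIndex_two_or_four with ha | ha <;> rcases hT.symm.relIndex_two_or_four with hb | hb
    · exact absurd ⟨ha, hb⟩ h2
    · exfalso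
      have h1 := (hT.symm.sideHyp hb (hc.symm.open_iff.1 hoB)).card_le
      have e : A.relIndex (S : Subgroup G) = (A ⊓ B).relIndex B :=
        relIndex_of_sup hT.normA hT.sup_eq
      rw [inf_comm B A] at h1
      omega
    · exfalso
      have h1 := (hT.sideHyp ha (hc.open_iff.1 hoA)).card_le
      have e : B.relIndex (S : Subgroup G) = (A ⊓ B).relIndex A :=
        (relIndex_of_sup hT.symm.normA hT.symm.sup_eq).trans (by rw [inf_comm])
      omega
    · exact ⟨ha, hb⟩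
  obtain ⟨h4A, h4B⟩ := h44
  have hAs := hT.sideHyp h4A (hc.open_iff.1 hoA)
  have hBs : SideHyp (S : Subgroup G) B (A ⊓ B) := by
    rw [inf_comm]; exact hT.symm.sideHyp h4B (hc.symm.open_iff.1 hoB)
  refine ⟨(eq_of_both hAs hBs hT.sup_eq rfl).2.2, _, rfl, ?_⟩
  obtain ⟨hXn, hSX⟩ := twoClosure_facts S
  generalize hX : closure {g : G | ∃ k : ℕ, orderOf g = 2 ^ k} = X at hXn hSX ⊢
  haveI := hXn
  have hTX := hT.restrict hSX
  have hoAX := Cfg.open_subtype hT hXn hSX hoA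
  have hoBX := Cfg.open_subtype hT.symm hXn hSX hoB
  have hgX : normalClosure (((S.subtype hSX : Sylow 2 X) : Subgroup X) : Set X) = ⊤ := by
    refine eq_top_iff.2 fun x _ => ?_
    haveI : (normalClosure (((S.subtype hSX : Sylow 2 X) : Subgroup X) : Set X)).Normal := normalClosure_normal
    have hle : X ≤ (normalClosure (((S.subtype hSX : Sylow 2 X) : Subgroup X) : Set X)).map X.subtype := by
      conv_lhs => rw [← hX]
      rw [closure_le]
      intro g hgk
      obtain ⟨k, hk⟩ := hgk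
      have hgX : g ∈ X := hX ▸ subset_closure ⟨k, hk⟩
      have hp : IsPGroup 2 (zpowers (⟨g, hgX⟩ : X)) :=
        IsPGroup.of_card (n := k) (by rw [Nat.card_zpowers, Subgroup.orderOf_mk, hk])
      obtain ⟨P, hP⟩ := hp.exists_le_sylow
      obtain ⟨c, hc'⟩ := MulAction.exists_smul_eq X P (S.subtype hSX)
      refine ⟨⟨g, hgX⟩, ?_, rfl⟩
      have h1 : c * ⟨g, hgX⟩ * c⁻¹ ∈ ((S.subtype hSX : Sylow 2 X) : Subgroup X) := by
        rw [← hc']; exact ⟨_, hP (mem_zpowers _), rfl⟩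
      have h2' := (inferInstance : (normalClosure (((S.subtype hSX : Sylow 2 X) : Subgroup X) : Set X)).Normal).conj_mem
        _ (subset_normalClosure h1) c⁻¹
      rwa [show c⁻¹ * (c * (⟨g, hgX⟩ : X) * c⁻¹) * c⁻¹⁻¹ = ⟨g, hgX⟩ by group] at h2'
    obtain ⟨y, hy, e⟩ := hle x.2
    rwa [← Subtype.ext (p := fun z => z ∈ X) (a1 := y) (a2 := x) e]
  obtain ⟨π, hπ⟩ : ∃ π : X →* X ⧸ Cfsg.pPrimeCore 2 X, π = QuotientGroup.mk' _ := ⟨_, rfl⟩
  have hs : Function.Surjective π := hπ ▸ QuotientGroup.mk'_surjective _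
  have hker : ∀ s ∈ ((S.subtype hSX : Sylow 2 X) : Subgroup X), π s = 1 → s ∈ (⊥ : Subgroup X) :=
    fun s hs' h => mem_bot.2 (mk_eq_one hTX hs' (by rwa [← hπ]))
  have hcomm : ∀ a ∈ A.subgroupOf X, ∀ b ∈ B.subgroupOf X, a * b * a⁻¹ * b⁻¹ ∈ (⊥ : Subgroup X) →
      a ∈ B.subgroupOf X ∨ b ∈ A.subgroupOf X := fun a ha b hb h => hTX.fix a ha b hb (by
    rw [mem_bot] at h
    exact mul_inv_eq_iff_eq_mul.1 (mul_inv_eq_one.1 h))
  have hTY := hTX.map hs bot_le hker hcomm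
  have hgY : normalClosure ((((S.subtype hSX).mapSurjective hs : Sylow 2 (X ⧸ Cfsg.pPrimeCore 2 X)) :
      Subgroup (X ⧸ Cfsg.pPrimeCore 2 X)) : Set (X ⧸ Cfsg.pPrimeCore 2 X)) = ⊤ := by
    have hle : ((S.subtype hSX : Sylow 2 X) : Subgroup X) ≤
        (normalClosure ((((S.subtype hSX : Sylow 2 X) : Subgroup X).map π : Subgroup _) :
          Set (X ⧸ Cfsg.pPrimeCore 2 X))).comap π := fun x hx => subset_normalClosure (mem_map_of_mem π hx)
    have htop := eq_top_iff.2 (hgX.ge.trans (normalClosure_le_normal hle))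
    exact eq_top_iff.2 fun y _ => by
      obtain ⟨x, rfl⟩ := hs y
      exact mem_comap.1 (htop ▸ mem_top x)
  have hidx : ∀ C : Subgroup G, C ≤ (S : Subgroup G) →
      ((C.subgroupOf X).map π).relIndex (((S.subtype hSX).mapSurjective hs : Sylow 2 (X ⧸ Cfsg.pPrimeCore 2 X)) :
        Subgroup (X ⧸ Cfsg.pPrimeCore 2 X)) = C.relIndex (S : Subgroup G) := by
    intro C hC
    show ((C.subgroupOf X).map π).relIndex (((S.subtype hSX : Sylow 2 X) : Subgroup X).map π) = _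
    rw [← relIndex_comap, comap_map_eq, ← inf_relIndex_right, Sylow.coe_subtype]
    have e : (C.subgroupOf X ⊔ π.ker) ⊓ (S : Subgroup G).subgroupOf X = C.subgroupOf X := by
      refine le_antisymm (fun x hx => ?_) (le_inf le_sup_left fun x hx => hC hx)
      obtain ⟨r, hr, k, hk, rfl⟩ := mem_sup_of_normal_right.1 (mem_inf.1 hx).1
      have hk1 : k = 1 := mem_bot.1 (hker k (by
        rw [Sylow.coe_subtype]
        exact (show r⁻¹ * (r * k) = k by group) ▸ mul_mem (inv_mem (show r ∈ (S : Subgroup G).subgroupOf X from hC hr))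
          (mem_inf.1 hx).2) (MonoidHom.mem_ker.1 hk))
      rwa [hk1, mul_one]
    rw [e, relIndex_subgroupOf hSX]
  have hoA' := hTX.open_map (φ := π) bot_le hker hoAX
  have hoB' := hTX.symm.open_map (φ := π) bot_le hker hoBX
  obtain ⟨K, L, hcom, hsup, hK, hL, Yq, i1, i2, i3, S', A', B', hTwo, ⟨e⟩⟩ :=
    hTY.exists_split hg quot_core hgY hoA' hoB' (by rw [hidx A hT.leA]; exact h4A) (by rw [hidx B hT.leB]; exact h4B)
  rw [hidx A hT.leA] at hTwo
  refine ⟨K, L, hcom, hsup, hK, hL, ?_⟩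
  have hcen := hC Yq S' A' B' _ hTwo
  by_cases hb : sideC (S' : Subgroup Yq) A' = ⊥
  · obtain ⟨F, j1, j2, hF, ⟨f⟩⟩ := hP Yq S' A' B' _ hTwo hcen hb
    exact ⟨F, j1, j2, hF, Or.inl ⟨e.trans f⟩⟩
  · obtain ⟨F, j1, j2, hF, ⟨f⟩⟩ := hQ Yq S' A' B' _ hTwo hcen hb
    exact ⟨F, j1, j2, hF, Or.inr ⟨e.trans f⟩⟩

end Cfsg.Agent.ABRec
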