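import Cfsg.Agent.Lib.ABRec.Action
import Mathlib.GroupTheory.Subgroup.Centralizer

/-!
The open side in the group: the normaliser of an elementary abelian subgroup `A` of a Sylow 2-subgroup `S` acts on
`A` as an open side in the sense of `Act`; hence `|S : A| ≤ |A : Z|`, and in case of equality `A` modulo the
fixed points of the conjugates of `S` is the natural module of `SL(2, F)`.
-/

set_option autoImplicit false
set_option linter.style.haveILetI false
set_option linter.unusedSectionVars false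

namespace Cfsg.Agent.ABRec

open Subgroup

universe u

variable {G : Type u} [Group G] [Finite G]

/-- An open side of `S`: `A` elementary abelian, self-centralising off the central subgroup `Z`, on which `S` is
quadratic, and whose normaliser moves `Z`. -/
structure SideHyp (S A Z : Subgroup G) : Prop where
  index : ¬ 2 ∣ S.index
  two : IsPGroup 2 S
  A_le : A ≤ S
  Z_le : Z ≤ A
  sq : ∀ a ∈ A, a * a = 1
  norm : S ≤ normalizer (A : Set G)
  central : ∀ s ∈ S, ∀ z ∈ Z, Commute s z
  quad : ∀ s ∈ S, ∀ a ∈ A, s * a * s⁻¹ * a⁻¹ ∈ Z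
  self : ∀ s ∈ S, s ∉ A → ∀ a ∈ A, Commute s a → a ∈ Z
  four : 4 ≤ A.relIndex S
  open_ : ∃ x ∈ normalizer (A : Set G), ∃ z ∈ Z, x * z * x⁻¹ ∉ Z

/-- The elements of `A` fixed by the conjugates of `S` in the normaliser of `A`. -/
def sideC (S A : Subgroup G) : Subgroup G :=
  A ⊓ centralizer {y | ∃ x ∈ normalizer (A : Set G), ∃ s ∈ S, x * s * x⁻¹ = y}

theorem mem_sideC {S A : Subgroup G} {c : G} :
    c ∈ sideC S A ↔ c ∈ A ∧ ∀ x ∈ normalizer (A : Set G), ∀ s ∈ S, Commute (x * s * x⁻¹) c := by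
  rw [sideC, mem_inf, mem_centralizer_iff]
  exact and_congr_right fun _ =>
    ⟨fun h x hx s hs => h _ ⟨x, hx, s, hs, rfl⟩, by rintro h y ⟨x, hx, s, hs, rfl⟩; exact h x hx s hs⟩

/-- Automorphisms as endomorphisms of the additive group. -/
def autEnd (A : Subgroup G) : MulAut ↥A →* AddMonoid.End (Additive ↥A) where
  toFun e := e.toMonoidHom.toAdditive
  map_one' := rfl
  map_mul' _ _ := rfl

theorem normalizerMonoidHom_val (A : Subgroup G) (x : normalizer (A : Set G)) (a : A) :
    ((A.normalizerMonoidHom x a : A) : G) = x * a * (x : G)⁻¹ := rfl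

theorem conj_mem_closure {S A : Subgroup G} (hn : S ≤ normalizer (A : Set G)) (g : normalizer (A : Set G))
    {s : G} (hs : s ∈ S) :
    A.normalizerMonoidHom.rangeRestrict (g * ⟨s, hn hs⟩ * g⁻¹) ∈
      normalClosure (((S.subgroupOf (normalizer (A : Set G))).map A.normalizerMonoidHom.rangeRestrict :
        Subgroup A.normalizerMonoidHom.range) : Set A.normalizerMonoidHom.range) := by
  have hmem : A.normalizerMonoidHom.rangeRestrict (⟨s, hn hs⟩ : normalizer (A : Set G)) ∈
      (S.subgroupOf (normalizer (A : Set G))).map A.normalizerMonoidHom.rangeRestrict :=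
    mem_map_of_mem _ (mem_subgroupOf.2 hs)
  rw [map_mul, map_mul, map_inv]
  exact normalClosure_normal.conj_mem _ (subset_normalClosure hmem) _

namespace SideHyp

variable {S A Z : Subgroup G} (h : SideHyp S A Z)
include h

/-- `A` is abelian. -/
theorem comm {a b : G} (ha : a ∈ A) (hb : b ∈ A) : a * b = b * a := by
  calc a * b = (a * b)⁻¹ := (inv_eq_of_mul_eq_one_right (h.sq _ (mul_mem ha hb))).symm
    _ = b * a := by
      rw [mul_inv_rev, inv_eq_of_mul_eq_one_right (h.sq a ha), inv_eq_of_mul_eq_one_right (h.sq b hb)]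

theorem exists_not_mem : ∃ a ∈ A, a ∉ Z := by
  obtain ⟨x, hx, z, hz, hxz⟩ := h.open_
  exact ⟨_, (mem_normalizer_iff.1 hx z).1 (h.Z_le hz), hxz⟩

/-- `A` is its own centraliser in `S`. -/
theorem centralizer_eq {s : G} (hs : s ∈ S) (hc : ∀ a ∈ A, Commute s a) : s ∈ A := by
  by_contra hn
  obtain ⟨a, ha, haZ⟩ := h.exists_not_mem
  exact haZ (h.self s hs hn a ha (hc a ha))

theorem ker_inf (s : ↥(S.subgroupOf (normalizer (A : Set G)))) (e : A.normalizerMonoidHom s.1 = 1) :
    ((s : normalizer (A : Set G)) : G) ∈ A := by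
  refine h.centralizer_eq s.2 fun a ha => ?_
  have e' := congrArg Subtype.val (DFunLike.congr_fun e (⟨a, ha⟩ : A))
  rw [normalizerMonoidHom_val] at e'
  show _ * a = a * _
  exact mul_inv_eq_iff_eq_mul.1 e'

/-- The image of `S` in the automorphisms induced on `A`. -/
theorem card_image :
    Nat.card ((S.subgroupOf (normalizer (A : Set G))).map A.normalizerMonoidHom.rangeRestrict) =
      A.relIndex S := by
  set N := normalizer (A : Set G)
  set f := (A.normalizerMonoidHom.rangeRestrict).comp (S.subgroupOf N).subtype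
  have h1 : f.range = (S.subgroupOf N).map A.normalizerMonoidHom.rangeRestrict := by
    rw [MonoidHom.range_comp, range_subtype]
  have h2 : f.ker = (A.subgroupOf N).subgroupOf (S.subgroupOf N) := by
    ext s
    rw [MonoidHom.mem_ker, mem_subgroupOf, mem_subgroupOf]
    constructor
    · exact fun e => h.ker_inf s (congrArg Subtype.val e)
    · intro hs
      refine Subtype.ext (MulEquiv.ext fun a => Subtype.ext ?_)
      show ((A.normalizerMonoidHom s.1) a : G) = a
      rw [normalizerMonoidHom_val, mul_inv_eq_iff_eq_mul]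
      exact h.comm hs a.2
  rw [← h1, ← index_ker, h2]
  exact (relIndex_subgroupOf h.norm)

theorem act :
    letI : CommGroup ↥A := { A.toGroup with mul_comm := fun a b => Subtype.ext (h.comm a.2 b.2) }
    Act (V := Additive ↥A) ((autEnd A).comp A.normalizerMonoidHom.range.subtype)
      ((S.subgroupOf (normalizer (A : Set G))).map A.normalizerMonoidHom.rangeRestrict)
      (Subgroup.toAddSubgroup (Z.subgroupOf A)) := by
  letI : CommGroup ↥A := { A.toGroup with mul_comm := fun a b => Subtype.ext (h.comm a.2 b.2) }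
  have hZ' : ∀ a : Additive ↥A,
      a ∈ Subgroup.toAddSubgroup (Z.subgroupOf A) ↔ ((a.toMul : A) : G) ∈ Z := fun a => Iff.rfl
  refine ⟨fun v => ?_, ?_, ?_, h.card_image ▸ h.four, ?_, ?_, ?_, ?_⟩
  · refine Subtype.ext ?_
    exact h.sq _ v.toMul.2
  · intro x y hxy
    refine Subtype.ext (MulEquiv.ext fun a => ?_)
    exact congrArg Additive.toMul (DFunLike.congr_fun hxy (Additive.ofMul a))
  · intro hd
    exact h.index ((hd.trans (index_map_dvd _ A.normalizerMonoidHom.rangeRestrict_surjective)).trans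
      (relIndex_dvd_index_of_le h.norm))
  · rintro t ⟨s, hs, rfl⟩ z hz
    refine congrArg Additive.ofMul (Subtype.ext ?_ : A.normalizerMonoidHom s z.toMul = z.toMul)
    rw [normalizerMonoidHom_val, mul_inv_eq_iff_eq_mul]
    exact (h.central _ hs _ ((hZ' z).1 hz)).eq
  · rintro t ⟨s, hs, rfl⟩ v
    rw [hZ']
    show ((A.normalizerMonoidHom s v.toMul * v.toMul : A) : G) ∈ Z
    rw [coe_mul, normalizerMonoidHom_val]
    have e := h.quad _ hs _ v.toMul.2
    rwa [inv_eq_of_mul_eq_one_right (h.sq _ v.toMul.2)] at e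
  · rintro t ⟨s, hs, rfl⟩ hne v hv
    rw [hZ']
    refine h.self _ hs (fun hsA => hne ?_) _ v.toMul.2 ?_
    · refine Subtype.ext (MulEquiv.ext fun a => Subtype.ext ?_)
      show ((A.normalizerMonoidHom s) a : G) = a
      rw [normalizerMonoidHom_val, mul_inv_eq_iff_eq_mul]
      exact h.comm hsA a.2
    · have e := congrArg (fun a : Additive ↥A => ((a.toMul : A) : G)) hv
      exact mul_inv_eq_iff_eq_mul.1 e
  · obtain ⟨x, hx, z, hz, hxz⟩ := h.open_
    refine ⟨A.normalizerMonoidHom.rangeRestrict ⟨x, hx⟩, Additive.ofMul ⟨z, h.Z_le hz⟩, (hZ' _).2 hz, ?_⟩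
    rw [hZ']
    exact hxz

/-- The image of `S` is not larger than `A` modulo `Z`. -/
theorem card_le : A.relIndex S ≤ Z.relIndex A := by
  letI i : CommGroup ↥A := { A.toGroup with mul_comm := fun a b => Subtype.ext (h.comm a.2 b.2) }
  have hA := h.act
  have e := hA.card_le
  rw [h.card_image] at e
  exact e

/-- The natural module. -/
theorem natural (hle : Z.relIndex A ≤ A.relIndex S) :
    ∃ (F : Type) (_ : Field F) (_ : Fintype F) (_ : CharP F 2) (ι : A → F × F) (r : F → G) (w : G) (τ : Fˣ → G),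
      Fintype.card F = A.relIndex S ∧ Function.Surjective ι ∧ (∀ a b, ι (a * b) = ι a + ι b) ∧
      (∀ a : A, ι a = 0 ↔ (a : G) ∈ sideC S A) ∧ (∀ a : A, (a : G) ∈ Z ↔ (ι a).2 = 0) ∧
      (∀ x, r x ∈ S) ∧ (∀ s ∈ S, ∃ x, (r x)⁻¹ * s ∈ A) ∧ w ∈ normalizer (A : Set G) ∧
      (∀ t, τ t ∈ normalizer (A : Set G) ∧ ∃ k, Odd k ∧ τ t ^ k = 1) ∧
      (∀ x (a b : A), (b : G) = r x * a * (r x)⁻¹ → ι b = ((ι a).1 + x * (ι a).2, (ι a).2)) ∧
      (∀ a b : A, (b : G) = w * a * w⁻¹ → ι b = ((ι a).2, (ι a).1)) ∧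
      (∀ t (a b : A), (b : G) = τ t * a * (τ t)⁻¹ → ι b = ((t : F) * (ι a).1, (t : F)⁻¹ * (ι a).2)) ∧
      (∀ c ∈ sideC S A, Commute w c ∧ ∀ t, Commute (τ t) c) := by
  classical
  letI i : CommGroup ↥A := { A.toGroup with mul_comm := fun a b => Subtype.ext (h.comm a.2 b.2) }
  set φ := (autEnd A).comp A.normalizerMonoidHom.range.subtype
  set T := (S.subgroupOf (normalizer (A : Set G))).map A.normalizerMonoidHom.rangeRestrict
  set Z' : AddSubgroup (Additive ↥A) := Subgroup.toAddSubgroup (Z.subgroupOf A)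
  have hA : Act φ T Z' := h.act
  obtain ⟨F, i1, i2, i3, R, τ, ι, hF, hιs, hker, hZ, hrt, hw, hτ, hτι⟩ := hA.natural (by
    rw [h.card_image]; exact hle)
  rw [h.card_image] at hF
  have hlift : ∀ x : A.normalizerMonoidHom.range, ∃ g : normalizer (A : Set G),
      A.normalizerMonoidHom.rangeRestrict g = x := A.normalizerMonoidHom.rangeRestrict_surjective
  have hT : ∀ x, ∃ g : normalizer (A : Set G), (g : G) ∈ S ∧ A.normalizerMonoidHom.rangeRestrict g = R.rt x :=
    fun x => R.rt_mem x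
  choose r hrS hr using hT
  obtain ⟨w, hw'⟩ := hlift R.w
  -- odd lifts of the torus
  have hodd : ∀ t : Fˣ, ∃ g : normalizer (A : Set G), (∃ k, Odd k ∧ g ^ k = 1) ∧
      A.normalizerMonoidHom.rangeRestrict g = τ t := by
    intro t
    obtain ⟨g, hg⟩ := hlift (τ t)
    obtain ⟨m, hm, hm1⟩ := R.odd t t.ne_zero
    rw [← hτ t] at hm1
    obtain ⟨a, b, hb, hab⟩ := Nat.exists_eq_pow_mul_and_not_dvd (orderOf_pos g).ne' 2 (by norm_num)
    obtain ⟨j, rfl⟩ := hm
    refine ⟨g ^ (2 ^ a * (j + 1) ^ a), ⟨b, Nat.odd_iff.2 (Nat.two_dvd_ne_zero.1 hb), ?_⟩, ?_⟩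
    · rw [← pow_mul, show 2 ^ a * (j + 1) ^ a * b = 2 ^ a * b * (j + 1) ^ a by ring, ← hab, pow_mul,
        pow_orderOf_eq_one, one_pow]
    · rw [map_pow, hg, ← mul_pow, show 2 * (j + 1) = 2 * j + 1 + 1 by ring]
      clear hab
      induction a with
      | zero => rw [pow_zero, pow_one]
      | succ n ih => rw [pow_succ', pow_mul, pow_succ (τ t) (2 * j + 1), hm1, one_mul, ih]
  choose τ' hτo hτ' using hodd
  have conjval : ∀ (g : normalizer (A : Set G)) (a b : A), (b : G) = g * a * (g : G)⁻¹ →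
      Additive.ofMul b = φ (A.normalizerMonoidHom.rangeRestrict g) (Additive.ofMul a) := fun g a b e =>
    congrArg Additive.ofMul (Subtype.ext e : b = A.normalizerMonoidHom g a)
  have hfix : ∀ a : A, Additive.ofMul a ∈ fixClosure φ T ↔ (a : G) ∈ sideC S A := by
    intro a
    rw [mem_fixClosure, mem_sideC]
    constructor
    · intro he
      refine ⟨a.2, fun x hx s hs => ?_⟩
      let g : normalizer (A : Set G) := ⟨x, hx⟩
      let g' : normalizer (A : Set G) := g * ⟨s, h.norm hs⟩ * g⁻¹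
      have e := he (A.normalizerMonoidHom.rangeRestrict g') (conj_mem_closure h.norm g hs)
      have e' := congrArg (fun y : Additive ↥A => ((y.toMul : A) : G)) e
      exact mul_inv_eq_iff_eq_mul.1 e'
    · intro ha e he
      induction he using closure_induction with
      | mem y hy =>
        obtain ⟨t, ⟨s, hs, rfl⟩, hty⟩ := Group.mem_conjugatesOfSet_iff.1 hy
        obtain ⟨c, rfl⟩ := isConj_iff.1 hty
        obtain ⟨x, rfl⟩ := hlift c
        rw [← map_inv, ← map_mul, ← map_mul]
        refine congrArg Additive.ofMul (Subtype.ext ?_ : A.normalizerMonoidHom (x * s * x⁻¹) a = a)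
        rw [normalizerMonoidHom_val]
        exact mul_inv_eq_iff_eq_mul.2 (ha.2 x x.2 s hs).eq
      | one => exact φ_one φ _
      | mul a' b' _ _ ha' hb' => rw [φ_mul, hb', ha']
      | inv a' _ ha' => conv_lhs => rw [← ha', φ_inv_apply]
  have hmemE : R.w ∈ normalClosure (T : Set _) := R.closure_eq ▸ subset_closure (Or.inr rfl)
  have hfixed : ∀ c, ∀ hc : c ∈ sideC S A, ∀ g : normalizer (A : Set G),
      A.normalizerMonoidHom.rangeRestrict g ∈ normalClosure (T : Set _) → Commute (g : G) c := by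
    intro c hc g hg
    have hcA : c ∈ A := (mem_sideC.1 hc).1
    have e := mem_fixClosure.1 ((hfix ⟨c, hcA⟩).2 hc) _ hg
    exact mul_inv_eq_iff_eq_mul.1 (congrArg (fun y : Additive ↥A => ((y.toMul : A) : G)) e)
  refine ⟨F, i1, i2, i3, fun a => ι (Additive.ofMul a), fun x => r x, w, fun t => τ' t, hF, fun p => ?_,
    fun a b => map_add ι _ _, fun a => ?_, fun a => hZ (Additive.ofMul a), hrS, fun s hs => ?_, w.2,
    fun t => ⟨(τ' t).2, (hτo t).imp fun k hk => ⟨hk.1, congrArg Subtype.val hk.2⟩⟩,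
    fun x a b e => ?_, fun a b e => ?_, fun t a b e => ?_, fun c hc => ⟨hfixed c hc w (hw'.symm ▸ hmemE),
      fun t => hfixed c hc (τ' t) ?_⟩⟩
  · obtain ⟨v, hv⟩ := hιs p
    exact ⟨v.toMul, hv⟩
  · rw [← hfix a, ← hker, AddMonoidHom.mem_ker]
  · obtain ⟨x, hx⟩ := R.rt_surj (A.normalizerMonoidHom.rangeRestrict ⟨s, h.norm hs⟩) ⟨⟨s, h.norm hs⟩, hs, rfl⟩
    refine ⟨x, h.ker_inf ⟨(r x)⁻¹ * ⟨s, h.norm hs⟩, mul_mem (inv_mem (hrS x)) hs⟩ ?_⟩
    have e : A.normalizerMonoidHom.rangeRestrict ((r x)⁻¹ * ⟨s, h.norm hs⟩) = 1 := by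
      rw [map_mul, map_inv, hr, hx, inv_mul_cancel]
    exact congrArg Subtype.val e
  · show ι (Additive.ofMul b) = _
    rw [conjval (r x) a b e, hr]; exact hrt x _
  · show ι (Additive.ofMul b) = _
    rw [conjval w a b e, hw']; exact hw _
  · show ι (Additive.ofMul b) = _
    rw [conjval (τ' t) a b e, hτ']; exact hτι t _
  · rw [hτ', hτ]
    have hr' : ∀ y, R.rt y ∈ normalClosure (T : Set _) := fun y => subset_normalClosure (R.rt_mem y)
    exact mul_mem (mul_mem (mul_mem (mul_mem (mul_mem hmemE (hr' _)) hmemE) (hr' _)) hmemE) (hr' _)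

end SideHyp

theorem relIndex_of_sup {S A B : Subgroup G} (hn : S ≤ normalizer (A : Set G)) (hS : A ⊔ B = S) :
    A.relIndex S = (A ⊓ B).relIndex B := by
  subst hS
  haveI : (A.subgroupOf (A ⊔ B)).Normal := (normal_subgroupOf_iff_le_normalizer le_sup_left).2 hn
  have e := relIndex_sup_right (K := A.subgroupOf (A ⊔ B)) (H := B.subgroupOf (A ⊔ B))
  rwa [sup_comm (B.subgroupOf (A ⊔ B)), ← subgroupOf_sup le_sup_left le_sup_right, subgroupOf_self,
    relIndex_top_right, relIndex_subgroupOf (le_sup_right : B ≤ A ⊔ B), ← inf_relIndex_right (H := A) (K := B)] at e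

/-- When both sides are open their parameters agree. -/
theorem eq_of_both {S A B Z : Subgroup G} (hA : SideHyp S A Z) (hB : SideHyp S B Z) (hS : A ⊔ B = S)
    (hZ : A ⊓ B = Z) : A.relIndex S = Z.relIndex A ∧ B.relIndex S = Z.relIndex B ∧
      A.relIndex S = B.relIndex S := by
  have e1 : A.relIndex S = Z.relIndex B := hZ ▸ relIndex_of_sup hA.norm hS
  have e2 : B.relIndex S = Z.relIndex A := by
    rw [← hZ, inf_comm]
    exact relIndex_of_sup hB.norm ((sup_comm B A).trans hS)
  have h1 := hA.card_le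
  have h2 := hB.card_le
  omega

end Cfsg.Agent.ABRec
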