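import Cfsg.Agent.Lib.ABRec.Map
import Cfsg.Agent.Lib.ABRec.CentCore
import Cfsg.Agent.Lib.Solvable.Structure

/-!
A group without odd normal subgroups generated by the conjugates of the Sylow subgroup, both sides open and nothing
fixed by both closures, is simple: a normal subgroup meets `A ⊓ B`, is moved by both sides, so contains `S`.
-/

set_option autoImplicit false
set_option linter.style.haveILetI false
set_option linter.unusedSectionVars false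

namespace Cfsg.Agent.ABRec

open Subgroup Cfsg.Agent.GoldStruct

universe u

variable {Y : Type u} [Group Y] [Finite Y] {S : Sylow 2 Y} {A B : Subgroup Y}

namespace TwoEA

variable (hT : TwoEA S A B)
include hT

/-- A normal subgroup with an element of `A ⊓ B` not fixed on the side of `A` contains `A`. -/
theorem le_of_moved (hA : SideHyp (S : Subgroup Y) A (A ⊓ B)) (hB : SideHyp (S : Subgroup Y) B (A ⊓ B))
    (h0 : sideC (S : Subgroup Y) A ⊓ sideC (S : Subgroup Y) B = ⊥) {N : Subgroup Y} (hN : N.Normal) {z : Y}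
    (hzN : z ∈ N) (hz : z ∈ A ⊓ B) (hzC : z ∉ sideC (S : Subgroup Y) A) : A ≤ N := by
  classical
  obtain ⟨F, i1, i2, i3, -, ⟨f⟩⟩ := hT.exists_frame hA hB
  have hcA : ∀ n ∈ normalizer (A : Set Y), ∀ a ∈ A, n * a * n⁻¹ ∈ A := fun n hn a ha =>
    (mem_normalizer_iff.1 hn a).1 ha
  -- an element of `N` in `A` off `A ⊓ B`
  obtain ⟨a, ha⟩ : ∃ a : A, a = ⟨f.w * z * f.w⁻¹, hcA _ f.w_mem z hz.1⟩ := ⟨_, rfl⟩
  have haN : (a : Y) ∈ N := by rw [ha]; exact hN.conj_mem z hzN f.w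
  have hy : (f.ι a).2 ≠ 0 := fun h => by
    have h1 := (f.mem_Z a).2 h
    rw [ha] at h1
    exact f.moved hz hz.1 hzC h1
  -- every first coordinate is that of an element of `N`
  have hfst : ∀ p : F, ∃ d : A, (d : Y) ∈ N ∧ f.ι d = (p, 0) := by
    intro p
    have hr := hT.normA (f.r_mem (p / (f.ι a).2))
    obtain ⟨b, hb⟩ : ∃ b : A, (b : Y) = f.r (p / (f.ι a).2) * a * (f.r (p / (f.ι a).2))⁻¹ :=
      ⟨⟨_, hcA _ hr a a.2⟩, rfl⟩
    refine ⟨b * a, ?_, ?_⟩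
    · rw [coe_mul, hb]
      exact mul_mem (hN.conj_mem _ haN _) haN
    · rw [f.ι_mul, f.r_act _ a b hb]
      refine Prod.ext ?_ ?_
      · show (f.ι a).1 + p / (f.ι a).2 * (f.ι a).2 + (f.ι a).1 = p
        rw [div_mul_cancel₀ _ hy, add_comm (f.ι a).1 p, add_assoc, CharTwo.add_self_eq_zero, add_zero]
      · show (f.ι a).2 + (f.ι a).2 = 0
        exact CharTwo.add_self_eq_zero _
  -- `A` lies in `N` times the fixed points
  have hsplit : ∀ x ∈ A, ∃ d ∈ A, d ∈ N ∧ d * x ∈ sideC (S : Subgroup Y) A := by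
    intro x hx
    obtain ⟨d, hdN, hd⟩ := hfst (f.ι ⟨x, hx⟩).1
    obtain ⟨e, heN, he⟩ := hfst (f.ι ⟨x, hx⟩).2
    obtain ⟨e', he'⟩ : ∃ e' : A, (e' : Y) = f.w * e * f.w⁻¹ := ⟨⟨_, hcA _ f.w_mem e e.2⟩, rfl⟩
    refine ⟨d * e', mul_mem d.2 e'.2, mul_mem hdN (by rw [he']; exact hN.conj_mem _ heN _), ?_⟩
    refine (f.ι_zero (d * e' * ⟨x, hx⟩)).1 ?_
    rw [f.ι_mul, f.ι_mul, f.w_act e e' he', hd, he]
    refine Prod.ext ?_ ?_
    · show (f.ι ⟨x, hx⟩).1 + 0 + (f.ι ⟨x, hx⟩).1 = 0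
      rw [add_zero, CharTwo.add_self_eq_zero]
    · show 0 + (f.ι ⟨x, hx⟩).2 + (f.ι ⟨x, hx⟩).2 = 0
      rw [zero_add, CharTwo.add_self_eq_zero]
  have hcomm : ∀ x ∈ A, ∀ b ∈ B, x * b * x⁻¹ * b⁻¹ ∈ N := by
    intro x hx b hb
    obtain ⟨d, hdA, hdN, hdc⟩ := hsplit x hx
    have hd1 : d⁻¹ = d := inv_eq_of_mul_eq_one_right (hT.sqA d hdA)
    have hcb : Commute b (d * x) := hT.central (hA.sideC_le hdc) (hT.leB hb)
    have e : x * b * x⁻¹ * b⁻¹ = d * (b * d⁻¹ * b⁻¹) := by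
      have hx' : x = d * (d * x) := by rw [← mul_assoc, hT.sqA d hdA, one_mul]
      calc x * b * x⁻¹ * b⁻¹ = d * (d * x) * b * (d * (d * x))⁻¹ * b⁻¹ := by rw [← hx']
        _ = d * ((d * x) * b) * (d * x)⁻¹ * d⁻¹ * b⁻¹ := by group
        _ = d * (b * d⁻¹ * b⁻¹) := by rw [← hcb.eq]; group
    rw [e]
    exact mul_mem hdN (hN.conj_mem _ (inv_mem hdN) b)
  have hZN : A ⊓ B ≤ N := (hT.inf_le_comm hA hB h0).trans ((Subgroup.closure_le _).2 (by
    rintro _ ⟨x, hx, b, hb, rfl⟩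
    exact hcomm x hx b hb))
  intro x hx
  obtain ⟨d, hdA, hdN, hdc⟩ := hsplit x hx
  have := mul_mem (inv_mem hdN) (hZN (hA.sideC_le hdc))
  rwa [inv_mul_cancel_left] at this

theorem exists_not_sideC (hA : SideHyp (S : Subgroup Y) A (A ⊓ B)) (hB : SideHyp (S : Subgroup Y) B (A ⊓ B)) :
    ∃ z ∈ A ⊓ B, z ∉ sideC (S : Subgroup Y) A := by
  obtain ⟨F, i1, i2, i3, -, ⟨f⟩⟩ := hT.exists_frame hA hB
  obtain ⟨a, ha⟩ := f.surj (1, 0)
  refine ⟨a, (f.mem_Z a).2 (by rw [ha]), fun h => ?_⟩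
  have := congrArg Prod.fst (((f.ι_zero a).2 h).symm.trans ha)
  exact zero_ne_one this

/-- The group is simple. -/
theorem isSimple (hO : ∀ N : Subgroup Y, N.Normal → Odd (Nat.card N) → N = ⊥)
    (hgen : normalClosure ((S : Subgroup Y) : Set Y) = ⊤) (hA : SideHyp (S : Subgroup Y) A (A ⊓ B))
    (hB : SideHyp (S : Subgroup Y) B (A ⊓ B))
    (h0 : sideC (S : Subgroup Y) A ⊓ sideC (S : Subgroup Y) B = ⊥) :
    IsSimpleGroup Y ∧ ¬ IsMulCommutative Y := by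
  haveI : Fact (Nat.Prime 2) := ⟨Nat.prime_two⟩
  haveI : Nontrivial Y := by
    obtain ⟨a, ha, haB⟩ := hT.exA
    exact ⟨a, 1, fun e => haB (e ▸ one_mem B)⟩
  refine ⟨{ eq_bot_or_eq_top_of_normal := fun N hN => ?_ }, fun hcomm => ?_⟩
  · refine or_iff_not_imp_left.2 fun hN0 => ?_
    obtain ⟨R, hR⟩ := GoldStruct.sylow_inf S hN
    have hSN : ((S : Subgroup Y) ⊓ N).subgroupOf (S : Subgroup Y) ≠ ⊥ := by
      intro h
      refine hN0 (hO N hN (Nat.not_even_iff_odd.1 fun hev => ?_))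
      refine Sylow.ne_bot_of_dvd_card R (even_iff_two_dvd.1 hev) ?_
      rw [hR, subgroupOf_eq_bot, disjoint_iff, inf_eq_left.2 inf_le_right]
      rwa [subgroupOf_eq_bot, disjoint_iff, inf_eq_left.2 inf_le_left] at h
    haveI : (((S : Subgroup Y) ⊓ N).subgroupOf (S : Subgroup Y)).Normal :=
      ⟨fun x hx g => ⟨(g * x * g⁻¹).2, hN.conj_mem _ hx.2 _⟩⟩
    haveI : Group.IsNilpotent (S : Subgroup Y) := S.isPGroup'.isNilpotent
    obtain ⟨⟨z, hz, hzc⟩, hz1⟩ := Subgroup.ne_bot_iff_exists_ne_one.1 (SolvStruct.inf_center_ne_bot hSN)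
    have hzN : (z : Y) ∈ N := hz.2
    have hzs : ∀ s ∈ (S : Subgroup Y), Commute (z : Y) s := fun s hs =>
      (congrArg Subtype.val (mem_center_iff.1 hzc ⟨s, hs⟩)).symm
    have hzZ : (z : Y) ∈ A ⊓ B := ⟨hA.centralizer_eq z.2 fun a ha => hzs a (hT.leA ha),
      hB.centralizer_eq z.2 fun b hb => hzs b (hT.leB hb)⟩
    have hA' : SideHyp (S : Subgroup Y) B (B ⊓ A) := by rwa [inf_comm]
    have hB' : SideHyp (S : Subgroup Y) A (B ⊓ A) := by rwa [inf_comm]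
    have h0' : sideC (S : Subgroup Y) B ⊓ sideC (S : Subgroup Y) A = ⊥ := by rwa [inf_comm]
    have hboth : A ≤ N ∧ B ≤ N := by
      by_cases hzA : (z : Y) ∈ sideC (S : Subgroup Y) A
      · have hzB : (z : Y) ∉ sideC (S : Subgroup Y) B := fun h => hz1 (by
          have h1 : (z : Y) ∈ sideC (S : Subgroup Y) A ⊓ sideC (S : Subgroup Y) B := ⟨hzA, h⟩
          rw [h0, mem_bot] at h1
          exact Subtype.ext (Subtype.ext h1))
        have hBN := hT.symm.le_of_moved hA' hB' h0' hN hzN ⟨hzZ.2, hzZ.1⟩ hzB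
        obtain ⟨z', hz', hz'A⟩ := hT.exists_not_sideC hA hB
        exact ⟨hT.le_of_moved hA hB h0 hN (hBN hz'.2) hz' hz'A, hBN⟩
      · have hAN := hT.le_of_moved hA hB h0 hN hzN hzZ hzA
        obtain ⟨z', hz', hz'B⟩ := hT.symm.exists_not_sideC hA' hB'
        exact ⟨hAN, hT.symm.le_of_moved hA' hB' h0' hN (hAN hz'.2) hz' hz'B⟩
    refine eq_top_iff.2 (hgen.ge.trans (normalClosure_le_normal ?_))
    show (S : Subgroup Y) ≤ N
    rw [← hT.sup_eq]
    exact sup_le hboth.1 hboth.2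
  · obtain ⟨a, ha, haB⟩ := hT.exA
    obtain ⟨b, hb, hbA⟩ := hT.exB
    exact (hT.fix a ha b hb (hcomm.is_comm.comm a b)).elim haB hbA

end TwoEA

end Cfsg.Agent.ABRec
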