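import Cfsg.Agent.Lib.ABRec.Closed
import Cfsg.Agent.Lib.ABRec.Simple
import Mathlib.GroupTheory.IsPerfect

/-!
Both sides open, no odd normal subgroup, generated by the conjugates of the Sylow subgroup: the closure `K` of the
common fixed points has an elementary abelian Sylow subgroup, `A` and `B` centralise it modulo that subgroup, and
modulo `K` the group is simple of the type with nothing fixed by both closures.
-/

set_option autoImplicit false
set_option linter.style.haveILetI false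
set_option linter.unusedSectionVars false

namespace Cfsg.Agent.ABRec

open Subgroup Cfsg.Agent.GoldStruct
open scoped commutatorElement

universe u v

section General

variable {Q : Type u} [Group Q]

/-- The derived subgroup of a central extension of a simple group. -/
theorem perfect_quotient {H : Type v} [Group H] [IsSimpleGroup H] (hH : ¬ IsMulCommutative H)
    (M : Subgroup Q) (g : M →* H) (hg : Function.Surjective g)
    (hker : g.ker ≤ center M) :
    Group.IsPerfect ↥(commutator M) ∧ Function.Surjective (g.comp (commutator M).subtype) ∧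
      (g.comp (commutator M).subtype).ker = center ↥(commutator M) ∧
        ∀ m : M, ∃ l ∈ commutator M, ∃ c ∈ g.ker, m = l * c := by
  have hperf : commutator H = ⊤ :=
    ((inferInstance : (commutator H).Normal).eq_bot_or_eq_top).resolve_left fun e => hH
      ⟨⟨fun a b => commutatorElement_eq_one_iff_mul_comm.1 (mem_bot.1 (e ▸
        commutator_mem_commutator (mem_top a) (mem_top b)))⟩⟩
  have hcenH : center H = ⊥ := (inferInstance : (center H).Normal).eq_bot_or_eq_top.resolve_right fun h => hH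
    ⟨⟨fun a b => mem_center_iff.1 (h ▸ mem_top b) a⟩⟩
  have hsurj : Function.Surjective (g.comp (commutator M).subtype) := by
    intro y
    have hy : y ∈ (commutator M).map g := by
      rw [map_commutator_eq, MonoidHom.range_eq_top.2 hg, ← _root_.commutator_def, hperf]
      exact mem_top y
    obtain ⟨x, hx, e⟩ := hy
    exact ⟨⟨x, hx⟩, e⟩
  have hdec : ∀ m : M, ∃ l ∈ commutator M, ∃ c ∈ g.ker, m = l * c := fun m => by
    obtain ⟨l, hl⟩ := hsurj (g m)
    have hl' : g (l : M) = g m := hl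
    exact ⟨l, l.2, (l : M)⁻¹ * m, MonoidHom.mem_ker.2 (by rw [map_mul, map_inv, hl', inv_mul_cancel]), by group⟩
  refine ⟨⟨eq_top_iff.2 fun x _ => ?_⟩, hsurj, le_antisymm (fun x hx => ?_) (fun x hx => ?_), hdec⟩
  · have hle : commutator M ≤ ⁅commutator M, commutator M⁆ := by
      conv_lhs => rw [_root_.commutator_def]
      rw [commutator_le]
      intro a _ b _
      obtain ⟨l, hl, c, hc, rfl⟩ := hdec a
      obtain ⟨l', hl', c', hc', rfl⟩ := hdec b
      have z : ∀ y, Commute c y := fun y => (mem_center_iff.1 (hker hc) y).symm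
      have z' : ∀ y, Commute c' y := fun y => (mem_center_iff.1 (hker hc') y).symm
      have e : ⁅l * c, l' * c'⁆ = ⁅l, l'⁆ := by
        rw [commutatorElement_def, commutatorElement_def,
          show l * c * (l' * c') * (l * c)⁻¹ * (l' * c')⁻¹ = l * (c * (l' * c')) * c⁻¹ * l⁻¹ * c'⁻¹ * l'⁻¹ by group,
          (z (l' * c')).eq, show l * (l' * c' * c) * c⁻¹ * l⁻¹ * c'⁻¹ * l'⁻¹ = l * l' * (c' * l⁻¹) * c'⁻¹ * l'⁻¹ by
            group, (z' l⁻¹).eq]
        group
      rw [e]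
      exact commutator_mem_commutator hl hl'
    have h1 : (x : M) ∈ ⁅commutator M, commutator M⁆ := hle x.2
    rw [← map_subtype_commutator] at h1
    obtain ⟨y, hy, e⟩ := h1
    rwa [← Subtype.ext (p := fun z => z ∈ commutator M) (a1 := y) (a2 := x) e]
  · exact mem_center_iff.2 fun y => Subtype.ext (mem_center_iff.1 (hker hx) (y : M))
  · refine MonoidHom.mem_ker.2 ?_
    have h1 : g.comp (commutator M).subtype x ∈ center H := mem_center_iff.2 fun y => by
      obtain ⟨y, rfl⟩ := hsurj y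
      rw [← map_mul, ← map_mul, mem_center_iff.1 hx y]
    rwa [hcenH, mem_bot] at h1

end General

variable {Y : Type u} [Group Y] [Finite Y] {S : Sylow 2 Y} {A B : Subgroup Y}

namespace TwoEA

variable (hT : TwoEA S A B)
include hT

/-- `A` acts on a normal subgroup generated by conjugates of a part of `A` inside that part. -/
theorem split_A (hg : GoldInputs.{u}) (hO : ∀ N : Subgroup Y, N.Normal → Odd (Nat.card N) → N = ⊥)
    {D K : Subgroup Y} [hK : K.Normal] (hDA : D ≤ A)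
    (hKgen : normalClosure ((D.subgroupOf K : Subgroup K) : Set K) = ⊤)
    (hSK : (S : Subgroup Y) ⊓ K = D) {a : Y} (ha : a ∈ A) :
    ∃ d ∈ D, d⁻¹ * a ∈ centralizer (K : Set Y) := by
  classical
  haveI : Fact (Nat.Prime 2) := ⟨Nat.prime_two⟩
  obtain ⟨H, hH⟩ : ∃ H : Subgroup Y, H = K ⊔ A := ⟨_, rfl⟩
  have hKH : K ≤ H := hH ▸ le_sup_left
  have hAH : A ≤ H := hH ▸ le_sup_right
  have hdec : ∀ x ∈ H, ∃ k ∈ K, ∃ a ∈ A, k * a = x := fun x hx => mem_sup_of_normal_left.1 (hH ▸ hx)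
  have hDK : D ≤ K := hSK ▸ inf_le_right
  obtain ⟨R, hR⟩ := GoldStruct.sylow_inf S hK
  rw [hSK] at hR
  -- `A` is a Sylow subgroup of `K A`
  obtain ⟨P, hP⟩ := ((S.isPGroup'.to_le hT.leA).comap_of_injective H.subtype H.subtype_injective).exists_le_sylow
  have hPA : ∀ x : H, x ∈ (P : Subgroup H) ↔ (x : Y) ∈ A := by
    refine fun x => ⟨fun hx => ?_, fun h => hP h⟩
    obtain ⟨k, hk, a', ha', e⟩ := hdec x x.2
    have hkP : (⟨k, hKH hk⟩ : H) ∈ (P : Subgroup H) := by
      have e1 : (⟨k, hKH hk⟩ : H) = x * ⟨a', hAH ha'⟩⁻¹ := Subtype.ext (by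
        show k = (x : Y) * a'⁻¹
        rw [← e, mul_inv_cancel_right])
      rw [e1]
      exact mul_mem hx (inv_mem (hP ha'))
    have hU : IsPGroup 2 (((P : Subgroup H).map H.subtype).subgroupOf K) := (P.isPGroup'.map _).comap_subtype
    have hRU : (R : Subgroup K) ≤ ((P : Subgroup H).map H.subtype).subgroupOf K := by
      rw [hR]
      exact fun d hd => ⟨⟨d, hAH (hDA hd)⟩, hP (hDA hd), rfl⟩
    have hk' : (⟨k, hk⟩ : K) ∈ (R : Subgroup K) := by
      rw [← R.is_maximal' hU hRU]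
      exact ⟨⟨k, hKH hk⟩, hkP, rfl⟩
    rw [hR] at hk'
    rw [← e]
    exact mul_mem (hDA hk') ha'
  have hsc : SC P (A.subgroupOf H) := by
    refine ⟨fun a ha b hb => Subtype.ext (hT.comm_left ha hb), fun x hx => (hPA x).2 hx, fun a _ g hg => ?_⟩
    exact (hPA _).1 hg
  have hOH : ∀ N : Subgroup H, N.Normal → Odd (Nat.card N) → N = ⊥ := by
    intro N hN hodd
    have hNK : N.comap (inclusion hKH) = ⊥ := by
      refine core_bot_normal hO hK _ (hN.comap _) ?_
      obtain ⟨c, hc⟩ := card_dvd_of_injective ((inclusion hKH).subgroupComap N) (fun p q e => Subtype.ext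
        (inclusion_injective hKH (congrArg Subtype.val e)))
      rw [hc] at hodd
      exact (Nat.odd_mul.1 hodd).1
    refine eq_bot_iff.2 fun x hx => mem_bot.2 ?_
    obtain ⟨k, hk, a', ha', e⟩ := hdec x x.2
    have hx2 : (x : Y) * x ∈ K := by
      rw [← e, show k * a' * (k * a') = k * (a' * k * a'⁻¹) * (a' * a') by group, hT.sqA a' ha', mul_one]
      exact mul_mem hk (hK.conj_mem k hk a')
    have h1 : (⟨(x : Y) * x, hx2⟩ : K) ∈ N.comap (inclusion hKH) := by
      show (⟨(x : Y) * x, _⟩ : H) ∈ N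
      exact (mul_mem hx hx : x * x ∈ N)
    rw [hNK, mem_bot] at h1
    have hx2' : x * x = 1 := Subtype.ext (congrArg (fun y : K => (y : Y)) h1)
    by_contra hne
    have ho : orderOf x = 2 := orderOf_eq_prime (by rw [pow_two]; exact hx2') hne
    exact Nat.not_even_iff_odd.2 hodd (even_iff_two_dvd.2 (ho ▸ Subgroup.orderOf_dvd_natCard _ hx))
  have hgenH : normalClosure ((A.subgroupOf H : Subgroup H) : Set H) = ⊤ := by
    refine eq_top_iff.2 fun x _ => ?_
    obtain ⟨k, hk, a', ha', e⟩ := hdec x x.2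
    haveI : (normalClosure ((A.subgroupOf H : Subgroup H) : Set H)).Normal := normalClosure_normal
    have hK1 : normalClosure ((D.subgroupOf K : Subgroup K) : Set K) ≤
        (normalClosure ((A.subgroupOf H : Subgroup H) : Set H)).comap (inclusion hKH) :=
      normalClosure_le_normal fun d hd => subset_normalClosure (show ((inclusion hKH d : H) : Y) ∈ A from hDA hd)
    have h1 : (⟨k, hKH hk⟩ : H) ∈ normalClosure ((A.subgroupOf H : Subgroup H) : Set H) :=
      hK1 (hKgen ▸ mem_top (⟨k, hk⟩ : K))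
    rw [show x = ⟨k, hKH hk⟩ * ⟨a', hAH ha'⟩ from Subtype.ext e.symm]
    exact mul_mem h1 (subset_normalClosure ha')
  obtain ⟨c1, c2, c3, -⟩ := structure_of hg.simple hg.walter hg.noField hOH hsc hgenH
  haveI := LEBasic.pCore_characteristic (p := 2) (G := H)
  obtain ⟨r, hr, c, hc, e⟩ := mem_sup_of_normal_left.1 (c1 ▸ mem_top (⟨a, hAH ha⟩ : H) :
    (⟨a, hAH ha⟩ : H) ∈ Cfsg.pCore 2 H ⊔ commutator H)
  have hrA : (r : Y) ∈ A := by
    have hm : r ∈ A.subgroupOf H := c3 ▸ mem_sup_left hr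
    exact hm
  -- the derived subgroup lies in `K`
  have hcK : (c : Y) ∈ K := by
    have hle : commutator H ≤ K.subgroupOf H := by
      rw [_root_.commutator_def, commutator_le]
      intro x _ y _
      obtain ⟨k, hk, a', ha', ex⟩ := hdec x x.2
      obtain ⟨l, hl, b', hb', ey⟩ := hdec y y.2
      refine mem_subgroupOf.2 ((QuotientGroup.eq_one_iff (N := K) _).1 ?_)
      show QuotientGroup.mk' K ((⁅x, y⁆ : H) : Y) = 1
      have hk1 : QuotientGroup.mk' K k = 1 := (QuotientGroup.eq_one_iff k).2 hk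
      have hl1 : QuotientGroup.mk' K l = 1 := (QuotientGroup.eq_one_iff l).2 hl
      rw [commutatorElement_def]
      simp only [coe_mul, coe_inv, ← ex, ← ey, map_mul, map_inv, hk1, hl1, one_mul]
      rw [← map_mul, hT.comm_left ha' hb', map_mul]
      group
    exact mem_subgroupOf.1 (hle hc)
  have e' : (r : Y) * c = a := congrArg Subtype.val e
  have hcD : (c : Y) ∈ D := by
    rw [← hSK]
    refine ⟨?_, hcK⟩
    rw [show (c : Y) = (r : Y)⁻¹ * a by rw [← e', inv_mul_cancel_left]]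
    exact hT.leA (mul_mem (inv_mem hrA) ha)
  refine ⟨c, hcD, mem_centralizer_iff.2 fun k hk => ?_⟩
  have hrk : k * (r : Y) = r * k :=
    congrArg Subtype.val (mem_center_iff.1 (c2 hr) (⟨k, hKH hk⟩ : H))
  rw [show (c : Y)⁻¹ * a = r by rw [← e', hT.comm_left hrA (hDA hcD), inv_mul_cancel_left]]
  exact hrk

/-- The split. -/
theorem exists_split (hg : GoldInputs.{u}) (hO : ∀ N : Subgroup Y, N.Normal → Odd (Nat.card N) → N = ⊥)
    (hgen : normalClosure ((S : Subgroup Y) : Set Y) = ⊤) (hoA : Open A B) (hoB : Open B A)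
    (h4A : 4 ≤ A.relIndex (S : Subgroup Y)) (h4B : 4 ≤ B.relIndex (S : Subgroup Y)) :
    ∃ K L : Subgroup Y, (∀ a ∈ K, ∀ l ∈ L, a * l = l * a) ∧ K ⊔ L = ⊤ ∧
      (∀ P : Sylow 2 ↥K, IsMulCommutative ↥(P : Subgroup ↥K) ∧ ∀ x ∈ (P : Subgroup ↥K), x ^ 2 = 1) ∧
      Group.IsPerfect ↥L ∧
      ∃ (Yq : Type u) (_ : Group Yq) (_ : Finite Yq) (_ : IsSimpleGroup Yq) (S' : Sylow 2 Yq) (A' B' : Subgroup Yq),
        Two S' A' B' (A.relIndex (S : Subgroup Y)) ∧ Nonempty (↥L ⧸ center ↥L ≃* Yq) := by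
  classical
  haveI : Fact (Nat.Prime 2) := ⟨Nat.prime_two⟩
  have hc := hT.toCfg
  have hA := hT.sideHyp h4A (hc.open_iff.1 hoA)
  have hB : SideHyp (S : Subgroup Y) B (A ⊓ B) := by
    rw [inf_comm]; exact hT.symm.sideHyp h4B (hc.symm.open_iff.1 hoB)
  obtain ⟨D, hD⟩ : ∃ D, D = sideC (S : Subgroup Y) A ⊓ sideC (S : Subgroup Y) B := ⟨_, rfl⟩
  have hsc : SC S D := hD ▸ hT.common_closed hA hB
  have hDC : D ≤ sideC (S : Subgroup Y) A := hD ▸ inf_le_left
  have hDC' : D ≤ sideC (S : Subgroup Y) B := hD ▸ inf_le_right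
  have hDZ : D ≤ A ⊓ B := hDC.trans hA.sideC_le
  obtain ⟨K, hK⟩ : ∃ K, K = normalClosure (D : Set Y) := ⟨_, rfl⟩
  haveI hKn : K.Normal := hK ▸ normalClosure_normal
  have hDK : D ≤ K := hK ▸ fun d hd => subset_normalClosure hd
  have hinv : ∀ x ∈ (S : Subgroup Y), x ∈ K → x * x = 1 → x ∈ D := fun x hx hxK h2 =>
    invol_mem_of_closed hg hsc hx (hK ▸ hxK) h2
  have hcomm : ∀ a ∈ A, ∀ b ∈ B, a * b * a⁻¹ * b⁻¹ ∈ D → a ∈ B ∨ b ∈ A :=
    fun a ha b hb h => hT.comm_sideC hA hB ha hb (hDC h)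
  -- the Sylow subgroup of `K`
  have hSK : (S : Subgroup Y) ⊓ K = D := by
    refine le_antisymm (fun x hx => ?_) (le_inf hsc.le hDK)
    obtain ⟨hxS, hxK⟩ := mem_inf.1 hx
    obtain ⟨F, i1, i2, i3, -, ⟨f⟩⟩ := hT.exists_frame hA hB
    obtain ⟨a, ha, haB⟩ := hT.exA
    have haS := hT.leA ha
    have h1 : x * a * x⁻¹ * a⁻¹ ∈ A := (hT.quad hxS ha).1
    have h2 : x * a * x⁻¹ * a⁻¹ ∈ D := by
      refine hinv _ (hT.leA h1) ?_ (hT.sqA _ h1)
      rw [show x * a * x⁻¹ * a⁻¹ = x * (a * x⁻¹ * a⁻¹) by group]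
      exact mul_mem hxK (hKn.conj_mem _ (inv_mem hxK) a)
    have hxA : x ∈ A := (f.comm_mem hT.normA (fun a ha b hb => hT.comm_left ha hb) hxS ha (hDC h2)).resolve_right
      fun h => haB h.2
    exact hinv x hxS hxK (hT.sqA x hxA)
  have hKgen : normalClosure ((D.subgroupOf K : Subgroup K) : Set K) = ⊤ := normalClosure_eq_top hsc K hK
  obtain ⟨M, hM⟩ : ∃ M, M = centralizer (K : Set Y) := ⟨_, rfl⟩
  haveI hMn : M.Normal := hM ▸ inferInstance
  have hMc : ∀ k ∈ K, ∀ m ∈ M, k * m = m * k := fun k hk m hm => mem_centralizer_iff.1 (hM ▸ hm) k hk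
  have hKM : K ⊔ M = ⊤ := by
    refine eq_top_iff.2 (hgen.ge.trans (normalClosure_le_normal ?_))
    show (S : Subgroup Y) ≤ K ⊔ M
    rw [← hT.sup_eq, sup_le_iff]
    refine ⟨fun a ha => ?_, fun b hb => ?_⟩
    · obtain ⟨d, hd, h⟩ := hT.split_A hg hO (hDZ.trans inf_le_left) hKgen hSK ha
      rw [show a = d * (d⁻¹ * a) by group]
      exact mul_mem_sup (hDK hd) (hM ▸ h)
    · obtain ⟨d, hd, h⟩ := hT.symm.split_A hg hO (hDZ.trans inf_le_right) hKgen hSK hb
      rw [show b = d * (d⁻¹ * b) by group]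
      exact mul_mem_sup (hDK hd) (hM ▸ h)
  -- the quotient
  obtain ⟨π, hπ⟩ : ∃ π : Y →* Y ⧸ K, π = QuotientGroup.mk' K := ⟨_, rfl⟩
  have hs : Function.Surjective π := hπ ▸ QuotientGroup.mk'_surjective K
  have hπk : ∀ x, π x = 1 ↔ x ∈ K := fun x => by rw [hπ]; exact QuotientGroup.eq_one_iff x
  have hker : ∀ s ∈ (S : Subgroup Y), π s = 1 → s ∈ D := fun s hs' h => hSK ▸ ⟨hs', (hπk s).1 h⟩
  have hOQ : ∀ N : Subgroup (Y ⧸ K), N.Normal → Odd (Nat.card N) → N = ⊥ := by
    intro N hN hodd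
    haveI := hN
    obtain ⟨N1, hN1⟩ : ∃ N1, N1 = N.comap π ⊓ M := ⟨_, rfl⟩
    haveI hN1n : N1.Normal := hN1 ▸ inferInstance
    have hN1S : ∀ x ∈ N1, x ∈ (S : Subgroup Y) → x ∈ D := by
      intro x hx hxS
      rw [hN1] at hx
      refine hker x hxS ?_
      by_contra hne
      obtain ⟨j, hj⟩ := IsPGroup.iff_orderOf.1 ((S.isPGroup'.map π)) ⟨π x, mem_map_of_mem π hxS⟩
      rw [Subgroup.orderOf_mk] at hj
      have hd : 2 ^ j ∣ Nat.card N := hj ▸ Subgroup.orderOf_dvd_natCard _ (mem_comap.1 hx.1)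
      rcases j with _ | j
      · exact hne (orderOf_eq_one_iff.1 hj)
      · exact Nat.not_even_iff_odd.2 hodd (even_iff_two_dvd.2 ((dvd_pow_self 2 j.succ_ne_zero).trans hd))
    have hle : N1 ≤ (S : Subgroup Y) := le_sylow_of_central hO S hN1n fun x hx hxS y hy =>
      hMc x (hDK (hN1S x hx hxS)) y ((hN1 ▸ inf_le_right : N1 ≤ M) hy)
    refine eq_bot_iff.2 fun y hy => mem_bot.2 ?_
    obtain ⟨n, rfl⟩ := hs y
    obtain ⟨k, hk, m, hm, rfl⟩ := mem_sup_of_normal_left.1 (hKM ▸ mem_top n : n ∈ K ⊔ M)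
    rw [map_mul, (hπk k).2 hk, one_mul] at hy ⊢
    have hm1 : m ∈ N1 := hN1 ▸ ⟨hy, hm⟩
    exact (hπk m).2 (hDK (hN1S m hm1 (hle hm1)))
  have hT' : TwoEA (S.mapSurjective hs) (A.map π) (B.map π) := hT.map hs hDZ hker hcomm
  have hoA' : Open (A.map π) (B.map π) := hT.open_map hDZ hker hoA
  have hoB' : Open (B.map π) (A.map π) := hT.symm.open_map (hDZ.trans (inf_comm A B).le) hker hoB
  have hc' := hT'.toCfg
  have hS' : ((S.mapSurjective hs : Sylow 2 (Y ⧸ K)) : Subgroup (Y ⧸ K)) = (S : Subgroup Y).map π := rfl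
  have hidx : ∀ C : Subgroup Y, C ≤ (S : Subgroup Y) → D ≤ C →
      (C.map π).relIndex ((S : Subgroup Y).map π) = C.relIndex (S : Subgroup Y) := by
    intro C hC hDC0
    rw [← relIndex_comap, comap_map_eq]
    have e : ∀ R : Subgroup Y, R ≤ (S : Subgroup Y) → D ≤ R → (R ⊔ π.ker) ⊓ (S : Subgroup Y) = R := by
      intro R hR hDR
      refine le_antisymm (fun x hx => ?_) (le_inf le_sup_left hR)
      obtain ⟨⟨r, hr, k, hk, rfl⟩, hxS⟩ : (∃ r ∈ R, ∃ k ∈ π.ker, r * k = x) ∧ x ∈ (S : Subgroup Y) :=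
        ⟨mem_sup_of_normal_right.1 (mem_inf.1 hx).1, (mem_inf.1 hx).2⟩
      refine mul_mem hr (hDR (hker k ?_ (MonoidHom.mem_ker.1 hk)))
      simpa using mul_mem (inv_mem (hR hr)) hxS
    rw [← inf_relIndex_right, e C hC hDC0]
  have h4A' : 4 ≤ (A.map π).relIndex ((S.mapSurjective hs : Sylow 2 (Y ⧸ K)) : Subgroup (Y ⧸ K)) := by
    rw [hS', hidx A hT.leA (hDZ.trans inf_le_left)]; exact h4A
  have h4B' : 4 ≤ (B.map π).relIndex ((S.mapSurjective hs : Sylow 2 (Y ⧸ K)) : Subgroup (Y ⧸ K)) := by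
    rw [hS', hidx B hT.leB (hDZ.trans inf_le_right)]; exact h4B
  have hA' := hT'.sideHyp h4A' (hc'.open_iff.1 hoA')
  have hB' : SideHyp ((S.mapSurjective hs : Sylow 2 (Y ⧸ K)) : Subgroup (Y ⧸ K)) (B.map π) (A.map π ⊓ B.map π) := by
    rw [inf_comm]; exact hT'.symm.sideHyp h4B' (hc'.symm.open_iff.1 hoB')
  have h0 : sideC ((S.mapSurjective hs : Sylow 2 (Y ⧸ K)) : Subgroup (Y ⧸ K)) (A.map π) ⊓
      sideC ((S.mapSurjective hs : Sylow 2 (Y ⧸ K)) : Subgroup (Y ⧸ K)) (B.map π) = ⊥ := by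
    refine eq_bot_iff.2 fun y hy => mem_bot.2 ?_
    obtain ⟨hyA, hyB⟩ := mem_inf.1 hy
    obtain ⟨c, hc0, rfl⟩ := (mem_sideC.1 hyA).1
    have hcB : c ∈ B := (hT.map_mem_iff hker hT.leB (hDZ.trans inf_le_right) (hT.leA hc0)).1 (mem_sideC.1 hyB).1
    refine (hπk c).2 (hDK (hD ▸ mem_inf.2 ⟨hT.sideC_map hs hDZ hker hDC hA hB hc0 hyA, ?_⟩))
    exact hT.symm.sideC_map hs (hDZ.trans (inf_comm A B).le) hker hDC' (by rwa [inf_comm]) (by rwa [inf_comm])
      hcB hyB
  have hgen' : normalClosure (((S.mapSurjective hs : Sylow 2 (Y ⧸ K)) : Subgroup (Y ⧸ K)) : Set (Y ⧸ K)) = ⊤ := by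
    have hle : (S : Subgroup Y) ≤ (normalClosure (((S : Subgroup Y).map π : Subgroup (Y ⧸ K)) : Set (Y ⧸ K))).comap π :=
      fun x hx => subset_normalClosure (mem_map_of_mem π hx)
    have htop := eq_top_iff.2 (hgen.ge.trans (normalClosure_le_normal hle))
    exact eq_top_iff.2 fun y _ => by
      obtain ⟨x, rfl⟩ := hs y
      exact mem_comap.1 (htop ▸ mem_top x)
  obtain ⟨hsimp, hnc⟩ := hT'.isSimple hOQ hgen' hA' hB' h0
  haveI := hsimp
  -- the type
  have h4card : 4 * Nat.card (A.map π) ≤ Nat.card ((S.mapSurjective hs : Sylow 2 (Y ⧸ K)) : Subgroup (Y ⧸ K)) := by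
    rw [hc'.card_S_eq, mul_comm]
    exact Nat.mul_le_mul_left _ h4A'
  obtain ⟨q, hq⟩ := typeStmt (Y ⧸ K) _ _ _ hc' hoA' hoB' h4card h0
  have hqe : q = A.relIndex (S : Subgroup Y) := by
    rw [← hidx A hT.leA (hDZ.trans inf_le_left)]
    refine Nat.eq_of_mul_eq_mul_left (Nat.card_pos (α := A.map π)) ?_
    rw [← hq.card_S, hc'.card_S_eq, hS']
  subst hqe
  -- the perfect part
  have hgs : Function.Surjective (π.comp M.subtype) := by
    intro y
    obtain ⟨x, rfl⟩ := hs y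
    obtain ⟨k, hk, m, hm, rfl⟩ := mem_sup_of_normal_left.1 (hKM ▸ mem_top x : x ∈ K ⊔ M)
    exact ⟨⟨m, hm⟩, by simp [(hπk k).2 hk]⟩
  have hgk : (π.comp M.subtype).ker ≤ center M := fun m hm => mem_center_iff.2 fun y =>
    Subtype.ext (hMc (m : Y) ((hπk _).1 hm) y y.2).symm
  obtain ⟨hperf, hsurj, hkl, hdec⟩ := perfect_quotient hnc M _ hgs hgk
  refine ⟨K, (commutator M).map M.subtype, ?_, ?_, ?_, ?_, Y ⧸ K, inferInstance, inferInstance, hsimp, _, _, _, hq, ?_⟩
  · rintro k hk _ ⟨l, -, rfl⟩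
    exact hMc k hk l l.2
  · refine eq_top_iff.2 (hKM.ge.trans (sup_le le_sup_left fun m hm => ?_))
    obtain ⟨l, hl, c, hc1, e⟩ := hdec ⟨m, hm⟩
    rw [show m = (l : Y) * c from congrArg Subtype.val e]
    exact mul_mem (mem_sup_right ⟨l, hl, rfl⟩) (mem_sup_left ((hπk _).1 hc1))
  · intro P
    obtain ⟨R, hR⟩ := GoldStruct.sylow_inf S hKn
    rw [hSK] at hR
    have hsq : ∀ x ∈ (P : Subgroup K), x ^ 2 = 1 := by
      intro x hx
      obtain ⟨g, hg'⟩ := MulAction.exists_smul_eq K P R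
      have h1 : g * x * g⁻¹ ∈ (R : Subgroup K) := by rw [← hg']; exact ⟨x, hx, rfl⟩
      rw [hR] at h1
      have h2 : (g * x * g⁻¹) * (g * x * g⁻¹) = 1 := Subtype.ext (hT.sqA _ (hDZ h1).1)
      rw [show g * x * g⁻¹ * (g * x * g⁻¹) = g * (x * x) * g⁻¹ by group, conj_eq_one_iff] at h2
      rw [pow_two, h2]
    exact ⟨⟨⟨fun p q => Subtype.ext (elem_comm (fun a ha => by rw [← pow_two]; exact hsq a ha) p.2 q.2)⟩⟩, hsq⟩
  · haveI := hperf
    exact Group.IsPerfect.map _
  · let e0 := (commutator M).equivMapOfInjective M.subtype M.subtype_injective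
    let ψ : ↥((commutator M).map M.subtype) →* Y ⧸ K :=
      ((π.comp M.subtype).comp (commutator M).subtype).comp e0.symm.toMonoidHom
    have hψs : Function.Surjective ψ := hsurj.comp e0.symm.surjective
    have hψk : ψ.ker = center _ := by
      ext x
      have h1 : x ∈ ψ.ker ↔ e0.symm x ∈ center ↥(commutator M) := by rw [← hkl]; rfl
      rw [h1, mem_center_iff, mem_center_iff]
      refine ⟨fun h y => e0.symm.injective ?_, fun h y => e0.injective ?_⟩
      · rw [map_mul, map_mul, h]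
      · have := h (e0 y)
        rwa [map_mul, map_mul, MulEquiv.apply_symm_apply]
    exact ⟨(QuotientGroup.quotientMulEquivOfEq hψk.symm).trans (QuotientGroup.quotientKerEquivOfSurjective ψ hψs)⟩

end TwoEA

end Cfsg.Agent.ABRec
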